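import Groth.Agent.AlgSp.K594.Basic

/-!
# Diagonals, elementwise

* `prod_ext`, `exists_prod`: sections of a binary product.
* `IsEq a b v` : `v : V ⟶ U` represents the locus where the sections `a b ∈ F(U)` agree.
* `representable_diag_iff`, `repWith_diag_of`, `repWith_diag_iff`: the diagonal of `F`.
* `repWith_diagonal_of`, `repWith_diagonal_iff`: the diagonal of a morphism `f`.
-/

set_option autoImplicit false
set_option backward.isDefEq.respectTransparency.types false
universe u
open CategoryTheory CategoryTheory.Limits AlgebraicGeometry Opposite AlgSp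

namespace K594.Diag

open K594.Elem K594.Cover K594.Basic

variable {S : Scheme.{u}}

theorem prod_ext {F G : Sp S} {T : Over S} {z z' : (F ⨯ G).obj.obj (op T)}
    (h1 : (prod.fst : F ⨯ G ⟶ F).hom.app (op T) z = (prod.fst : F ⨯ G ⟶ F).hom.app (op T) z')
    (h2 : (prod.snd : F ⨯ G ⟶ G).hom.app (op T) z = (prod.snd : F ⨯ G ⟶ G).hom.app (op T) z') :
    z = z' := by
  apply (secEquiv (F := F ⨯ G) (U := T)).symm.injective
  apply Limits.prod.hom_ext
  · apply hom_ext
    rintro Z ⟨k⟩
    rw [comp_app, comp_app, yonEquiv_symm_apply, yonEquiv_symm_apply, app_map, app_map, h1]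
  · apply hom_ext
    rintro Z ⟨k⟩
    rw [comp_app, comp_app, yonEquiv_symm_apply, yonEquiv_symm_apply, app_map, app_map, h2]

theorem exists_prod {F G : Sp S} {T : Over S} (a : F.obj.obj (op T)) (b : G.obj.obj (op T)) :
    ∃ z : (F ⨯ G).obj.obj (op T), (prod.fst : F ⨯ G ⟶ F).hom.app (op T) z = a ∧
      (prod.snd : F ⨯ G ⟶ G).hom.app (op T) z = b := by
  refine ⟨(prod.lift (secEquiv.symm a) (secEquiv.symm b) : (yon S).obj T ⟶ F ⨯ G).hom.app
    (op T) ⟨𝟙 T⟩, ?_, ?_⟩
  · rw [← comp_app, prod.lift_fst, yonEquiv_symm_apply, map_id_apply]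
  · rw [← comp_app, prod.lift_snd, yonEquiv_symm_apply, map_id_apply]

theorem diag_fst {F : Sp S} {T : Over S} (a : F.obj.obj (op T)) :
    (prod.fst : F ⨯ F ⟶ F).hom.app (op T) ((Limits.diag F).hom.app (op T) a) = a := by
  rw [← comp_app, Limits.diag, prod.lift_fst]; rfl

theorem diag_snd {F : Sp S} {T : Over S} (a : F.obj.obj (op T)) :
    (prod.snd : F ⨯ F ⟶ F).hom.app (op T) ((Limits.diag F).hom.app (op T) a) = a := by
  rw [← comp_app, Limits.diag, prod.lift_snd]; rfl

/-- `v : V ⟶ U` represents the locus where two sections over `U` agree. -/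
structure IsEq {F : Sp S} {U : Over S} (a b : F.obj.obj (op U)) {V : Over S} (v : V ⟶ U) :
    Prop where
  eq : F.obj.map v.op a = F.obj.map v.op b
  mono : ∀ {T : Over S} (k l : T ⟶ V), k ≫ v = l ≫ v → k = l
  lift : ∀ {T : Over S} (t : T ⟶ U), F.obj.map t.op a = F.obj.map t.op b → ∃ k : T ⟶ V, k ≫ v = t

theorem IsEq.mono' {F : Sp S} {U : Over S} {a b : F.obj.obj (op U)} {V : Over S} {v : V ⟶ U}
    (h : IsEq a b v) : Mono v := ⟨fun k l e => h.mono k l e⟩

theorem IsEq.symm {F : Sp S} {U : Over S} {a b : F.obj.obj (op U)} {V : Over S} {v : V ⟶ U}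
    (h : IsEq a b v) : IsEq b a v :=
  ⟨h.eq.symm, h.mono, fun t ht => h.lift t ht.symm⟩

theorem IsEq.baseChange {F : Sp S} {U : Over S} {a b : F.obj.obj (op U)} {V : Over S} {v : V ⟶ U}
    (h : IsEq a b v) {U' V' : Over S} {g : U' ⟶ U} {v' : V' ⟶ U'} {g' : V' ⟶ V}
    (sq : IsPullback g' v' v g) : IsEq (F.obj.map g.op a) (F.obj.map g.op b) v' where
  eq := by
    rw [← map_comp_apply, ← map_comp_apply, ← sq.w, map_comp_apply, map_comp_apply, h.eq]
  mono k l e := by
    refine sq.hom_ext (h.mono _ _ ?_) e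
    rw [Category.assoc, Category.assoc, sq.w, reassoc_of% e]
  lift t ht := by
    rw [← map_comp_apply, ← map_comp_apply] at ht
    obtain ⟨k, hk⟩ := h.lift _ ht
    exact ⟨sq.lift k t hk, sq.lift_snd _ _ _⟩

theorem isRep_diag_iff {F : Sp S} {U : Over S} (z : (F ⨯ F).obj.obj (op U)) {V : Over S}
    (v : V ⟶ U) (ξ : F.obj.obj (op V)) :
    IsRep (Limits.diag F) z v ξ ↔
      IsEq ((prod.fst : F ⨯ F ⟶ F).hom.app (op U) z) ((prod.snd : F ⨯ F ⟶ F).hom.app (op U) z) v ∧
      ξ = F.obj.map v.op ((prod.fst : F ⨯ F ⟶ F).hom.app (op U) z) := by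
  constructor
  · intro h
    have e1 : ξ = F.obj.map v.op ((prod.fst : F ⨯ F ⟶ F).hom.app (op U) z) := by
      rw [← app_map, ← h.w, diag_fst]
    have e2 : ξ = F.obj.map v.op ((prod.snd : F ⨯ F ⟶ F).hom.app (op U) z) := by
      rw [← app_map, ← h.w, diag_snd]
    refine ⟨⟨e1.symm.trans e2, fun k l e => ?_, fun t ht => ?_⟩, e1⟩
    · apply h.inj k l e
      rw [e1, ← map_comp_apply, ← map_comp_apply, e]
    · obtain ⟨k, hk, -⟩ := h.lift t (F.obj.map t.op ((prod.fst : F ⨯ F ⟶ F).hom.app (op U) z)) (by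
        apply prod_ext
        · rw [diag_fst, app_map]
        · rw [diag_snd, app_map, ht])
      exact ⟨k, hk⟩
  · rintro ⟨h, rfl⟩
    refine ⟨?_, fun k l e _ => h.mono k l e, fun t x hx => ?_⟩
    · apply prod_ext
      · rw [diag_fst, app_map]
      · rw [diag_snd, app_map, h.eq]
    · have e1 : x = F.obj.map t.op ((prod.fst : F ⨯ F ⟶ F).hom.app (op U) z) := by
        rw [← app_map, ← hx, diag_fst]
      have e2 : x = F.obj.map t.op ((prod.snd : F ⨯ F ⟶ F).hom.app (op U) z) := by
        rw [← app_map, ← hx, diag_snd]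
      obtain ⟨k, hk⟩ := h.lift t (e1.symm.trans e2)
      exact ⟨k, hk, by rw [← map_comp_apply, hk, e1]⟩

theorem representable_diag_iff (F : Sp S) :
    Representable (Limits.diag F) ↔ ∀ {U : Over S} (a b : F.obj.obj (op U)),
      ∃ (V : Over S) (v : V ⟶ U), IsEq a b v := by
  rw [representable_iff]
  constructor
  · intro h U a b
    obtain ⟨z, rfl, rfl⟩ := exists_prod a b
    obtain ⟨V, v, ξ, hξ⟩ := h z
    exact ⟨V, v, ((isRep_diag_iff _ _ _).1 hξ).1⟩
  · intro h U z
    obtain ⟨V, v, hv⟩ := h ((prod.fst : F ⨯ F ⟶ F).hom.app (op U) z)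
      ((prod.snd : F ⨯ F ⟶ F).hom.app (op U) z)
    exact ⟨V, v, _, (isRep_diag_iff _ _ _).2 ⟨hv, rfl⟩⟩

theorem repWith_diag_of (P : MorphismProperty Scheme.{u}) [P.RespectsIso] (F : Sp S)
    (h : ∀ {U : Over S} (a b : F.obj.obj (op U)), ∃ (V : Over S) (v : V ⟶ U),
      IsEq a b v ∧ P v.left) : RepWith P (Limits.diag F) := by
  apply repWith_of_exists
  intro U z
  obtain ⟨V, v, hv, hP⟩ := h ((prod.fst : F ⨯ F ⟶ F).hom.app (op U) z)
    ((prod.snd : F ⨯ F ⟶ F).hom.app (op U) z)
  exact ⟨V, v, _, (isRep_diag_iff _ _ _).2 ⟨hv, rfl⟩, hP⟩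

theorem repWith_diag_iff (P : MorphismProperty Scheme.{u}) (F : Sp S) :
    RepWith P (Limits.diag F) ↔ Representable (Limits.diag F) ∧
      ∀ {U V : Over S} (a b : F.obj.obj (op U)) (v : V ⟶ U), IsEq a b v → P v.left := by
  rw [repWith_iff']
  refine and_congr_right fun _ => ⟨fun h U V a b v hv => ?_, fun h U V z v ξ hξ => ?_⟩
  · obtain ⟨z, rfl, rfl⟩ := exists_prod a b
    exact h z v _ ((isRep_diag_iff _ _ _).2 ⟨hv, rfl⟩)
  · exact h _ _ v ((isRep_diag_iff _ _ _).1 hξ).1

theorem exists_isEq {P : MorphismProperty Scheme.{u}} {F : Sp S} (h : RepWith P (Limits.diag F))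
    {U : Over S} (a b : F.obj.obj (op U)) : ∃ (V : Over S) (v : V ⟶ U), IsEq a b v ∧ P v.left := by
  obtain ⟨V, v, hv⟩ := (representable_diag_iff F).1 h.1 a b
  exact ⟨V, v, hv, ((repWith_diag_iff P F).1 h).2 a b v hv⟩

/-- The pairwise form of the diagonal: if `U ×_F U` is represented by `W` then the locus where
`a` and `b` agree is the pullback of `W ⟶ U × U` along the diagonal. -/
theorem isEq_of_isPullback {F : Sp S} {U W V : Over S} {a b : F.obj.obj (op U)} {fst snd : W ⟶ U}
    (h : IsPullback ((yon S).map fst) ((yon S).map snd) (secEquiv.symm a) (secEquiv.symm b))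
    {w : V ⟶ W} {v : V ⟶ U} (sq : IsPullback w v (prod.lift fst snd) (Limits.diag U)) :
    IsEq a b v := by
  obtain ⟨hw, hinj, hlift⟩ := (isPullback_iff _ _ _ _).1 h
  have e1 : w ≫ fst = v := by
    have := congrArg (fun k => k ≫ (prod.fst : U ⨯ U ⟶ U)) sq.w
    rwa [Category.assoc, Category.assoc, prod.lift_fst, Limits.diag, prod.lift_fst,
      Category.comp_id] at this
  have e2 : w ≫ snd = v := by
    have := congrArg (fun k => k ≫ (prod.snd : U ⨯ U ⟶ U)) sq.w
    rwa [Category.assoc, Category.assoc, prod.lift_snd, Limits.diag, prod.lift_snd,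
      Category.comp_id] at this
  have e3 : F.obj.map fst.op a = F.obj.map snd.op b := by
    have := congrArg (fun k : (yon S).obj W ⟶ F => k.hom.app (op W) ⟨𝟙 W⟩) hw
    change (secEquiv.symm a).hom.app (op W) ⟨𝟙 W ≫ fst⟩ =
      (secEquiv.symm b).hom.app (op W) ⟨𝟙 W ≫ snd⟩ at this
    rwa [yonEquiv_symm_apply, yonEquiv_symm_apply, Category.id_comp, Category.id_comp] at this
  refine ⟨?_, fun k l e => ?_, fun {T} t ht => ?_⟩
  · conv_lhs => rw [← e1]
    conv_rhs => rw [← e2]
    rw [map_comp_apply, map_comp_apply, e3]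
  · refine sq.hom_ext ?_ e
    have h1 : ∀ (m : V ⟶ U) (_ : v = m), k ≫ m = l ≫ m := fun m hm => by rw [← hm, e]
    have := hinj _ ⟨k ≫ w⟩ ⟨l ≫ w⟩ (congrArg ULift.up (by
        change (k ≫ w) ≫ fst = (l ≫ w) ≫ fst
        rw [Category.assoc, Category.assoc]; exact h1 _ e1.symm))
      (congrArg ULift.up (by
        change (k ≫ w) ≫ snd = (l ≫ w) ≫ snd
        rw [Category.assoc, Category.assoc]; exact h1 _ e2.symm))
    exact congrArg ULift.down this
  · obtain ⟨⟨z⟩, hz1, hz2⟩ := hlift T ⟨t⟩ ⟨t⟩ (by rw [yonEquiv_symm_apply, yonEquiv_symm_apply, ht])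
    have hz1' : z ≫ fst = t := congrArg ULift.down hz1
    have hz2' : z ≫ snd = t := congrArg ULift.down hz2
    refine ⟨sq.lift z t ?_, sq.lift_snd _ _ _⟩
    apply Limits.prod.hom_ext
    · rw [Category.assoc, Category.assoc, prod.lift_fst, Limits.diag, prod.lift_fst,
        Category.comp_id, hz1']
    · rw [Category.assoc, Category.assoc, prod.lift_snd, Limits.diag, prod.lift_snd,
        Category.comp_id, hz2']

section relative

variable {F G : Sp S} (f : F ⟶ G)

theorem pullback_ext {F G H : Sp S} {f : F ⟶ H} {g : G ⟶ H} {T : Over S}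
    {z z' : (pullback f g).obj.obj (op T)}
    (h1 : (pullback.fst f g).hom.app (op T) z = (pullback.fst f g).hom.app (op T) z')
    (h2 : (pullback.snd f g).hom.app (op T) z = (pullback.snd f g).hom.app (op T) z') :
    z = z' :=
  ((isPullback_iff _ _ _ _).1 (IsPullback.of_hasPullback f g)).2.1 T z z' h1 h2

theorem exists_pullback {F G H : Sp S} (f : F ⟶ H) (g : G ⟶ H) {T : Over S}
    (a : F.obj.obj (op T)) (b : G.obj.obj (op T)) (h : f.hom.app (op T) a = g.hom.app (op T) b) :
    ∃ z : (pullback f g).obj.obj (op T), (pullback.fst f g).hom.app (op T) z = a ∧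
      (pullback.snd f g).hom.app (op T) z = b :=
  ((isPullback_iff _ _ _ _).1 (IsPullback.of_hasPullback f g)).2.2 T a b h

theorem diagonal_fst {T : Over S} (a : F.obj.obj (op T)) :
    (pullback.fst f f).hom.app (op T) ((pullback.diagonal f).hom.app (op T) a) = a := by
  rw [← comp_app, pullback.diagonal_fst]; rfl

theorem diagonal_snd {T : Over S} (a : F.obj.obj (op T)) :
    (pullback.snd f f).hom.app (op T) ((pullback.diagonal f).hom.app (op T) a) = a := by
  rw [← comp_app, pullback.diagonal_snd]; rfl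

theorem isRep_diagonal_iff {U : Over S} (z : (pullback f f).obj.obj (op U)) {V : Over S}
    (v : V ⟶ U) (ξ : F.obj.obj (op V)) :
    IsRep (pullback.diagonal f) z v ξ ↔
      IsEq ((pullback.fst f f).hom.app (op U) z) ((pullback.snd f f).hom.app (op U) z) v ∧
      ξ = F.obj.map v.op ((pullback.fst f f).hom.app (op U) z) := by
  constructor
  · intro h
    have e1 : ξ = F.obj.map v.op ((pullback.fst f f).hom.app (op U) z) := by
      rw [← app_map, ← h.w, diagonal_fst]
    have e2 : ξ = F.obj.map v.op ((pullback.snd f f).hom.app (op U) z) := by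
      rw [← app_map, ← h.w, diagonal_snd]
    refine ⟨⟨e1.symm.trans e2, fun k l e => ?_, fun t ht => ?_⟩, e1⟩
    · apply h.inj k l e
      rw [e1, ← map_comp_apply, ← map_comp_apply, e]
    · obtain ⟨k, hk, -⟩ := h.lift t (F.obj.map t.op ((pullback.fst f f).hom.app (op U) z)) (by
        apply pullback_ext
        · rw [diagonal_fst, app_map]
        · rw [diagonal_snd, app_map, ht])
      exact ⟨k, hk⟩
  · rintro ⟨h, rfl⟩
    refine ⟨?_, fun k l e _ => h.mono k l e, fun t x hx => ?_⟩
    · apply pullback_ext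
      · rw [diagonal_fst, app_map]
      · rw [diagonal_snd, app_map, h.eq]
    · have e1 : x = F.obj.map t.op ((pullback.fst f f).hom.app (op U) z) := by
        rw [← app_map, ← hx, diagonal_fst]
      have e2 : x = F.obj.map t.op ((pullback.snd f f).hom.app (op U) z) := by
        rw [← app_map, ← hx, diagonal_snd]
      obtain ⟨k, hk⟩ := h.lift t (e1.symm.trans e2)
      exact ⟨k, hk, by rw [← map_comp_apply, hk, e1]⟩

theorem representable_diagonal_iff :
    Representable (pullback.diagonal f) ↔ ∀ {U : Over S} (a b : F.obj.obj (op U)),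
      f.hom.app (op U) a = f.hom.app (op U) b → ∃ (V : Over S) (v : V ⟶ U), IsEq a b v := by
  rw [representable_iff]
  constructor
  · intro h U a b hab
    obtain ⟨z, rfl, rfl⟩ := exists_pullback f f a b hab
    obtain ⟨V, v, ξ, hξ⟩ := h z
    exact ⟨V, v, ((isRep_diagonal_iff _ _ _ _).1 hξ).1⟩
  · intro h U z
    obtain ⟨V, v, hv⟩ := h ((pullback.fst f f).hom.app (op U) z)
      ((pullback.snd f f).hom.app (op U) z) (by rw [← comp_app, pullback.condition, comp_app])
    exact ⟨V, v, _, (isRep_diagonal_iff _ _ _ _).2 ⟨hv, rfl⟩⟩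

theorem repWith_diagonal_of (P : MorphismProperty Scheme.{u}) [P.RespectsIso]
    (h : ∀ {U : Over S} (a b : F.obj.obj (op U)), f.hom.app (op U) a = f.hom.app (op U) b →
      ∃ (V : Over S) (v : V ⟶ U), IsEq a b v ∧ P v.left) : RepWith P (pullback.diagonal f) := by
  apply repWith_of_exists
  intro U z
  obtain ⟨V, v, hv, hP⟩ := h ((pullback.fst f f).hom.app (op U) z)
    ((pullback.snd f f).hom.app (op U) z) (by rw [← comp_app, pullback.condition, comp_app])
  exact ⟨V, v, _, (isRep_diagonal_iff _ _ _ _).2 ⟨hv, rfl⟩, hP⟩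

theorem repWith_diagonal_iff (P : MorphismProperty Scheme.{u}) :
    RepWith P (pullback.diagonal f) ↔ Representable (pullback.diagonal f) ∧
      ∀ {U V : Over S} (a b : F.obj.obj (op U)) (v : V ⟶ U),
        f.hom.app (op U) a = f.hom.app (op U) b → IsEq a b v → P v.left := by
  rw [repWith_iff']
  refine and_congr_right fun _ => ⟨fun h U V a b v hab hv => ?_, fun h U V z v ξ hξ => ?_⟩
  · obtain ⟨z, rfl, rfl⟩ := exists_pullback f f a b hab
    exact h z v _ ((isRep_diagonal_iff _ _ _ _).2 ⟨hv, rfl⟩)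
  · exact h _ _ v (by rw [← comp_app, pullback.condition, comp_app])
      ((isRep_diagonal_iff _ _ _ _).1 hξ).1

end relative

end K594.Diag
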