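import Groth.Agent.AlgSp.K594.Basic
import Groth.Agent.Desc.MorDescent
import Groth.Agent.Desc.ImmersionDescent
import Groth.Agent.S0087
import Mathlib.AlgebraicGeometry.Morphisms.LocalFlatDescent
import Mathlib.AlgebraicGeometry.Cover.Sigma

/-!
# fppf-local properties of morphisms of schemes

`isLocalAtTarget_fppf P` : a Zariski-local property `P`, stable under base change, which descends along
flat surjective morphisms locally of finite presentation is local on the target for the fppf precoverage.
-/

set_option autoImplicit false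
set_option backward.isDefEq.respectTransparency.types false
universe u
open CategoryTheory CategoryTheory.Limits AlgebraicGeometry Opposite AlgSp MorphismProperty

namespace K594.Local

theorem prop_of_sigma (P : MorphismProperty Scheme.{u}) [P.IsStableUnderBaseChange]
    [IsZariskiLocalAtTarget P] {X Y : Scheme.{u}} (f : X ⟶ Y) {ι : Type u} (U : ι → Scheme.{u})
    (g : ∀ i, U i ⟶ Y) (h : ∀ i, P (pullback.snd f (g i))) :
    P (pullback.snd f (Sigma.desc g)) := by
  rw [IsZariskiLocalAtTarget.iff_of_openCover (P := P) (sigmaOpenCover U)]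
  intro i
  let e : pullback (pullback.snd f (Sigma.desc g)) (Sigma.ι U i) ≅
      pullback f (Sigma.ι U i ≫ Sigma.desc g) := pullbackLeftPullbackSndIso f (Sigma.desc g) _
  have he : pullback.snd (pullback.snd f (Sigma.desc g)) (Sigma.ι U i) =
      e.hom ≫ pullback.snd f (Sigma.ι U i ≫ Sigma.desc g) := by
    exact (pullbackLeftPullbackSndIso_hom_snd _ _ _).symm
  change P (pullback.snd (pullback.snd f (Sigma.desc g)) (Sigma.ι U i))
  rw [he, P.cancel_left_of_respectsIso]
  have h2 : Sigma.ι U i ≫ Sigma.desc g = g i := Sigma.ι_desc _ _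
  rw [h2]
  exact h i

theorem isLocalAtTarget_fppf (P : MorphismProperty Scheme.{u}) [P.IsStableUnderBaseChange]
    [IsZariskiLocalAtTarget P]
    [P.DescendsAlong (@Surjective ⊓ @Flat ⊓ @LocallyOfFinitePresentation)] :
    P.IsLocalAtTarget Scheme.fppfPrecoverage := by
  change P.IsLocalAtTarget (Scheme.precoverage (@Flat ⊓ @LocallyOfFinitePresentation))
  refine MorphismProperty.IsLocalAtTarget.mk_of_small.{u} ?_ ?_
  · intro X Y f 𝒰 hf i
    exact P.pullback_snd _ _ hf
  · intro X Y f 𝒰 h
    have hprop : ∀ i, (@Flat ⊓ @LocallyOfFinitePresentation : MorphismProperty Scheme.{u}) (𝒰.f i) :=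
      fun i => Scheme.Cover.map_prop 𝒰 i
    have h1 := prop_of_sigma P f 𝒰.X 𝒰.f h
    refine MorphismProperty.of_pullback_snd_of_descendsAlong (P := P)
      (Q := @Surjective ⊓ @Flat ⊓ @LocallyOfFinitePresentation) ⟨⟨?_, ?_⟩, ?_⟩ h1
    · refine ⟨fun y => ?_⟩
      obtain ⟨i, x, hx⟩ := Scheme.Cover.exists_eq 𝒰 y
      refine ⟨Sigma.ι 𝒰.X i x, ?_⟩
      rw [← Scheme.Hom.comp_apply, Sigma.ι_desc]
      exact hx
    · have := fun i => (hprop i).1
      exact IsZariskiLocalAtSource.sigmaDesc (P := @Flat) (fun _ => inferInstance)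
    · have := fun i => (hprop i).2
      exact IsZariskiLocalAtSource.sigmaDesc (P := @LocallyOfFinitePresentation)
        (fun _ => inferInstance)

theorem etale : MorphismProperty.IsLocalAtTarget @Etale.{u} Scheme.fppfPrecoverage :=
  isLocalAtTarget_fppf _

theorem surjective : MorphismProperty.IsLocalAtTarget @Surjective.{u} Scheme.fppfPrecoverage :=
  isLocalAtTarget_fppf _

theorem locallyOfFiniteType :
    MorphismProperty.IsLocalAtTarget @LocallyOfFiniteType.{u} Scheme.fppfPrecoverage :=
  isLocalAtTarget_fppf _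

theorem locallyOfFinitePresentation :
    MorphismProperty.IsLocalAtTarget @LocallyOfFinitePresentation.{u} Scheme.fppfPrecoverage :=
  isLocalAtTarget_fppf _

theorem smooth : MorphismProperty.IsLocalAtTarget @Smooth.{u} Scheme.fppfPrecoverage :=
  isLocalAtTarget_fppf _

theorem isOpenImmersion :
    MorphismProperty.IsLocalAtTarget @IsOpenImmersion.{u} Scheme.fppfPrecoverage :=
  isLocalAtTarget_fppf _

theorem isomorphisms :
    MorphismProperty.IsLocalAtTarget (MorphismProperty.isomorphisms Scheme.{u})
      Scheme.fppfPrecoverage :=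
  isLocalAtTarget_fppf _

theorem quasiCompact :
    MorphismProperty.IsLocalAtTarget @QuasiCompact.{u} Scheme.fppfPrecoverage :=
  have := Groth.Agent.Desc.MorDescent.descendsAlong_quasiCompact.{u}
  isLocalAtTarget_fppf _

theorem quasiSeparated :
    MorphismProperty.IsLocalAtTarget @QuasiSeparated.{u} Scheme.fppfPrecoverage :=
  have := Groth.Agent.Desc.MorDescent.descendsAlong_quasiSeparated.{u}
  isLocalAtTarget_fppf _

theorem isSeparated :
    MorphismProperty.IsLocalAtTarget @IsSeparated.{u} Scheme.fppfPrecoverage :=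
  have := Groth.Agent.Desc.MorDescent.descendsAlong_isSeparated.{u}
  isLocalAtTarget_fppf _

theorem isProper :
    MorphismProperty.IsLocalAtTarget @IsProper.{u} Scheme.fppfPrecoverage :=
  have := Groth.Agent.Desc.MorDescent.descendsAlong_isProper.{u}
  isLocalAtTarget_fppf _

theorem isAffineHom :
    MorphismProperty.IsLocalAtTarget @IsAffineHom.{u} Scheme.fppfPrecoverage :=
  have := Groth.Agent.Desc.MorDescent.descendsAlong_isAffineHom.{u}
  isLocalAtTarget_fppf _

theorem isClosedImmersion :
    MorphismProperty.IsLocalAtTarget @IsClosedImmersion.{u} Scheme.fppfPrecoverage :=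
  have := Groth.Agent.Desc.MorDescent.descendsAlong_isClosedImmersion.{u}
  isLocalAtTarget_fppf _

theorem isImmersion :
    MorphismProperty.IsLocalAtTarget @IsImmersion.{u} Scheme.fppfPrecoverage :=
  have := Groth.Agent.Desc.ImmersionDescent.descendsAlong_isImmersion_fppf.{u}
  isLocalAtTarget_fppf _

theorem locallyQuasiFinite_inf_locallyOfFiniteType :
    MorphismProperty.IsLocalAtTarget
      (@LocallyQuasiFinite ⊓ @LocallyOfFiniteType : MorphismProperty Scheme.{u})
      Scheme.fppfPrecoverage :=
  have := Groth.Agent.S0087.result.{u}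
  isLocalAtTarget_fppf _

end K594.Local
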