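import Groth.Agent.AlgSp.K594.Cover
import Mathlib.CategoryTheory.Sites.LocallyBijective
import Mathlib.CategoryTheory.Sites.RegularEpi

/-!
# The quotient sheaf of an equivalence relation

* `π s t : h_U ⟶ U/R`, `π_condition`, `π_surj`, `isColimit`, `desc`.
* `exists_of_π_eq` : effectivity: if `s, t : R ⟶ U` is an equivalence relation and `a b : T ⟶ U` have the same
  image in `U/R`, then `(a, b)` comes from `R`.
* `isPullback_π` : `h_R = h_U ×_{U/R} h_U`.
* `isColimit_of_kernelPair`: a locally surjective map is the coequalizer of its kernel pair.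
-/

set_option autoImplicit false
set_option backward.isDefEq.respectTransparency.types false
universe u
open CategoryTheory CategoryTheory.Limits AlgebraicGeometry Opposite AlgSp

namespace K594.Quot

open K594.Elem K594.Cover

variable {S : Scheme.{u}}

theorem hom_ext_fam {T : Over S} {ι : Type u} {V : ι → Over S} {g : ∀ i, V i ⟶ T} (hg : Fam g)
    {X : Over S} {a b : T ⟶ X} (h : ∀ i, g i ≫ a = g i ≫ b) : a = b := by
  have := hg.ext ((yon S).obj X) (a := ⟨a⟩) (b := ⟨b⟩) (fun i => congrArg ULift.up (h i))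
  exact congrArg ULift.down this

/-- Morphisms of schemes glue along fppf covering families. -/
theorem exists_glue_hom {T : Over S} {ι : Type u} {V : ι → Over S} {g : ∀ i, V i ⟶ T}
    (hg : Fam g) {X : Over S} (x : ∀ i, V i ⟶ X)
    (hx : ∀ (i j : ι) (Z : Over S) (a : Z ⟶ V i) (b : Z ⟶ V j), a ≫ g i = b ≫ g j →
      a ≫ x i = b ≫ x j) : ∃ c : T ⟶ X, ∀ i, g i ≫ c = x i := by
  obtain ⟨⟨c⟩, hc, -⟩ := hg.glue ((yon S).obj X) (fun i => ⟨x i⟩) (fun i j Z a b hab =>
    congrArg ULift.up (hx i j Z a b hab))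
  exact ⟨c, fun i => congrArg ULift.down (hc i)⟩

theorem hom_ext_cov {T T' : Over S} {g : T' ⟶ T} (hg : Cov g)
    {X : Over S} {a b : T ⟶ X} (h : g ≫ a = g ≫ b) : a = b :=
  hom_ext_fam hg.fam (fun _ => h)

theorem exists_glue_hom_cov {T T' : Over S} {g : T' ⟶ T} (hg : Cov g) {X : Over S} (x : T' ⟶ X)
    (hx : ∀ (Z : Over S) (a b : Z ⟶ T'), a ≫ g = b ≫ g → a ≫ x = b ≫ x) :
    ∃ c : T ⟶ X, g ≫ c = x := by
  obtain ⟨c, hc⟩ := exists_glue_hom hg.fam (fun _ => x) (fun _ _ Z a b hab => hx Z a b hab)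
  exact ⟨c, hc PUnit.unit⟩

/-- the canonical isomorphism `rep V ≅ h_V` -/
noncomputable abbrev ρ (V : Over S) : QuotSh.rep Scheme.fppfPrecoverage V ≅ (yon S).obj V :=
  QuotSh.repIsoUliftYoneda Scheme.fppfPrecoverage V

theorem repMap_ρ {V W : Over S} (g : V ⟶ W) :
    QuotSh.repMap Scheme.fppfPrecoverage g ≫ (ρ W).hom = (ρ V).hom ≫ (yon S).map g :=
  (sheafificationNatIso (J S) (Type (u + 1))).inv.naturality ((yon S).map g)

theorem map_ρ_inv {V W : Over S} (g : V ⟶ W) :
    (yon S).map g ≫ (ρ W).inv = (ρ V).inv ≫ QuotSh.repMap Scheme.fppfPrecoverage g := by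
  rw [Iso.eq_inv_comp, ← Category.assoc, ← repMap_ρ, Category.assoc, Iso.hom_inv_id,
    Category.comp_id]

variable {R U : Over S} (s t : R ⟶ U)

/-- The quotient map `h_U ⟶ U/R`. -/
noncomputable abbrev π : (yon S).obj U ⟶ QuotSh.quot Scheme.fppfPrecoverage s t :=
  (ρ U).inv ≫ QuotSh.quotπ Scheme.fppfPrecoverage s t

theorem π_condition : (yon S).map s ≫ π s t = (yon S).map t ≫ π s t := by
  rw [← Category.assoc, ← Category.assoc, map_ρ_inv, map_ρ_inv, Category.assoc, Category.assoc,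
    QuotSh.quot_condition]

/-- Maps out of the quotient. -/
theorem exists_desc {F : Sp S} (q : (yon S).obj U ⟶ F)
    (h : (yon S).map s ≫ q = (yon S).map t ≫ q) :
    ∃ φ : QuotSh.quot Scheme.fppfPrecoverage s t ⟶ F, π s t ≫ φ = q := by
  have w : QuotSh.repMap Scheme.fppfPrecoverage s ≫ (ρ U).hom ≫ q =
      QuotSh.repMap Scheme.fppfPrecoverage t ≫ (ρ U).hom ≫ q := by
    rw [← Category.assoc, ← Category.assoc, repMap_ρ, repMap_ρ, Category.assoc, Category.assoc, h]
  refine ⟨coequalizer.desc ((ρ U).hom ≫ q) w, ?_⟩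
  rw [Category.assoc]
  have h1 : QuotSh.quotπ Scheme.fppfPrecoverage s t ≫ coequalizer.desc ((ρ U).hom ≫ q) w =
      (ρ U).hom ≫ q := coequalizer.π_desc _ _
  rw [h1, Iso.inv_hom_id_assoc]

theorem epi_quotπ : Epi (QuotSh.quotπ Scheme.fppfPrecoverage s t) :=
  inferInstanceAs (Epi (coequalizer.π _ _))

theorem epi_π : Epi (π s t) := by
  have := epi_quotπ s t
  infer_instance

theorem isLocallySurjective_π : Sheaf.IsLocallySurjective (π s t) := by
  rw [Sheaf.isLocallySurjective_iff_epi]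
  exact epi_π s t

/-- Every section of `U/R` lifts to `U` after an fppf cover. -/
theorem exists_lift {T : Over S}
    (y : (QuotSh.quot Scheme.fppfPrecoverage s t).obj.obj (op T)) :
    ∃ (T' : Over S) (g : T' ⟶ T) (a : T' ⟶ U), Cov g ∧
      (π s t).hom.app (op T') ⟨a⟩ =
        (QuotSh.quot Scheme.fppfPrecoverage s t).obj.map g.op y := by
  obtain ⟨T', g, ⟨a⟩, hg, ha⟩ := (isLocallySurjective_iff _).1 (isLocallySurjective_π s t) T y
  exact ⟨T', g, a, hg, ha⟩

theorem hom_ext_π {F : Sp S} {φ ψ : QuotSh.quot Scheme.fppfPrecoverage s t ⟶ F}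
    (h : π s t ≫ φ = π s t ≫ ψ) : φ = ψ := by
  have := epi_π s t
  exact (cancel_epi _).1 h

/-- the relation on `T`-points -/
def Rel (T : Over S) (a b : T ⟶ U) : Prop := ∃ r : T ⟶ R, r ≫ t = a ∧ r ≫ s = b

/-- The presheaf quotient. -/
def psh : (Over S)ᵒᵖ ⥤ Type (u + 1) where
  obj T := ULift.{u + 1} (_root_.Quot (Rel s t T.unop))
  map {T T'} g := ↾fun x => ⟨_root_.Quot.map (fun a => g.unop ≫ a) (fun a b ⟨r, h1, h2⟩ =>
    ⟨g.unop ≫ r, by rw [Category.assoc, h1], by rw [Category.assoc, h2]⟩) x.down⟩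
  map_id T := by
    ext ⟨x⟩
    induction x using _root_.Quot.ind
    simp [_root_.Quot.map]
  map_comp f g := by
    ext ⟨x⟩
    induction x using _root_.Quot.ind
    simp [_root_.Quot.map]

/-- the class of a point in the presheaf quotient -/
def cls {T : Over S} (a : T ⟶ U) : (psh s t).obj (op T) := ⟨_root_.Quot.mk _ a⟩

theorem psh_map_cls {T T' : Over S} (g : T' ⟶ T) (a : T ⟶ U) :
    (psh s t).map g.op (cls s t a) = cls s t (g ≫ a) := rfl

theorem cls_eq {T : Over S} {a b : T ⟶ U} (h : Rel s t T a b) : cls s t a = cls s t b :=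
  congrArg ULift.up (_root_.Quot.sound h)

theorem rel_of_cls_eq (h : IsEqvRel s t) {T : Over S} {a b : T ⟶ U} (e : cls s t a = cls s t b) :
    Rel s t T a b :=
  (h.equivalence T).eqvGen_iff.1 (_root_.Quot.eqvGen_exact (congrArg ULift.down e))

/-- Effectivity of equivalence relations. -/
theorem exists_of_π_eq (h : IsEqvRel s t) {T : Over S} (a b : T ⟶ U)
    (hab : (yon S).map a ≫ π s t = (yon S).map b ≫ π s t) : ∃ r : T ⟶ R, r ≫ t = a ∧ r ≫ s = b := by
  let F : Sp S := (presheafToSheaf (J S) (Type (u + 1))).obj (psh s t)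
  let η : psh s t ⟶ F.obj := toSheafify (J S) (psh s t)
  let q : (yon S).obj U ⟶ F := secEquiv.symm (η.app (op U) (cls s t (𝟙 U)))
  have hq : ∀ {T : Over S} (c : T ⟶ U), secEquiv ((yon S).map c ≫ q) = η.app (op T) (cls s t c) := by
    intro T c
    have h1 : secEquiv ((yon S).map c ≫ q) = F.obj.map c.op (secEquiv q) :=
      ((J S).uliftYonedaEquiv_naturality q c).symm
    rw [h1, Equiv.apply_symm_apply]
    have h2 := NatTrans.naturality_apply η c.op (cls s t (𝟙 U))
    rw [← h2, psh_map_cls, Category.comp_id]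
  obtain ⟨φ, hφ⟩ := exists_desc s t q (by
    apply (secEquiv (F := F)).injective
    rw [hq, hq]
    congr 1
    exact (cls_eq s t ⟨𝟙 R, Category.id_comp _, Category.id_comp _⟩).symm)
  have e1 : η.app (op T) (cls s t a) = η.app (op T) (cls s t b) := by
    rw [← hq, ← hq, ← hφ, ← Category.assoc, hab, Category.assoc]
  have e2 := Presheaf.equalizerSieve_mem (J S) η _ _ e1
  obtain ⟨ι, V, g, hg, hR⟩ := exists_fam_of_mem e2
  have key : ∀ i, ∃ r : V i ⟶ R, r ≫ t = g i ≫ a ∧ r ≫ s = g i ≫ b := by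
    intro i
    have h3 : (psh s t).map (g i).op (cls s t a) = (psh s t).map (g i).op (cls s t b) := hR i
    exact rel_of_cls_eq s t h h3
  choose r hr1 hr2 using key
  obtain ⟨c, hc⟩ := exists_glue_hom hg r (by
    intro i j Z x y hxy
    apply h.injective
    · rw [Category.assoc, Category.assoc, hr1, hr1, ← Category.assoc, ← Category.assoc, hxy]
    · rw [Category.assoc, Category.assoc, hr2, hr2, ← Category.assoc, ← Category.assoc, hxy])
  refine ⟨c, ?_, ?_⟩
  · apply hom_ext_fam hg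
    intro i
    rw [← Category.assoc, hc, hr1]
  · apply hom_ext_fam hg
    intro i
    rw [← Category.assoc, hc, hr2]

theorem app_π {T : Over S} (a : T ⟶ U) :
    (π s t).hom.app (op T) ⟨a⟩ = secEquiv ((yon S).map a ≫ π s t) :=
  ((J S).map_uliftYonedaEquiv (π s t) a).symm.trans
    ((J S).uliftYonedaEquiv_naturality (π s t) a)

theorem app_π_eq_iff (h : IsEqvRel s t) {T : Over S} (a b : T ⟶ U) :
    (π s t).hom.app (op T) ⟨a⟩ = (π s t).hom.app (op T) ⟨b⟩ ↔ ∃ r : T ⟶ R, r ≫ t = a ∧ r ≫ s = b := by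
  rw [app_π, app_π, Equiv.apply_eq_iff_eq]
  constructor
  · exact exists_of_π_eq s t h a b
  · rintro ⟨r, rfl, rfl⟩
    rw [Functor.map_comp, Functor.map_comp, Category.assoc, Category.assoc, π_condition]

/-- `h_R = h_U ×_{U/R} h_U`. -/
theorem isPullback_π (h : IsEqvRel s t) :
    IsPullback ((yon S).map t) ((yon S).map s) (π s t) (π s t) := by
  rw [isPullback_iff]
  refine ⟨(π_condition s t).symm, ?_, ?_⟩
  · rintro T ⟨a⟩ ⟨b⟩ h1 h2
    exact congrArg ULift.up (h.injective T a b (congrArg ULift.down h1) (congrArg ULift.down h2))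
  · rintro T ⟨a⟩ ⟨b⟩ hab
    obtain ⟨r, h1, h2⟩ := (app_π_eq_iff s t h a b).1 hab
    exact ⟨⟨r⟩, congrArg ULift.up h1, congrArg ULift.up h2⟩

/-- A locally surjective map is the coequalizer of its kernel pair. -/
theorem isColimit_of_kernelPair {F G K : Sp S} (p : F ⟶ G) [Sheaf.IsLocallySurjective p]
    {a b : K ⟶ F} (h : IsPullback a b p p) : Nonempty (IsColimit (Cofork.ofπ p h.w)) := by
  have h1 : Epi p := (Sheaf.isLocallySurjective_iff_epi p).1 inferInstance
  have : IsRegularEpiCategory (Sheaf (J S) (Type (u + 1))) := inferInstance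
  have h2 : IsRegularEpi p := IsRegularEpiCategory.regularEpiOfEpi p
  exact ⟨IsKernelPair.toCoequalizer' h⟩

end K594.Quot
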