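import Groth.Agent.AlgSp.K594.FibSh
import Groth.Agent.AlgSp.K594.Diag
import Groth.Agent.AlgSp.K594.Quot
import Groth.Agent.AlgSp.K594.Local

/-!
# Bootstrap: quotients of schemes by etale equivalence relations are algebraic spaces

* `exists_isEq_of_cov` : fppf descent of loci of coincidence.
* `representable_diag_of_kernelPair` : `q : h_U ⟶ F` locally surjective with `h_U ×_F h_U = h_R`, `R ⟶ U` locally of
  finite type; then the diagonal of `F` is representable.
* `isAlgSpace_of_kernelPair` : same with `R ⟶ U` etale: `F` is an algebraic space and `q` is etale surjective.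
* `isAlgSpace_of_etale` : `F` receives a representable etale surjective map from a scheme.
-/

set_option autoImplicit false
set_option backward.isDefEq.respectTransparency.types false
universe u
open CategoryTheory CategoryTheory.Limits AlgebraicGeometry Opposite AlgSp

namespace K594.Bootstrap

open K594.Elem K594.Cover K594.Basic K594.Diag K594.FppfRep

variable {S : Scheme.{u}}

theorem lqf_of_mono {X Y : Scheme.{u}} (f : X ⟶ Y) [Mono f] [LocallyOfFiniteType f] :
    LocallyQuasiFinite f := inferInstance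

theorem slqf_of_mono {X Y : Scheme.{u}} (f : X ⟶ Y) [Mono f] [LocallyOfFiniteType f] :
    Slqf f := ⟨inferInstance, inferInstance, inferInstance⟩

/-- fppf descent of loci of coincidence. -/
theorem exists_isEq_of_cov {F : Sp S} {T T' V' : Over S} {a b : F.obj.obj (op T)} {t : T' ⟶ T}
    (ht : Cov t) {v' : V' ⟶ T'} (h : IsEq (F.obj.map t.op a) (F.obj.map t.op b) v')
    (h3 : LocallyOfFiniteType v'.left) : ∃ (V : Over S) (v : V ⟶ T), IsEq a b v := by
  obtain ⟨z, rfl, rfl⟩ := exists_prod a b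
  have hm := h.mono'
  have hm' : Mono v'.left := inferInstance
  rw [← app_map, ← app_map] at h
  have h1 : IsRep (Limits.diag F) ((F ⨯ F).obj.map t.op z) v' _ :=
    (isRep_diag_iff _ v' _).2 ⟨h, rfl⟩
  obtain ⟨V, v, ξ, hξ⟩ := exists_isRep_of_cov ht h1 inferInstance (lqf_of_mono _) h3
  exact ⟨V, v, ((isRep_diag_iff _ _ _).1 hξ).1⟩

/-- If `h_R = h_U ×_F h_U` then the locus where `q ∘ x = q ∘ y` is the pullback of `R`. -/
theorem isEq_of_kernelPair {F : Sp S} {U R : Over S} {q : (yon S).obj U ⟶ F} {s t : R ⟶ U}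
    (h : IsPullback ((yon S).map t) ((yon S).map s) q q) {T V : Over S} (x y : T ⟶ U)
    {v : V ⟶ T} {r : V ⟶ R} (sq : IsPullback r v (prod.lift t s) (prod.lift x y)) :
    IsEq (q.hom.app (op T) ⟨x⟩) (q.hom.app (op T) ⟨y⟩) v := by
  obtain ⟨hw, hinj, hlift⟩ := (isPullback_iff _ _ _ _).1 h
  have e1 : r ≫ t = v ≫ x := by
    have := congrArg (fun k => k ≫ (prod.fst : U ⨯ U ⟶ U)) sq.w
    rwa [Category.assoc, Category.assoc, prod.lift_fst, prod.lift_fst] at this
  have e2 : r ≫ s = v ≫ y := by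
    have := congrArg (fun k => k ≫ (prod.snd : U ⨯ U ⟶ U)) sq.w
    rwa [Category.assoc, Category.assoc, prod.lift_snd, prod.lift_snd] at this
  have hq : ∀ {Z : Over S} (z : Z ⟶ U), q.hom.app (op Z) ⟨z⟩ = F.obj.map z.op (secEquiv q) :=
    fun z => yonEquiv_apply q z
  have hR : ∀ {Z : Over S} (z : Z ⟶ R), F.obj.map (z ≫ t).op (secEquiv q) =
      F.obj.map (z ≫ s).op (secEquiv q) := by
    intro Z z
    rw [← hq, ← hq]
    exact congrArg (fun k : (yon S).obj R ⟶ F => k.hom.app (op Z) ⟨z⟩) hw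
  refine ⟨?_, fun k l e => ?_, fun {Z} z hz => ?_⟩
  · rw [hq, hq, ← map_comp_apply, ← map_comp_apply, ← e1, ← e2]
    exact hR r
  · refine sq.hom_ext ?_ e
    have h1 : k ≫ r ≫ t = l ≫ r ≫ t := by rw [e1, reassoc_of% e]
    have h2 : k ≫ r ≫ s = l ≫ r ≫ s := by rw [e2, reassoc_of% e]
    have := hinj _ ⟨k ≫ r⟩ ⟨l ≫ r⟩ (congrArg ULift.up (by
        change (k ≫ r) ≫ t = (l ≫ r) ≫ t
        rw [Category.assoc, Category.assoc, h1]))
      (congrArg ULift.up (by
        change (k ≫ r) ≫ s = (l ≫ r) ≫ s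
        rw [Category.assoc, Category.assoc, h2]))
    exact congrArg ULift.down this
  · rw [hq, hq, ← map_comp_apply, ← map_comp_apply, ← hq, ← hq] at hz
    obtain ⟨⟨w⟩, hw1, hw2⟩ := hlift Z ⟨z ≫ x⟩ ⟨z ≫ y⟩ hz
    have hw1' : w ≫ t = z ≫ x := congrArg ULift.down hw1
    have hw2' : w ≫ s = z ≫ y := congrArg ULift.down hw2
    refine ⟨sq.lift w z ?_, sq.lift_snd _ _ _⟩
    apply Limits.prod.hom_ext
    · rw [Category.assoc, Category.assoc, prod.lift_fst, prod.lift_fst, hw1']
    · rw [Category.assoc, Category.assoc, prod.lift_snd, prod.lift_snd, hw2']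

theorem lft_prod_lift {R U : Over S} (s t : R ⟶ U) (ht : LocallyOfFiniteType t.left) :
    LocallyOfFiniteType (prod.lift t s).left := by
  have : LocallyOfFiniteType ((prod.lift t s).left ≫ (prod.fst : U ⨯ U ⟶ U).left) := by
    rw [← Over.comp_left, prod.lift_fst]
    exact ht
  exact locallyOfFiniteType_of_comp _ (prod.fst : U ⨯ U ⟶ U).left

/-- The diagonal of a sheaf covered by a scheme with representable kernel pair. -/
theorem representable_diag_of_kernelPair {F : Sp S} {U R : Over S} (q : (yon S).obj U ⟶ F)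
    [Sheaf.IsLocallySurjective q] {s t : R ⟶ U}
    (h : IsPullback ((yon S).map t) ((yon S).map s) q q) (ht : LocallyOfFiniteType t.left) :
    Representable (Limits.diag F) := by
  rw [representable_diag_iff]
  intro T a b
  obtain ⟨T₁, g₁, ⟨x⟩, hg₁, hx⟩ := (isLocallySurjective_iff q).1 ‹_› T a
  obtain ⟨T₂, g₂, ⟨y⟩, hg₂, hy⟩ := (isLocallySurjective_iff q).1 ‹_› T₁ (F.obj.map g₁.op b)
  have hq : ∀ {Z : Over S} (z : Z ⟶ U), q.hom.app (op Z) ⟨z⟩ = F.obj.map z.op (secEquiv q) :=
    fun z => yonEquiv_apply q z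
  have hx' : q.hom.app (op T₂) ⟨g₂ ≫ x⟩ = F.obj.map (g₂ ≫ g₁).op a := by
    rw [hq, map_comp_apply, ← hq, hx, ← map_comp_apply]
  have hy' : q.hom.app (op T₂) ⟨y⟩ = F.obj.map (g₂ ≫ g₁).op b := by
    rw [hy, ← map_comp_apply]
  have sq := IsPullback.of_hasPullback (prod.lift t s) (prod.lift (g₂ ≫ x) y)
  have h1 := isEq_of_kernelPair h (g₂ ≫ x) y sq
  rw [hx', hy'] at h1
  refine exists_isEq_of_cov (hg₁.comp hg₂) h1 ?_
  have := lft_prod_lift s t ht
  exact MorphismProperty.of_isPullback (P := @LocallyOfFiniteType) (sq.map (Over.forget S)) this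

/-- A sheaf covered by a scheme with etale kernel pair is an algebraic space. -/
theorem isAlgSpace_of_kernelPair {F : Sp S} {U R : Over S} (q : (yon S).obj U ⟶ F)
    [Sheaf.IsLocallySurjective q] {s t : R ⟶ U}
    (h : IsPullback ((yon S).map t) ((yon S).map s) q q) (hs : Etale s.left) (ht : Etale t.left)
    (hs' : Surjective s.left) : IsAlgSpace F ∧ RepWith @Etale q ∧ RepWith @Surjective q := by
  have h1 : Representable (Limits.diag F) := representable_diag_of_kernelPair q h inferInstance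
  have h2 : Representable q := Functor.relativelyRepresentable.of_diag h1 q
  have := Local.etale.{u}
  have := Local.surjective.{u}
  have h3 : RepWith @Etale q := repWith_of_isLocallySurjective_base q h2 q h @Etale
    ((repWith_yon_map_iff _ _).2 hs)
  have h4 : RepWith @Surjective q := repWith_of_isLocallySurjective_base q h2 q h @Surjective
    ((repWith_yon_map_iff _ _).2 hs')
  exact ⟨⟨h1, U, q, h3, h4⟩, h3, h4⟩

/-- A sheaf with a representable etale surjective map from a scheme is an algebraic space. -/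
theorem isAlgSpace_of_etale {F : Sp S} {U : Over S} (q : (yon S).obj U ⟶ F)
    (he : RepWith @Etale q) (hs : RepWith @Surjective q) : IsAlgSpace F := by
  obtain ⟨R, s, p, hp⟩ := he.1 q
  obtain ⟨t, rfl⟩ := (yon S).map_surjective p
  have := isLocallySurjective_of_etale q he hs
  exact (isAlgSpace_of_kernelPair q hp (he.2 _ _ _ hp) (he.2 _ _ _ hp.flip) (hs.2 _ _ _ hp)).1

theorem surjective_of_isEqvRel {R U : Over S} {s t : R ⟶ U} (h : IsEqvRel s t) :
    Surjective s.left ∧ Surjective t.left := by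
  obtain ⟨r, h1, h2⟩ := (h.equivalence U).refl (𝟙 U)
  have e1 : r.left ≫ t.left = 𝟙 _ := by rw [← Over.comp_left, h1, Over.id_left]
  have e2 : r.left ≫ s.left = 𝟙 _ := by rw [← Over.comp_left, h2, Over.id_left]
  refine ⟨⟨fun x => ⟨r.left x, ?_⟩⟩, ⟨fun x => ⟨r.left x, ?_⟩⟩⟩
  · rw [← Scheme.Hom.comp_apply, e2]; rfl
  · rw [← Scheme.Hom.comp_apply, e1]; rfl

/-- The quotient of a scheme by an etale equivalence relation. -/
theorem quot_isAlgSpace {R U : Over S} {s t : R ⟶ U} (h : IsEtaleEqvRel s t) :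
    IsAlgSpace (QuotSh.quot Scheme.fppfPrecoverage s t) ∧ RepWith @Etale (Quot.π s t) ∧
      RepWith @Surjective (Quot.π s t) := by
  have := Quot.isLocallySurjective_π s t
  exact isAlgSpace_of_kernelPair (Quot.π s t) (Quot.isPullback_π s t h.toIsEqvRel) h.etale_left
    h.etale_right (surjective_of_isEqvRel h.toIsEqvRel).1

theorem quot_isPresentation {R U : Over S} {s t : R ⟶ U} (h : IsEtaleEqvRel s t) :
    IsPresentation s t (Quot.π s t) :=
  ⟨h, (quot_isAlgSpace h).2.1, (quot_isAlgSpace h).2.2, Quot.isPullback_π s t h.toIsEqvRel⟩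

/-- A sheaf with a representable etale surjective map from an algebraic space is an algebraic
space. -/
theorem isAlgSpace_of_etale_of_isAlgSpace {X F : Sp S} (hX : IsAlgSpace X) (f : X ⟶ F)
    (he : RepWith @Etale f) (hs : RepWith @Surjective f) : IsAlgSpace F := by
  obtain ⟨U, p, hp1, hp2⟩ := hX.atlas
  exact isAlgSpace_of_etale (p ≫ f) (MorphismProperty.comp_mem _ _ _ hp1 he)
    (MorphismProperty.comp_mem _ _ _ hp2 hs)

end K594.Bootstrap
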