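import Groth.Agent.AlgSp.K594.Coprod
import Groth.Agent.AlgSp.K594.Bootstrap

/-!
# Atlases from families

* `repWith_sig` : a map out of a disjoint union of schemes has `P` if its restrictions have `P`.
* `repWith_surjective_of_isLocallySurjective` : representable and locally surjective implies surjective.
* `isAlgSpace_of_family` : a sheaf with a jointly locally surjective family of representable etale maps from algebraic
  spaces is an algebraic space.
* `isAlgSpace_coprod` : coproducts of algebraic spaces.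
* `binary` : the binary cofan as a cofan.
-/

set_option autoImplicit false
set_option backward.isDefEq.respectTransparency.types false
universe u
open CategoryTheory CategoryTheory.Limits AlgebraicGeometry Opposite AlgSp

namespace K594.Atlas

open K594.Elem K594.Cover K594.Basic K594.FppfRep K594.FamRep K594.Bootstrap

variable {S : Scheme.{u}}

theorem repWith_sig (P : MorphismProperty Scheme.{u}) [IsZariskiLocalAtSource P]
    {ι : Type u} {U : ι → Over S} {G : Sp S} (q : (yon S).obj (sig U) ⟶ G)
    (h : ∀ i, RepWith P ((yon S).map (sigι U i) ≫ q)) : RepWith P q := by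
  apply repWith_of_exists
  intro T y
  have h1 : ∀ i, ∃ (V : Over S) (v : V ⟶ T) (x : V ⟶ U i),
      IsRep ((yon S).map (sigι U i) ≫ q) y v ⟨x⟩ ∧ P v.left := by
    intro i
    obtain ⟨V, v, ⟨x⟩, h1, h2⟩ := RepWith.exists_isRep (h i) y
    exact ⟨V, v, x, h1, h2⟩
  choose V v x h1 h2 using h1
  exact ⟨sig V, sigDesc v, _, isRep_sig h1, IsZariskiLocalAtSource.sigmaDesc (P := P) h2⟩

theorem exists_sigma_map {ι : Type u} {U : ι → Over S} {G : Sp S}
    (q : ∀ i, (yon S).obj (U i) ⟶ G) : ∃ p : (yon S).obj (sig U) ⟶ G,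
      ∀ i, (yon S).map (sigι U i) ≫ p = q i := by
  obtain ⟨t, ht, -⟩ := exists_sig U G (fun i => secEquiv (q i))
  refine ⟨secEquiv.symm t, fun i => ?_⟩
  apply (secEquiv (F := G)).injective
  rw [← ht i]
  have h1 : secEquiv ((yon S).map (sigι U i) ≫ secEquiv.symm t) =
      G.obj.map (sigι U i).op (secEquiv (secEquiv.symm t)) :=
    ((J S).uliftYonedaEquiv_naturality _ _).symm
  rw [h1, Equiv.apply_symm_apply]

/-- Representable and locally surjective implies surjective. -/
theorem repWith_surjective_of_isLocallySurjective {F G : Sp S} (q : F ⟶ G)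
    (h : Representable q) [Sheaf.IsLocallySurjective q] : RepWith @Surjective q := by
  rw [repWith_iff']
  refine ⟨h, fun {T V} y v ξ hξ => ?_⟩
  obtain ⟨T', g, x, hg, hx⟩ := (isLocallySurjective_iff q).1 ‹_› T y
  obtain ⟨k, hk, -⟩ := hξ.lift g x hx
  have := hg.surj
  have h1 : k.left ≫ v.left = g.left := by rw [← Over.comp_left, hk]
  have : Surjective (k.left ≫ v.left) := by rw [h1]; infer_instance
  exact Surjective.of_comp k.left v.left

/-- A sheaf with a jointly locally surjective family of etale maps from algebraic spaces. -/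
theorem isAlgSpace_of_family {G : Sp S} {ι : Type u} {F : ι → Sp S} (f : ∀ i, F i ⟶ G)
    (hF : ∀ i, IsAlgSpace (F i)) (he : ∀ i, RepWith @Etale (f i))
    (h : ∀ {T : Over S} (y : G.obj.obj (op T)), ∃ (κ' : Type u) (V : κ' → Over S)
      (g : ∀ k, V k ⟶ T) (_ : Fam g) (i : κ' → ι) (x : ∀ k, (F (i k)).obj.obj (op (V k))),
      ∀ k, (f (i k)).hom.app (op (V k)) (x k) = G.obj.map (g k).op y) : IsAlgSpace G := by
  choose U p hp1 hp2 using fun i => (hF i).atlas
  obtain ⟨q, hq⟩ := exists_sigma_map (fun i => p i ≫ f i)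
  have h1 : RepWith @Etale q := by
    apply repWith_sig
    intro i
    rw [hq]
    exact MorphismProperty.comp_mem _ _ _ (hp1 i) (he i)
  have h2 : Sheaf.IsLocallySurjective q := by
    constructor
    intro T y
    obtain ⟨κ', V, g, hg, i, x, hx⟩ := h y
    -- lift each `x k` to the atlas
    have h3 : ∀ k, ∃ (V' : Over S) (g' : V' ⟶ V k) (u : V' ⟶ U (i k)), Cov g' ∧
        (p (i k)).hom.app (op V') ⟨u⟩ = (F (i k)).obj.map g'.op (x k) := by
      intro k
      have := isLocallySurjective_of_etale _ (hp1 (i k)) (hp2 (i k))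
      obtain ⟨V', g', ⟨u⟩, h4, h5⟩ := (isLocallySurjective_iff (p (i k))).1 this _ (x k)
      exact ⟨V', g', u, h4, h5⟩
    choose V' g' w h4 h5 using h3
    have hfam : Fam (fun k => g' k ≫ g k) := ⟨fun k => by
        have := (h4 k).flat
        have := hg.flat k
        rw [Over.comp_left]; infer_instance, fun k => by
        have := (h4 k).lfp
        have := hg.lfp k
        rw [Over.comp_left]; infer_instance, fun t => by
        obtain ⟨k, v, rfl⟩ := hg.surj t
        obtain ⟨v', rfl⟩ := (h4 k).surj.surj v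
        exact ⟨k, v', by rw [Over.comp_left, Scheme.Hom.comp_apply]⟩⟩
    refine (J S).superset_covering ?_ hfam.mem
    rw [Sieve.ofArrows, Sieve.generate_le_iff]
    rintro _ _ ⟨k⟩
    refine ⟨⟨w k ≫ sigι U (i k)⟩, ?_⟩
    have h6 : q.hom.app (op (V' k)) ⟨w k ≫ sigι U (i k)⟩ =
        ((yon S).map (sigι U (i k)) ≫ q).hom.app (op (V' k)) ⟨w k⟩ := rfl
    refine h6.trans ?_
    rw [hq, comp_app, h5, app_map, hx, ← map_comp_apply]
  exact isAlgSpace_of_etale q h1 (repWith_surjective_of_isLocallySurjective q h1.1)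

/-- Coproducts of algebraic spaces are algebraic spaces. -/
theorem isAlgSpace_coprod {ι : Type u} {F : ι → Sp S} (hF : ∀ i, IsAlgSpace (F i)) {c : Cofan F}
    (hc : IsColimit c) : IsAlgSpace c.pt := by
  refine isAlgSpace_of_family (fun i => c.inj i) hF (fun i => ?_) (Coprod.exists_local hc)
  refine RepWith.mono_prop ?_ (Coprod.repWith_inj hc i)
  rintro X Y f ⟨h1, h2⟩
  have : IsOpenImmersion f := h1
  exact inferInstanceAs (Etale f)

/-- the binary cofan, as a cofan over a type in any universe -/
def pairF (F G : Sp S) : ULift.{u} Bool → Sp S := fun b => cond b.down F G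

/-- the binary cofan, as a cofan -/
def cofanOf {F G : Sp S} (c : BinaryCofan F G) : Cofan (pairF F G) :=
  Cofan.mk c.pt (fun b => match b with
    | ⟨true⟩ => c.inl
    | ⟨false⟩ => c.inr)

noncomputable def isColimitCofanOf {F G : Sp S} {c : BinaryCofan F G} (hc : IsColimit c) :
    IsColimit (cofanOf c) :=
  Cofan.IsColimit.mk _ (fun s => (BinaryCofan.IsColimit.desc' hc (s.inj ⟨true⟩) (s.inj ⟨false⟩)).1)
    (fun s b => match b with
      | ⟨true⟩ => (BinaryCofan.IsColimit.desc' hc (s.inj ⟨true⟩) (s.inj ⟨false⟩)).2.1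
      | ⟨false⟩ => (BinaryCofan.IsColimit.desc' hc (s.inj ⟨true⟩) (s.inj ⟨false⟩)).2.2)
    (fun s m hm => by
      apply BinaryCofan.IsColimit.hom_ext hc
      · exact (hm ⟨true⟩).trans
          (BinaryCofan.IsColimit.desc' hc (s.inj ⟨true⟩) (s.inj ⟨false⟩)).2.1.symm
      · exact (hm ⟨false⟩).trans
          (BinaryCofan.IsColimit.desc' hc (s.inj ⟨true⟩) (s.inj ⟨false⟩)).2.2.symm)

theorem repWith_inl {F G : Sp S} {c : BinaryCofan F G} (hc : IsColimit c) :
    RepWith (@IsOpenImmersion ⊓ @IsClosedImmersion) c.inl :=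
  Coprod.repWith_inj (isColimitCofanOf hc) ⟨true⟩

theorem repWith_inr {F G : Sp S} {c : BinaryCofan F G} (hc : IsColimit c) :
    RepWith (@IsOpenImmersion ⊓ @IsClosedImmersion) c.inr :=
  Coprod.repWith_inj (isColimitCofanOf hc) ⟨false⟩

end K594.Atlas
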