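import Groth.Agent.AlgSp.K594.Diag
import Mathlib.CategoryTheory.Limits.FullSubcategory

/-!
# Fibre products of algebraic spaces

* `isAlgSpace_of_isPullback`: `X ×_H Y` is an algebraic space if `X`, `Y` are and `H` is a sheaf with
  representable diagonal.
* `isClosedUnderLimits`: algebraic spaces are closed under pullbacks in `Sp S`.
* `exists_isPullback_yon`: `h_U ×_F h_V` is representable when `F` has representable diagonal.
* `exists_chart_lift`: charts over a chart.
-/

set_option autoImplicit false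
set_option backward.isDefEq.respectTransparency.types false
universe u
open CategoryTheory CategoryTheory.Limits AlgebraicGeometry Opposite AlgSp

namespace K594.Fib

open K594.Elem K594.Cover K594.Basic K594.Diag

variable {S : Scheme.{u}}

theorem exists_isPullback_yon {F : Sp S} (hF : Representable (Limits.diag F)) {U V : Over S}
    (p : (yon S).obj U ⟶ F) (q : (yon S).obj V ⟶ F) :
    ∃ (W : Over S) (w₁ : W ⟶ U) (w₂ : W ⟶ V),
      IsPullback ((yon S).map w₁) ((yon S).map w₂) p q := by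
  obtain ⟨W, w₂, w₁, h⟩ := Functor.relativelyRepresentable.of_diag hF p q
  obtain ⟨w₁, rfl⟩ := (yon S).map_surjective w₁
  exact ⟨W, w₁, w₂, h⟩

theorem representable_diag_of_jointly_mono {P X Y : Sp S} (fst : P ⟶ X) (snd : P ⟶ Y)
    (hinj : ∀ (T : Over S) (a b : P.obj.obj (op T)), fst.hom.app (op T) a = fst.hom.app (op T) b →
      snd.hom.app (op T) a = snd.hom.app (op T) b → a = b)
    (hX : Representable (Limits.diag X)) (hY : Representable (Limits.diag Y)) :
    Representable (Limits.diag P) := by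
  rw [representable_diag_iff] at hX hY ⊢
  intro U a b
  obtain ⟨V₁, v₁, h₁⟩ := hX (fst.hom.app (op U) a) (fst.hom.app (op U) b)
  obtain ⟨V₂, v₂, h₂⟩ := hY (snd.hom.app (op U) a) (snd.hom.app (op U) b)
  have := h₁.mono'
  have := h₂.mono'
  refine ⟨pullback v₁ v₂, pullback.fst v₁ v₂ ≫ v₁, ?_, fun k l e => ?_, fun {T} t ht => ?_⟩
  · apply hinj
    · rw [app_map, app_map, map_comp_apply, map_comp_apply, h₁.eq]
    · rw [app_map, app_map, map_eq_of_eq Y pullback.condition, map_eq_of_eq Y pullback.condition,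
        map_comp_apply, map_comp_apply, h₂.eq]
  · rwa [cancel_mono] at e
  · obtain ⟨k₁, hk₁⟩ := h₁.lift t (by rw [← app_map, ← app_map, ht])
    obtain ⟨k₂, hk₂⟩ := h₂.lift t (by rw [← app_map, ← app_map, ht])
    exact ⟨pullback.lift k₁ k₂ (hk₁.trans hk₂.symm), by rw [pullback.lift_fst_assoc, hk₁]⟩

/-- The fibre product of two algebraic spaces over a sheaf with representable diagonal. -/
theorem isAlgSpace_of_isPullback {H X Y P : Sp S} (hH : Representable (Limits.diag H))
    (hX : IsAlgSpace X) (hY : IsAlgSpace Y) {f : X ⟶ H} {g : Y ⟶ H} {fst : P ⟶ X} {snd : P ⟶ Y}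
    (h : IsPullback fst snd f g) : IsAlgSpace P := by
  obtain ⟨hw, hinj, hlift⟩ := (isPullback_iff _ _ _ _).1 h
  refine ⟨representable_diag_of_jointly_mono fst snd hinj hX.diag hY.diag, ?_⟩
  obtain ⟨U, p, hpe, hps⟩ := hX.atlas
  obtain ⟨V, q, hqe, hqs⟩ := hY.atlas
  obtain ⟨W, w₁, w₂, hW⟩ := exists_isPullback_yon hH (p ≫ f) (q ≫ g)
  -- `P' = U ×_X P`
  have sq1 := IsPullback.of_hasPullback p fst
  have sq2 : IsPullback (pullback.fst p fst) (pullback.snd p fst ≫ snd) (p ≫ f) g :=
    sq1.paste_vert h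
  let l : (yon S).obj W ⟶ pullback p fst := sq2.lift ((yon S).map w₁) ((yon S).map w₂ ≫ q)
    (by rw [Category.assoc, hW.w])
  have hl1 : l ≫ pullback.fst p fst = (yon S).map w₁ := sq2.lift_fst _ _ _
  have hl2 : l ≫ pullback.snd p fst ≫ snd = (yon S).map w₂ ≫ q := sq2.lift_snd _ _ _
  have sq3 : IsPullback l ((yon S).map w₂) (pullback.snd p fst ≫ snd) q := by
    refine IsPullback.of_right (h₁₂ := pullback.fst p fst) (h₂₂ := g) (v₁₃ := p ≫ f) ?_ hl2 sq2
    rw [hl1]
    exact hW
  refine ⟨W, l ≫ pullback.snd p fst, ?_, ?_⟩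
  · exact MorphismProperty.comp_mem _ _ _ (MorphismProperty.of_isPullback sq3.flip hqe)
      (MorphismProperty.of_isPullback sq1 hpe)
  · exact MorphismProperty.comp_mem _ _ _ (MorphismProperty.of_isPullback sq3.flip hqs)
      (MorphismProperty.of_isPullback sq1 hps)

theorem isClosedUnderLimits :
    ObjectProperty.IsClosedUnderLimitsOfShape (IsAlgSpace (S := S)) WalkingCospan := by
  constructor
  rintro P ⟨h⟩
  have sq := IsPullback.of_isLimit_cone h.isLimit
  exact isAlgSpace_of_isPullback (h.prop_diag_obj .one).diag (h.prop_diag_obj .left)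
    (h.prop_diag_obj .right) sq

/-- Charts over a chart. -/
theorem exists_chart_lift {X Y : Sp S} (hX : IsAlgSpace X) (hY : IsAlgSpace Y) (a : X ⟶ Y)
    {V : Over S} (q : (yon S).obj V ⟶ Y) (hqe : RepWith @Etale q) (hqs : RepWith @Surjective q) :
    ∃ (U : Over S) (p : (yon S).obj U ⟶ X) (α : U ⟶ V),
      RepWith @Etale p ∧ RepWith @Surjective p ∧ p ≫ a = (yon S).map α ≫ q := by
  obtain ⟨U₀, p₀, he, hs⟩ := hX.atlas
  obtain ⟨W, w₁, w₂, hW⟩ := exists_isPullback_yon hY.diag (p₀ ≫ a) q
  refine ⟨W, (yon S).map w₁ ≫ p₀, w₂, ?_, ?_, ?_⟩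
  · exact MorphismProperty.comp_mem _ _ _ (MorphismProperty.of_isPullback hW.flip hqe) he
  · exact MorphismProperty.comp_mem _ _ _ (MorphismProperty.of_isPullback hW.flip hqs) hs
  · rw [Category.assoc, hW.w]

end K594.Fib
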