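import Groth.Agent.AlgSp.K594.StrataSp
import Groth.Agent.AlgSp.K623.BddQF
import Groth.Agent.AlgSp.K625.Prod

/-!
# Finite stratification of a quasi-compact and quasi-separated algebraic space
-/

set_option autoImplicit false
universe v w u

open CategoryTheory CategoryTheory.Limits AlgebraicGeometry Opposite

namespace K594.StrataQC

open AlgSp K613.Basic K613.Cover K613.Chart K613.Diag K594.Strata
open K617.EtFin K617.Strat K623.BddFle

variable {S : Scheme.{u}}

/-- A morphism with fibre degrees at most `n` does not have `n + 1` distinct geometric points in a fibre. -/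
theorem GE_eq_empty_of_fle {Y T : Scheme.{u}} (f : Y ⟶ T) (n : ℕ) (h : FLE n f) : GE f (n + 1) = ∅ := by
  refine Set.eq_empty_of_forall_notMem ?_
  rintro t ⟨Ω, _, τ, σ, ht, hσ, hf⟩
  have sq := IsPullback.of_hasPullback f τ
  obtain ⟨h1, h2⟩ := h τ _ _ sq
  have h3 : pt Ω ∈ GE (pullback.snd f τ) (n + 1) := by
    rw [mem_GE_of_isPullback sq]
    exact ⟨Ω, inferInstance, τ, σ, fun x => by rw [Spec_field_eq x (pt Ω)], hσ, hf⟩
  have hV : IsAffine (pullback f τ) := isAffine_of_isAffineHom (pullback.snd f τ)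
  let V := pullback f τ
  let c : V ⟶ Spec (CommRingCat.of Ω) := pullback.snd f τ
  have h4 := GE_congr c V.isoSpec.symm (n + 1)
  obtain ⟨φ, hφ⟩ := Spec.map_surjective (V.isoSpec.symm.hom ≫ c)
  have h5 := K623.BddQF.finite_of_iso V.isoSpec.symm.hom c h1 h2
  rw [← hφ] at h4 h5
  algebraize [φ.hom]
  have h6 := (K623.BddComp.finite_specMap_iff (K := Ω) (A := Γ(V, ⊤)) n).1 h5
  have h7 := h6.1
  have h8 : GE (Spec.map φ) (Module.finrank Ω Γ(V, ⊤) + 1) = ∅ :=
    GE_eq_empty_of_finite_ring (k := Ω) (A := Γ(V, ⊤))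
  have h9 : pt Ω ∈ GE (Spec.map φ) (n + 1) := by
    rw [h4]
    exact h3
  have h10 := GE_antitone (Spec.map φ) (Nat.succ_le_succ h6.2) h9
  rw [Nat.succ_eq_add_one, h8] at h10
  exact h10

/-- Over a quasi-separated base a chart with quasi-compact source of a quasi-separated space is quasi-compact. -/
theorem repWith_quasiCompact [QuasiSeparatedSpace S] {X : Sp S} (hX : IsQuasiSeparatedSp X) {U : Over S}
    [CompactSpace U.left] (p : (yon S).obj U ⟶ X) : RepWith @QuasiCompact p := by
  let g : X ⟶ (yon S).obj (Over.mk (𝟙 S)) := (K625.Prod.isTerminalBase S).from X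
  have h1 : RepWith @QuasiCompact (p ≫ g) := by
    have h2 : p ≫ g = (yon S).map (Over.homMk U.hom : U ⟶ Over.mk (𝟙 S)) :=
      (K625.Prod.isTerminalBase S).hom_ext _ _
    rw [h2]
    refine (repWith_yon_map_iff _ _).2 ?_
    change QuasiCompact U.hom
    exact quasiCompact_of_compactSpace _
  exact repWith_of_comp h1 (repWith_diagonal_of_diag hX g)

theorem exists_GEX_eq_empty {X : Sp S} {U : Over S} [CompactSpace U.left] {p : (yon S).obj U ⟶ X}
    (hp : RepWith @Etale p) (hs : RepWith @Surjective p) (hq : RepWith @QuasiCompact p) :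
    ∃ n, GEX p (n + 1) = ∅ := by
  obtain ⟨V, snd, fst, sq⟩ := hp.1 p
  have h1 : Etale snd.left := hp.2 _ fst snd sq
  obtain ⟨fst, rfl⟩ := (yon S).map_surjective fst
  have h2 : QuasiCompact snd.left := hq.2 p _ _ sq
  have h3 : CompactSpace V.left := QuasiCompact.compactSpace_of_compactSpace snd.left
  have h4 := locallyQuasiFinite_of_etale snd.left
  obtain ⟨n, hn⟩ := K623.BddQF.exists_fle_of_compactSpace snd.left
  refine ⟨n, Set.eq_empty_of_forall_notMem fun x hx => ?_⟩
  obtain ⟨t, rfl⟩ := K610.Base.surjective_ofPt hs x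
  have h5 : t ∈ Points.ofPt p ⁻¹' GEX p (n + 1) := hx
  rw [preimage_GEX sq, GE_eq_empty_of_fle _ _ hn] at h5
  exact h5

end K594.StrataQC
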