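import Groth.Agent.Ega4A.CompleteNoeth
import Mathlib.RingTheory.AdicCompletion.AsTensorProduct
import Mathlib.RingTheory.AdicCompletion.Noetherian
import Mathlib.RingTheory.AdicCompletion.LocalRing
import Mathlib.RingTheory.Flat.FaithfullyFlat.Algebra
import Mathlib.RingTheory.Filtration
import Mathlib.LinearAlgebra.TensorProduct.Prod
import Mathlib.RingTheory.Ideal.Colon
import Mathlib.RingTheory.Localization.Away.Basic

/-!
# The algebra behind the algebraization of formal closed subspaces

`exists_level`: let `B` be a Noetherian ring with an ideal `I`, `a n` a system of ideals with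
`a n = a (n + 1) + I ^ (n + 1)`, `C` a finite `B`-algebra with an ideal `w` such that `w + I ^ (n + 1) C = a n C` for all
`n`, and `J = (s)` an ideal such that `B_f → C_f` is faithfully flat for `f ∈ s`.  Then for all large `m` and every ideal
`z` with `z + I ^ (n + 1) = a n + J ^ m` for all `n` one has `(b ⊓ z) + I ^ (n + 1) = a n`, where `b` is the kernel of
`B → C / w`.
-/

set_option autoImplicit false
set_option linter.unusedSectionVars false
universe u v

open TensorProduct

namespace K594.FormalAlg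

section flat

variable {B : Type u} [CommRing B] (B' : Type u) [CommRing B'] [Algebra B B'] [Module.Flat B B']

theorem mem_map_of_tmul_eq_zero {N : Type u} [AddCommGroup N] [Module B N] (g : B →ₗ[B] N) (x' : B')
    (hx : (LinearMap.lTensor B' g) (x' ⊗ₜ[B] (1 : B)) = 0) :
    x' ∈ Ideal.map (algebraMap B B') (LinearMap.ker g : Ideal B) := by
  have h1 : Function.Exact (LinearMap.ker g).subtype g := LinearMap.exact_subtype_ker_map g
  have h2 := Module.Flat.lTensor_exact B' h1
  obtain ⟨y, hy⟩ := (h2 _).1 hx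
  have h3 : ∀ y : B' ⊗[B] (LinearMap.ker g), (TensorProduct.rid B B') ((LinearMap.ker g).subtype.lTensor B' y) ∈
      Ideal.map (algebraMap B B') (LinearMap.ker g : Ideal B) := by
    intro y
    induction y using TensorProduct.induction_on with
    | zero => simp
    | tmul b k =>
      rw [LinearMap.lTensor_tmul, TensorProduct.rid_tmul, Algebra.smul_def]
      exact Ideal.mul_mem_right _ _ (Ideal.mem_map_of_mem _ k.2)
    | add x y hx hy =>
      rw [map_add, map_add]
      exact add_mem hx hy
  have h4 := h3 y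
  rw [hy, TensorProduct.rid_tmul, one_smul] at h4
  exact h4

theorem tmul_mk_eq_zero_of_mem_map (b : Ideal B) (x' : B') (hx : x' ∈ b.map (algebraMap B B')) :
    x' ⊗ₜ[B] (Ideal.Quotient.mk b 1) = (0 : B' ⊗[B] (B ⧸ b)) := by
  rw [Ideal.map] at hx
  induction hx using Submodule.span_induction with
  | mem x h =>
    obtain ⟨y, hy, rfl⟩ := h
    rw [Algebra.algebraMap_eq_smul_one, TensorProduct.smul_tmul]
    have : y • (Ideal.Quotient.mk b) 1 = 0 := by
      rw [map_one, Algebra.smul_def, mul_one]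
      exact Ideal.Quotient.eq_zero_iff_mem.2 hy
    rw [this, TensorProduct.tmul_zero]
  | zero => rw [TensorProduct.zero_tmul]
  | add x y _ _ hx hy => rw [TensorProduct.add_tmul, hx, hy, add_zero]
  | smul c x _ hx =>
    rw [← TensorProduct.smul_tmul', hx, smul_zero]

theorem map_inf_of_flat (b z : Ideal B) :
    (b ⊓ z).map (algebraMap B B') = b.map (algebraMap B B') ⊓ z.map (algebraMap B B') := by
  refine le_antisymm (Ideal.map_inf_le _) ?_
  rintro x ⟨h1, h2⟩
  have e : (LinearMap.ker ((Submodule.mkQ b).prod (Submodule.mkQ z)) : Ideal B) = b ⊓ z := by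
    rw [LinearMap.ker_prod, Submodule.ker_mkQ, Submodule.ker_mkQ]
  rw [← e]
  apply mem_map_of_tmul_eq_zero
  rw [LinearMap.lTensor_tmul]
  have h3 : (TensorProduct.prodRight B B B' (B ⧸ b) (B ⧸ z)) (x ⊗ₜ[B] (((Submodule.mkQ b).prod (Submodule.mkQ z)) 1)) = 0 := by
    rw [LinearMap.prod_apply]
    have e1 := tmul_mk_eq_zero_of_mem_map B' b x h1
    have e2 := tmul_mk_eq_zero_of_mem_map B' z x h2
    exact Prod.ext e1 e2
  exact (LinearEquiv.map_eq_zero_iff _).1 h3

theorem comap_map_of_flat {C : Type u} [CommRing C] [Algebra B C] (w : Ideal C) :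
    (w.map (Algebra.TensorProduct.includeRight : C →ₐ[B] B' ⊗[B] C)).comap (algebraMap B' (B' ⊗[B] C)) =
      (w.comap (algebraMap B C)).map (algebraMap B B') := by
  refine le_antisymm ?_ ?_
  · intro x hx
    let g : B →ₗ[B] (C ⧸ w) := (Ideal.Quotient.mkₐ B w).toLinearMap ∘ₗ Algebra.linearMap B C
    have e : (LinearMap.ker g : Ideal B) = w.comap (algebraMap B C) := by
      ext y
      rw [Ideal.mem_comap, LinearMap.mem_ker]
      exact Ideal.Quotient.eq_zero_iff_mem
    rw [← e]
    apply mem_map_of_tmul_eq_zero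
    rw [LinearMap.lTensor_comp, LinearMap.comp_apply, LinearMap.lTensor_tmul]
    have h1 : ∀ y ∈ w.map (Algebra.TensorProduct.includeRight : C →ₐ[B] B' ⊗[B] C),
        (LinearMap.lTensor B' (Ideal.Quotient.mkₐ B w).toLinearMap) y = 0 := by
      intro y hy
      have h2 : (LinearMap.lTensor B' (Ideal.Quotient.mkₐ B w).toLinearMap) y =
          (Algebra.TensorProduct.map (AlgHom.id B B') (Ideal.Quotient.mkₐ B w)) y := rfl
      rw [h2]
      have h3 : w.map (Algebra.TensorProduct.includeRight : C →ₐ[B] B' ⊗[B] C) ≤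
          RingHom.ker (Algebra.TensorProduct.map (AlgHom.id B B') (Ideal.Quotient.mkₐ B w)) := by
        rw [Ideal.map_le_iff_le_comap]
        intro c hc
        rw [Ideal.mem_comap, RingHom.mem_ker]
        change (Algebra.TensorProduct.map (AlgHom.id B B') (Ideal.Quotient.mkₐ B w)) (1 ⊗ₜ c) = 0
        rw [Algebra.TensorProduct.map_tmul]
        have : (Ideal.Quotient.mkₐ B w) c = 0 := Ideal.Quotient.eq_zero_iff_mem.2 hc
        rw [this, TensorProduct.tmul_zero]
      exact h3 hy
    have h4 := h1 _ hx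
    rw [Algebra.TensorProduct.algebraMap_apply] at h4
    have h5 : (Algebra.linearMap B C) (1 : B) = 1 := map_one (algebraMap B C)
    rw [h5]
    exact h4
  · rw [Ideal.map_le_iff_le_comap]
    intro x hx
    rw [Ideal.mem_comap] at hx
    rw [Ideal.mem_comap, Ideal.mem_comap]
    have : algebraMap B' (B' ⊗[B] C) (algebraMap B B' x) =
        (Algebra.TensorProduct.includeRight : C →ₐ[B] B' ⊗[B] C) (algebraMap B C x) := by
      rw [AlgHom.commutes, ← IsScalarTower.algebraMap_apply]
    rw [this]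
    exact Ideal.mem_map_of_mem _ hx

end flat

section krull

variable {B : Type u} [CommRing B] [IsNoetherianRing B] {I : Ideal B}

theorem mem_of_forall {M : Type u} [AddCommGroup M] [Module B M] [Module.Finite B M]
    (hI : I ≤ Ideal.jacobson ⊥) (N : Submodule B M) (x : M) (h : ∀ n, x ∈ N ⊔ I ^ (n + 1) • (⊤ : Submodule B M)) :
    x ∈ N := by
  have hH : IsHausdorff I (M ⧸ N) := IsHausdorff.of_le_jacobson I (M ⧸ N) hI
  have h1 : N.mkQ x = 0 := by
    refine hH.haus' _ fun n => ?_
    rw [SModEq.zero]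
    have h2 : x ∈ N ⊔ I ^ n • (⊤ : Submodule B M) := by
      refine (sup_le_sup_left ?_ N) (h n)
      exact Submodule.smul_mono_left (Ideal.pow_le_pow_right (Nat.le_succ n))
    obtain ⟨y, hy, z, hz, rfl⟩ := Submodule.mem_sup.1 h2
    rw [map_add, show N.mkQ y = 0 from (Submodule.Quotient.mk_eq_zero N).2 hy, zero_add]
    have h3 : Submodule.map N.mkQ (I ^ n • (⊤ : Submodule B M)) ≤ I ^ n • (⊤ : Submodule B (M ⧸ N)) := by
      rw [Submodule.map_smul'']
      exact Submodule.smul_mono le_rfl le_top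
    exact h3 ⟨z, hz, rfl⟩
  exact (Submodule.Quotient.mk_eq_zero N).1 h1

/-- Closedness of ideals of finite algebras. -/
theorem mem_of_forall_map {C : Type u} [CommRing C] [Algebra B C] [Module.Finite B C]
    (hI : I ≤ Ideal.jacobson ⊥) (v : Ideal C) (x : C)
    (h : ∀ n, x ∈ v ⊔ (I ^ (n + 1)).map (algebraMap B C)) : x ∈ v := by
  refine mem_of_forall hI (v.restrictScalars B) x fun n => ?_
  obtain ⟨y, hy, z, hz, rfl⟩ := Submodule.mem_sup.1 (h n)
  refine add_mem (Submodule.mem_sup_left hy) (Submodule.mem_sup_right ?_)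
  rw [Ideal.smul_top_eq_map]
  exact hz

theorem le_of_forall {v v' : Ideal B} (hI : I ≤ Ideal.jacobson ⊥) (h : ∀ n, v ≤ v' ⊔ I ^ (n + 1)) : v ≤ v' := by
  intro x hx
  refine mem_of_forall_map (C := B) hI v' x fun n => ?_
  rw [Algebra.algebraMap_self, Ideal.map_id]
  exact h n hx

variable {a : ℕ → Ideal B} (ha : ∀ n, a n = a (n + 1) ⊔ I ^ (n + 1))

include ha in
theorem pow_le (n : ℕ) : I ^ (n + 1) ≤ a n := by
  rw [ha n]
  exact le_sup_right

include ha in
theorem antitone_sys : Antitone a := antitone_nat_of_succ_le fun n => by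
  rw [ha n]
  exact le_sup_left

include ha in
theorem sup_pow {n m : ℕ} (h : n ≤ m) : a m ⊔ I ^ (n + 1) = a n := by
  obtain ⟨k, rfl⟩ := Nat.exists_eq_add_of_le h
  induction k with
  | zero => exact sup_eq_left.2 (pow_le ha n)
  | succ k ih =>
    have h1 := ih (Nat.le_add_right _ _)
    rw [ha (n + k), sup_assoc, sup_eq_right.2 (Ideal.pow_le_pow_right (by omega) : I ^ (n + k + 1) ≤ I ^ (n + 1))] at h1
    exact h1

include ha in
/-- A compatible system of ideals of an adically complete ring comes from an ideal. -/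
theorem iInf_sup_eq [IsAdicComplete I B] (n : ℕ) : (⨅ k, a k) ⊔ I ^ (n + 1) = a n := by
  refine le_antisymm (sup_le (iInf_le _ n) (pow_le ha n)) fun x hx => ?_
  have step : ∀ (k : ℕ) (y : {y : B // y ∈ a (n + k)}),
      ∃ y' : {y : B // y ∈ a (n + (k + 1))}, y'.1 - y.1 ∈ I ^ (n + k + 1) := by
    rintro k ⟨y, hy⟩
    rw [ha (n + k)] at hy
    obtain ⟨y', hy', i, hi, rfl⟩ := Submodule.mem_sup.1 hy
    refine ⟨⟨y', hy'⟩, ?_⟩
    have : y' - (y' + i) = -i := by ring
    change y' - (y' + i) ∈ _
    rw [this]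
    exact neg_mem hi
  choose nxt hnxt using step
  let y : ∀ k, {y : B // y ∈ a (n + k)} := fun k =>
    Nat.rec (motive := fun k => {y : B // y ∈ a (n + k)}) ⟨x, hx⟩ (fun k y => nxt k y) k
  have hy : ∀ k, (y (k + 1)).1 - (y k).1 ∈ I ^ (n + k + 1) := fun k => hnxt k (y k)
  have hyy : ∀ k l, k ≤ l → (y l).1 - (y k).1 ∈ I ^ (n + k + 1) := by
    intro k l hkl
    obtain ⟨d, rfl⟩ := Nat.exists_eq_add_of_le hkl
    induction d with
    | zero => simp
    | succ d ih =>
      have h1 := ih (Nat.le_add_right _ _)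
      have h2 := Ideal.pow_le_pow_right (I := I) (by omega : n + k + 1 ≤ n + (k + d) + 1) (hy (k + d))
      have : (y (k + (d + 1))).1 - (y k).1 = ((y (k + d + 1)).1 - (y (k + d)).1) + ((y (k + d)).1 - (y k).1) := by
        rw [show k + (d + 1) = k + d + 1 from rfl]
        ring
      rw [this]
      exact add_mem h2 h1
  obtain ⟨L, hL⟩ := IsPrecomplete.prec' (I := I) (fun k => (y k).1) (fun {k l} hkl => by
    rw [SModEq.sub_mem]
    have h1 := hyy k l hkl
    have h2 : (y k).1 - (y l).1 ∈ I ^ k := by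
      have := neg_mem h1
      rw [neg_sub] at this
      exact Ideal.pow_le_pow_right (by omega) this
    simpa using h2)
  have hL' : ∀ k, L - (y k).1 ∈ I ^ (n + k + 1) := by
    intro k
    have h1 := hL (n + k + 1)
    rw [SModEq.sub_mem] at h1
    have h2 : (y (n + k + 1)).1 - L ∈ I ^ (n + k + 1) := by simpa using h1
    have h3 := hyy k (n + k + 1) (by omega)
    have : L - (y k).1 = -((y (n + k + 1)).1 - L) + ((y (n + k + 1)).1 - (y k).1) := by ring
    rw [this]
    exact add_mem (neg_mem h2) h3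
  have hLa : ∀ k, L ∈ a k := by
    intro k
    have h1 : L ∈ a (n + k) := by
      have : L = (L - (y k).1) + (y k).1 := by ring
      rw [this]
      exact add_mem (pow_le ha _ (hL' k)) (y k).2
    exact antitone_sys ha (by omega) h1
  have h0 : L - x ∈ I ^ (n + 1) := hL' 0
  have : x = L + -(L - x) := by ring
  rw [this]
  exact add_mem (Submodule.mem_sup_left (Submodule.mem_iInf _ |>.2 hLa))
    (Submodule.mem_sup_right (neg_mem h0))

/-- The complete case. -/
theorem exists_level_complete [IsAdicComplete I B] {C : Type u} [CommRing C] [Algebra B C] [Module.Finite B C]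
    {a : ℕ → Ideal B} (ha : ∀ n, a n = a (n + 1) ⊔ I ^ (n + 1)) (w : Ideal C)
    (hw : ∀ n, w ⊔ (I ^ (n + 1)).map (algebraMap B C) = (a n).map (algebraMap B C)) (s : Set B)
    (hs : ∀ f ∈ s, Module.FaithfullyFlat (Localization.Away f) (Localization.Away f ⊗[B] C)) :
    ∃ m₀, ∀ m, m₀ ≤ m → ∀ z : Ideal B, (∀ n, z ⊔ I ^ (n + 1) = a n ⊔ (Ideal.span s) ^ m) →
      w.comap (algebraMap B C) ⊓ z = ⨅ k, a k := by
  have hI : I ≤ Ideal.jacobson ⊥ := IsAdicComplete.le_jacobson_bot I
  set A := ⨅ k, a k with hA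
  have hAn : ∀ n, A ⊔ I ^ (n + 1) = a n := iInf_sup_eq ha
  -- `w = A C`
  have hwA : w = A.map (algebraMap B C) := by
    have h1 : ∀ n, w ⊔ (I ^ (n + 1)).map (algebraMap B C) =
        A.map (algebraMap B C) ⊔ (I ^ (n + 1)).map (algebraMap B C) := fun n => by
      rw [hw, ← hAn, Ideal.map_sup]
    apply le_antisymm
    · intro x hx
      exact mem_of_forall_map hI _ x fun n => (h1 n) ▸ Ideal.mem_sup_left hx
    · intro x hx
      exact mem_of_forall_map hI _ x fun n => (h1 n).symm ▸ Ideal.mem_sup_left hx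
  set b := w.comap (algebraMap B C) with hb
  have hAb : A ≤ b := by
    rw [hb, hwA]
    exact Ideal.le_comap_map
  -- every `f ∈ s` has a power killing `b / A`
  have hf : ∀ f ∈ s, ∀ x ∈ b, ∃ N : ℕ, f ^ N * x ∈ A := by
    intro f hfs x hx
    have := hs f hfs
    let L := Localization.Away f
    have h1 : algebraMap L (L ⊗[B] C) (algebraMap B L x) ∈ (A.map (algebraMap B L)).map (algebraMap L (L ⊗[B] C)) := by
      rw [Ideal.map_map, ← IsScalarTower.algebraMap_apply, ← IsScalarTower.algebraMap_eq]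
      rw [hb, hwA, Ideal.mem_comap] at hx
      have h2 := Ideal.mem_map_of_mem (Algebra.TensorProduct.includeRight : C →ₐ[B] L ⊗[B] C) hx
      rw [AlgHom.commutes] at h2
      have h3 : (A.map (algebraMap B C)).map (Algebra.TensorProduct.includeRight : C →ₐ[B] L ⊗[B] C) =
          A.map (algebraMap B (L ⊗[B] C)) := by
        change (A.map (algebraMap B C)).map (Algebra.TensorProduct.includeRight : C →ₐ[B] L ⊗[B] C).toRingHom = _
        rw [Ideal.map_map]
        congr 1
        ext y
        exact (Algebra.TensorProduct.includeRight : C →ₐ[B] L ⊗[B] C).commutes y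
      rw [h3] at h2
      exact h2
    rw [← Ideal.mem_comap, Ideal.comap_map_eq_self_of_faithfullyFlat,
      IsLocalization.algebraMap_mem_map_algebraMap_iff (Submonoid.powers f)] at h1
    obtain ⟨_, ⟨N, rfl⟩, h2⟩ := h1
    exact ⟨N, h2⟩
  -- a power of `J` kills `b / A`
  obtain ⟨k, hk⟩ : ∃ k, (Ideal.span s) ^ k * b ≤ A := by
    have hbfg : b.FG := Ideal.fg_of_isNoetherianRing b
    have hrad : Ideal.span s ≤ (A.colon (b : Set B)).radical := by
      rw [Ideal.span_le]
      intro f hfs
      obtain ⟨t, ht⟩ := hbfg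
      choose! N hN using hf f hfs
      refine ⟨t.sup N, ?_⟩
      have h1 : b ≤ Submodule.comap (LinearMap.mulLeft B (f ^ t.sup N)) A := by
        rw [← ht, Submodule.span_le]
        intro x hx
        have hxb : x ∈ b := by
          rw [← ht]
          exact Submodule.subset_span hx
        change f ^ t.sup N * x ∈ A
        have h2 : N x ≤ t.sup N := Finset.le_sup hx
        obtain ⟨d, hd⟩ := Nat.exists_eq_add_of_le h2
        rw [hd, pow_add, mul_comm (f ^ N x), mul_assoc]
        exact Ideal.mul_mem_left _ _ (hN x hxb)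
      rw [Submodule.mem_colon]
      intro x hx
      exact h1 hx
    obtain ⟨k, hk⟩ := Ideal.exists_pow_le_of_le_radical_of_fg hrad (Ideal.fg_of_isNoetherianRing _)
    refine ⟨k, ?_⟩
    rw [Ideal.mul_le]
    intro r hr x hx
    have := Submodule.mem_colon.1 (hk hr) x hx
    exact this
  -- Artin-Rees in `B / A`
  let N : Submodule B (B ⧸ A) := Submodule.map A.mkQ b
  obtain ⟨c, hc⟩ := Ideal.exists_pow_inf_eq_pow_smul (Ideal.span s) N
  refine ⟨k + c, fun m hm z hz => ?_⟩
  have hzA : z = A ⊔ (Ideal.span s) ^ m := by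
    have h1 : ∀ n, z ⊔ I ^ (n + 1) = (A ⊔ (Ideal.span s) ^ m) ⊔ I ^ (n + 1) := fun n => by
      rw [hz, ← hAn n, sup_right_comm]
    exact le_antisymm (le_of_forall hI fun n => le_sup_left.trans (h1 n).le)
      (le_of_forall hI fun n => le_sup_left.trans (h1 n).ge)
  refine le_antisymm ?_ (le_inf hAb (hzA ▸ le_sup_left))
  rintro x ⟨hxb, hxz⟩
  rw [hzA] at hxz
  have h1 : A.mkQ x ∈ (Ideal.span s) ^ m • (⊤ : Submodule B (B ⧸ A)) ⊓ N := by
    refine ⟨?_, ⟨x, hxb, rfl⟩⟩
    obtain ⟨y, hy, j, hj, rfl⟩ := Submodule.mem_sup.1 hxz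
    rw [map_add, show A.mkQ y = 0 from (Submodule.Quotient.mk_eq_zero A).2 hy, zero_add]
    have h2 : A.mkQ j = j • A.mkQ 1 := by rw [← map_smul, smul_eq_mul, mul_one]
    rw [h2]
    exact Submodule.smul_mem_smul hj trivial
  rw [hc m (by omega)] at h1
  have h2 : (Ideal.span s) ^ (m - c) • ((Ideal.span s) ^ c • ⊤ ⊓ N) ≤ (⊥ : Submodule B (B ⧸ A)) := by
    refine (Submodule.smul_mono le_rfl inf_le_right).trans ?_
    rw [Submodule.smul_le]
    rintro r hr _ ⟨y, hy, rfl⟩
    rw [← map_smul, Submodule.mem_bot]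
    refine (Submodule.Quotient.mk_eq_zero A).2 ?_
    exact hk (Ideal.mul_mem_mul (Ideal.pow_le_pow_right (by omega) hr) hy)
  exact (Submodule.Quotient.mk_eq_zero A).1 ((Submodule.mem_bot B).1 (h2 h1))

end krull

section general

variable {B : Type u} [CommRing B] [IsNoetherianRing B] {I : Ideal B}

/-- Ideals containing a power of `I` are determined by their extension to the completion. -/
theorem comap_map_completion {v : Ideal B} {n : ℕ} (h : I ^ n ≤ v) :
    (v.map (algebraMap B (AdicCompletion I B))).comap (algebraMap B (AdicCompletion I B)) = v := by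
  refine le_antisymm (fun x hx => ?_) Ideal.le_comap_map
  rw [Ideal.mem_comap] at hx
  have h1 := Ideal.mem_map_of_mem (AdicCompletion.evalₐ I n) hx
  have h2 : (v.map (algebraMap B (AdicCompletion I B))).map (AdicCompletion.evalₐ I n) =
      v.map (Ideal.Quotient.mk (I ^ n)) := by
    change (v.map (algebraMap B (AdicCompletion I B))).map (AdicCompletion.evalₐ I n).toRingHom = _
    rw [Ideal.map_map]
    congr 1
  rw [h2, AlgHom.commutes] at h1
  have h3 := Ideal.mem_map_iff_of_surjective _ Ideal.Quotient.mk_surjective |>.1 h1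
  obtain ⟨y, hy, hxy⟩ := h3
  have h4 : y - x ∈ I ^ n := Ideal.Quotient.eq.1 hxy
  have : x = y - (y - x) := by ring
  rw [this]
  exact sub_mem hy (h h4)

theorem exists_level {C : Type u} [CommRing C] [Algebra B C] [Module.Finite B C]
    {a : ℕ → Ideal B} (ha : ∀ n, a n = a (n + 1) ⊔ I ^ (n + 1)) (w : Ideal C)
    (hw : ∀ n, w ⊔ (I ^ (n + 1)).map (algebraMap B C) = (a n).map (algebraMap B C)) (s : Set B)
    (hs : ∀ f ∈ s, Module.FaithfullyFlat (Localization.Away f) (Localization.Away f ⊗[B] C)) :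
    ∃ m₀, ∀ m, m₀ ≤ m → ∀ z : Ideal B, (∀ n, z ⊔ I ^ (n + 1) = a n ⊔ (Ideal.span s) ^ m) →
      ∀ n, (w.comap (algebraMap B C) ⊓ z) ⊔ I ^ (n + 1) = a n := by
  let B' := AdicCompletion I B
  have hN : IsNoetherianRing B' := Groth.Agent.Ega4A.CompleteNoeth.isNoetherianRing_adicCompletion I
  have hfl : Module.Flat B B' := inferInstance
  let I' : Ideal B' := I.map (algebraMap B B')
  have hc : IsAdicComplete I' B' :=
    (IsAdicComplete.map_algebraMap_iff _ _).2 (AdicCompletion.isAdicComplete (Ideal.fg_of_isNoetherianRing I))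
  let C' := B' ⊗[B] C
  let ιC : C →ₐ[B] C' := Algebra.TensorProduct.includeRight
  have hmap : ∀ v : Ideal B, (v.map (algebraMap B C)).map ιC = (v.map (algebraMap B B')).map (algebraMap B' C') := by
    intro v
    change (v.map (algebraMap B C)).map ιC.toRingHom = _
    rw [Ideal.map_map, Ideal.map_map]
    congr 1
    ext y
    change ιC (algebraMap B C y) = algebraMap B' C' (algebraMap B B' y)
    rw [AlgHom.commutes, ← IsScalarTower.algebraMap_apply]
  have ha' : ∀ n, (a n).map (algebraMap B B') = (a (n + 1)).map (algebraMap B B') ⊔ I' ^ (n + 1) := by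
    intro n
    rw [← Ideal.map_pow, ← Ideal.map_sup, ← ha]
  have hw' : ∀ n, (w.map ιC) ⊔ (I' ^ (n + 1)).map (algebraMap B' C') = ((a n).map (algebraMap B B')).map
      (algebraMap B' C') := by
    intro n
    rw [← Ideal.map_pow, ← hmap, ← hmap, ← Ideal.map_sup, hw]
  have hs' : ∀ f ∈ (algebraMap B B') '' s,
      Module.FaithfullyFlat (Localization.Away f) (Localization.Away f ⊗[B'] C') := by
    rintro _ ⟨f, hf, rfl⟩
    have h0 := hs f hf
    let L := Localization.Away f
    let L' := Localization.Away (algebraMap B B' f)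
    let _ : Algebra L L' := (IsLocalization.Away.map L L' (algebraMap B B') f).toAlgebra
    have : IsScalarTower B L L' := IsScalarTower.of_algebraMap_eq' (by
      rw [RingHom.algebraMap_toAlgebra, IsLocalization.Away.map, IsLocalization.map_comp]
      exact IsScalarTower.algebraMap_eq B B' L')
    have h1 : Module.FaithfullyFlat L' (L' ⊗[L] (L ⊗[B] C)) := inferInstance
    have e1 : L' ⊗[L] (L ⊗[B] C) ≃ₗ[L'] L' ⊗[B] C := TensorProduct.AlgebraTensorModule.cancelBaseChange B L L' L' C
    have e2 : L' ⊗[B'] (B' ⊗[B] C) ≃ₗ[L'] L' ⊗[B] C := TensorProduct.AlgebraTensorModule.cancelBaseChange B B' L' L' C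
    exact Module.FaithfullyFlat.of_linearEquiv _ _ (e2.trans e1.symm)
  obtain ⟨m₀, hm₀⟩ := exists_level_complete (B := B') (I := I') (C := C') ha' (w.map ιC) hw' _ hs'
  refine ⟨m₀, fun m hm z hz n => ?_⟩
  have hz' : ∀ n, z.map (algebraMap B B') ⊔ I' ^ (n + 1) = (a n).map (algebraMap B B') ⊔
      (Ideal.span ((algebraMap B B') '' s)) ^ m := by
    intro n
    rw [← Ideal.map_pow, ← Ideal.map_sup, hz, Ideal.map_sup, Ideal.map_pow, Ideal.map_span]
  have h1 := hm₀ m hm _ hz'
  have h2 : (w.map ιC).comap (algebraMap B' C') = (w.comap (algebraMap B C)).map (algebraMap B B') :=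
    comap_map_of_flat B' w
  rw [h2, ← map_inf_of_flat] at h1
  have h3 := iInf_sup_eq ha' n
  rw [← h1, ← Ideal.map_pow, ← Ideal.map_sup] at h3
  have h4 := congrArg (Ideal.comap (algebraMap B B')) h3
  rw [comap_map_completion (n := n + 1) le_sup_right, comap_map_completion (pow_le ha n)] at h4
  exact h4

end general

end K594.FormalAlg
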