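import Groth.Agent.AlgSp.K594.AlgSch
import Groth.Agent.AlgSp.K597.ProperCancel
import Groth.Agent.AlgSp.K609.QC

/-!
# Affine charts for the algebraization theorem

* `exists_spec_chart`: a quasi-compact space over `Spec A` has a chart `Spec B ⟶ X`.
* `exists_spec_finite`: a finite scheme over `Spec B` is `Spec C`.
* `faithfullyFlat`: faithful flatness over a localization from a geometric statement.
-/

set_option autoImplicit false
universe u
open CategoryTheory CategoryTheory.Limits AlgebraicGeometry Opposite TensorProduct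
open AlgSp K598.Site K598.RepKit K598.ClFam K598.Charts
open K594.FamOps K594.AlgSch

namespace K594.AlgChart

variable {R : CommRingCat.{u}} {X Y : Sp (Spec R)}

/-- The affine scheme `Spec B` over `Spec R`. -/
noncomputable abbrev sp {B : CommRingCat.{u}} (φ : R ⟶ B) : Over (Spec R) := Over.mk (Spec.map φ)

/-- The map of affine schemes over `Spec R`. -/
noncomputable abbrev spm {B C : CommRingCat.{u}} (φ : R ⟶ B) (ψ : B ⟶ C) : sp (φ ≫ ψ) ⟶ sp φ :=
  Over.homMk (Spec.map ψ) (Spec.map_comp φ ψ).symm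

theorem exists_iso_sp (V : Over (Spec R)) [IsAffine V.left] :
    ∃ (B : CommRingCat.{u}) (φ : R ⟶ B), Nonempty (sp φ ≅ V) := by
  refine ⟨Γ(V.left, ⊤), Spec.preimage (V.left.isoSpec.inv ≫ V.hom), ⟨Over.isoMk V.left.isoSpec.symm ?_⟩⟩
  change V.left.isoSpec.inv ≫ V.hom = Spec.map (Spec.preimage (V.left.isoSpec.inv ≫ V.hom))
  rw [Spec.map_preimage]

theorem exists_spec_chart (hq : IsQuasiCompactSp X) : ∃ (B : CommRingCat.{u}) (φ : R ⟶ B)
    (p : (yon (Spec R)).obj (sp φ) ⟶ X), RepWith @Etale p ∧ RepWith @Surjective p := by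
  obtain ⟨U, p, hU, h1, h2⟩ := K609.QC.exists_affine_chart hq
  obtain ⟨B, φ, ⟨e⟩⟩ := exists_iso_sp U
  refine ⟨B, φ, (yon _).map e.hom ≫ p, ?_, ?_⟩
  · exact MorphismProperty.comp_mem _ _ _ (repWith_of_isIso _) h1
  · exact MorphismProperty.comp_mem _ _ _ (repWith_of_isIso _) h2

/-- A finite scheme over `Spec B` is `Spec C`. -/
theorem exists_spec_finite {B : CommRingCat.{u}} {φ : R ⟶ B} {V : Over (Spec R)} (q : V ⟶ sp φ) (hq : IsFinite q.left) :
    ∃ (C : CommRingCat.{u}) (ψ : B ⟶ C) (e : sp (φ ≫ ψ) ≅ V), e.hom ≫ q = spm φ ψ ∧ ψ.hom.Finite := by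
  have h1 : IsAffineHom q.left := inferInstance
  have h0 : IsAffine (sp φ).left := inferInstanceAs (IsAffine (Spec B))
  have h2 : IsAffine V.left := isAffine_of_isAffineHom q.left
  let ψ : B ⟶ Γ(V.left, ⊤) := Spec.preimage (V.left.isoSpec.inv ≫ q.left)
  have hψ : Spec.map ψ = V.left.isoSpec.inv ≫ q.left := Spec.map_preimage _
  let e : sp (φ ≫ ψ) ≅ V := Over.isoMk V.left.isoSpec.symm (by
    change V.left.isoSpec.inv ≫ V.hom = Spec.map (φ ≫ ψ)
    rw [Spec.map_comp, hψ, Category.assoc, ← Over.w q]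
    rfl)
  refine ⟨_, ψ, e, ?_, ?_⟩
  · apply Over.OverMorphism.ext
    change V.left.isoSpec.inv ≫ q.left = Spec.map ψ
    rw [hψ]
  · have h3 : IsFinite (Spec.map ψ) := by
      rw [hψ]
      infer_instance
    exact (IsFinite.SpecMap_iff _).1 h3

theorem exists_finite_sq {Z : Sp (Spec R)} {g : Z ⟶ X} (hg : RepWith @IsFinite g)
    {B : CommRingCat.{u}} {φ : R ⟶ B} (p : (yon (Spec R)).obj (sp φ) ⟶ X) :
    ∃ (C : CommRingCat.{u}) (ψ : B ⟶ C) (f : (yon (Spec R)).obj (sp (φ ≫ ψ)) ⟶ Z), ψ.hom.Finite ∧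
      IsPullback f ((yon _).map (spm φ ψ)) g p := by
  have sq := hg.1.isPullback p
  obtain ⟨C, ψ, e, he, hψ⟩ := exists_spec_finite (hg.1.snd p) (hg.2 _ _ _ sq)
  refine ⟨C, ψ, (yon _).map e.hom ≫ hg.1.fst p, hψ, ?_⟩
  rw [← he, Functor.map_comp]
  exact IsPullback.of_iso sq ((yon _).mapIso e.symm) (Iso.refl _) (Iso.refl _) (Iso.refl _) (by simp) (by simp)
    (by simp) (by simp)

/-- The pullback of `Spec C ⟶ Spec B` along `Spec L ⟶ Spec B`. -/
theorem isPullback_tensor {B : CommRingCat.{u}} (φ : R ⟶ B) {C : CommRingCat.{u}} (ψ : B ⟶ C) (L : Type u) [CommRing L]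
    [Algebra B L] [Algebra B C] (h : algebraMap B C = ψ.hom) :
    ∃ (a : sp ((φ ≫ CommRingCat.ofHom (algebraMap B L)) ≫
        CommRingCat.ofHom (S := L ⊗[B] C) Algebra.TensorProduct.includeLeftRingHom) ⟶ sp (φ ≫ ψ)),
      IsPullback a (spm (φ ≫ CommRingCat.ofHom (algebraMap B L))
        (CommRingCat.ofHom (S := L ⊗[B] C) Algebra.TensorProduct.includeLeftRingHom))
        (spm φ ψ) (spm φ (CommRingCat.ofHom (algebraMap B L))) := by
  have h1 := CommRingCat.isPushout_tensorProduct B L C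
  have h2 := isPullback_SpecMap_of_isPushout _ _ _ _ h1
  have h3 : CommRingCat.ofHom (algebraMap B C) = ψ := by
    rw [h]
    rfl
  refine ⟨Over.homMk (Spec.map (CommRingCat.ofHom (S := L ⊗[B] C)
    Algebra.TensorProduct.includeRight.toRingHom)) ?_, over_isPullback ?_⟩
  · change Spec.map _ ≫ Spec.map _ = Spec.map _
    rw [← Spec.map_comp]
    congr 1
    rw [Category.assoc, Category.assoc, h1.w, ← h3]
  · change IsPullback (Spec.map _) (Spec.map _) (Spec.map ψ) (Spec.map _)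
    rw [← h3]
    exact h2.flip

/-- Faithful flatness from flatness and surjectivity of a pullback. -/
theorem faithfullyFlat {Z : Sp (Spec R)} {g : Z ⟶ X} {B : CommRingCat.{u}} {φ : R ⟶ B}
    {p : (yon (Spec R)).obj (sp φ) ⟶ X} {C : CommRingCat.{u}} {ψ : B ⟶ C}
    {f : (yon (Spec R)).obj (sp (φ ≫ ψ)) ⟶ Z} (sq : IsPullback f ((yon _).map (spm φ ψ)) g p)
    {P U : Sp (Spec R)} {j : U ⟶ X} {fst : P ⟶ Z} {snd : P ⟶ U} (sqU : IsPullback fst snd g j)
    (hU : RepWith @Flat snd) (hU' : RepWith @Surjective snd)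
    (L : Type u) [CommRing L] [Algebra B L] [Algebra B C] (h : algebraMap B C = ψ.hom)
    (d : (yon (Spec R)).obj (sp (φ ≫ CommRingCat.ofHom (algebraMap B L))) ⟶ U)
    (hd : d ≫ j = (yon _).map (spm φ (CommRingCat.ofHom (algebraMap B L))) ≫ p) :
    Module.FaithfullyFlat L (L ⊗[B] C) := by
  obtain ⟨a, sqa⟩ := isPullback_tensor φ ψ L h
  have sq1 := (yon_isPullback sqa).paste_horiz sq
  rw [← hd] at sq1
  obtain ⟨c, -, sqc⟩ := K596.QC.isPullback_lift_right sqU sq1
  have h1 : Flat (Spec.map (CommRingCat.ofHom (S := L ⊗[B] C) Algebra.TensorProduct.includeLeftRingHom)) :=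
    hU.2 _ _ _ sqc
  have h2 : Surjective (Spec.map (CommRingCat.ofHom (S := L ⊗[B] C) Algebra.TensorProduct.includeLeftRingHom)) :=
    hU'.2 _ _ _ sqc
  have h3 : (algebraMap L (L ⊗[B] C)).FaithfullyFlat := by
    rw [RingHom.FaithfullyFlat.iff_flat_and_comap_surjective]
    exact ⟨(Flat.SpecMap_iff).1 h1, h2.1⟩
  exact RingHom.faithfullyFlat_algebraMap_iff.1 h3

end K594.AlgChart
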