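import Groth.Agent.AlgSp.K594.AlgWrap

/-!
# The cover hypothesis from the existence theorem S10066
-/

set_option autoImplicit false
universe u
open CategoryTheory CategoryTheory.Limits AlgebraicGeometry Opposite
open AlgSp K598.Site K598.RepKit K598.ClFam K598.Charts
open K594.FamOps K594.AlgSch K594.AlgChart K594.AlgStep K597.ProperSub

namespace K594.AlgCover

/-- The statement of S10066 over the base `S` (without the last assertions). -/
def CoverStmt (S : Scheme.{u}) : Prop :=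
  ∀ (X : AlgSp.Space S) (_ : AlgSp.IsQuasiCompactSp X.obj) (_ : AlgSp.IsQuasiSeparatedSp X.obj)
    (_ : (irreducibleComponents (AlgSp.Points X.obj)).Finite)
    (V : Over S) (p : (AlgSp.yon S).obj V ⟶ X.obj) (_ : AlgSp.RepWith @Etale p) (_ : AlgSp.RepWith @Surjective p),
    ∃ (Y : Over S) (g : (AlgSp.yon S).obj Y ⟶ X.obj) (U : AlgSp.Space S) (j : U ⟶ X),
      AlgSp.IsFiniteMor g ∧ AlgSp.IsSurjectiveMor g ∧ AlgSp.IsFinitePresentationMor g ∧
      AlgSp.RepWith @IsOpenImmersion j.hom ∧ AlgSp.IsQuasiCompactSp U.obj ∧ Dense (Set.range (AlgSp.Points.map j.hom)) ∧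
      (∀ (P : AlgSp.Sp S) (fst : P ⟶ (AlgSp.yon S).obj Y) (snd : P ⟶ U.obj), IsPullback fst snd g j.hom →
        AlgSp.IsFiniteMor snd ∧ AlgSp.IsEtaleMor snd) ∧
      ∀ y : ↥Y.left, ∃ (W : Y.left.Opens), y ∈ W ∧
        ∃ k : Over.mk (W.ι ≫ Y.hom) ⟶ V, (AlgSp.yon S).map k ≫ p = (AlgSp.yon S).map (Over.homMk W.ι) ≫ g

theorem isQuasiSeparatedSp_base (S : Scheme.{u}) : IsQuasiSeparatedSp ((yon S).obj (Over.mk (𝟙 S))) := by
  have h : IsIso (Limits.diag ((yon S).obj (Over.mk (𝟙 S)))) :=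
    ⟨prod.fst, prod.lift_fst _ _, by
      apply Limits.prod.hom_ext
      · exact (K596.QC2.isTerminalYon S).hom_ext _ _
      · exact (K596.QC2.isTerminalYon S).hom_ext _ _⟩
  exact repWith_of_isIso _

theorem isQuasiSeparatedMor_of_isSeparatedMor {S : Scheme.{u}} {X Y : Sp S} {f : X ⟶ Y} (h : IsSeparatedMor f) :
    IsQuasiSeparatedMor f :=
  repWith_mono (fun _ _ f (_ : IsClosedImmersion f) => (inferInstance : QuasiCompact f)) h

theorem coverHyp {A : Type u} [CommRing A] [IsNoetherianRing A] (H : CoverStmt (Spec (CommRingCat.of A))) :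
    K594.AlgInd.CoverHyp A := by
  intro X s hX hs1 hs2 hE
  have hqc := isQuasiCompactSp_of_mor s hs2.2
  have hqs : IsQuasiSeparatedSp X := K636.QcqsOver.isQuasiSeparatedSp_of_mor
    (isQuasiSeparatedMor_of_isSeparatedMor hs1) (isQuasiSeparatedSp_base _)
  have hN := K594.AlgInd.noetherianSpace_points s hs2
  obtain ⟨V, p, h1, h2⟩ := hX.atlas
  obtain ⟨Y, g, U, j, g1, g2, g3, g4, g5, g6, g7, -⟩ := H ⟨X, hX⟩ hqc hqs
    (TopologicalSpace.NoetherianSpace.finite_irreducibleComponents) V p h1 h2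
  have sq := IsPullback.of_hasPullback g j.hom
  obtain ⟨k1, k2⟩ := g7 _ _ _ sq
  have hg : RepWith @IsFinite g := K617.FinLoc.isFiniteMor_iff.1 g1
  have hgs : RepWith @Surjective g := (K609.Points.repWith_surjective_iff hg.1).2 g2
  have hsnd := K617.FinLoc.isFiniteMor_iff.1 k1
  refine ⟨Y, g, U.obj, _, j.hom, _, _, hg, hgs, g4, sq, ?_, repWith_of_isPullback sq hgs, g6⟩
  exact K597.repWith_of_locP K597.etLoc_etale U.property.hasAtlas hsnd.1 (K597.locP_etale_of_isEtaleMor k2)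

end K594.AlgCover
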