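import Groth.Agent.AlgSp.K594.AlgStep
import Groth.Agent.AlgSp.K610.Noeth
import Groth.Agent.AlgSp.K610.OpenImm
import Groth.Agent.AlgSp.K610.EtaleMor
import Groth.Agent.AlgSp.K636.QcqsOver

/-!
# Algebraization of formal closed subspaces: Noetherian induction

`main`: on a space `X` separated and of finite type over the complete Noetherian ring `A`, a compatible system of closed
subspaces of the `X_n`, the first one proper, comes from a closed subspace of `X` proper over `A`.
-/

set_option autoImplicit false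
universe u
open CategoryTheory CategoryTheory.Limits AlgebraicGeometry Opposite TensorProduct TopologicalSpace
open AlgSp K598.Site K598.RepKit K598.ClFam K598.Charts
open K594.FamOps K594.AlgSch K594.AlgChart K594.AlgStep K597.ProperSub

namespace K594.AlgInd

section general

variable {S : Scheme.{u}} {X Y Z B : Sp S}

theorem range_pow_subset (hY : IsAlgSpace Y) (J : Fam Y) (m : ℕ) :
    Set.range (Points.map (pow J m).ι) ⊆ Set.range (Points.map J.ι) := by
  obtain ⟨V, p, h1, h2⟩ := hY.atlas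
  intro y hy
  obtain ⟨v, rfl⟩ := K609.Points.surjective_ofPt_of_repWith_surjective h2 y
  have h3 : v ∈ Points.ofPt p ⁻¹' Set.range (Points.map (pow J m).ι) := hy
  rw [K598.Red.range_map_ι, pow_I] at h3
  change v ∈ Points.ofPt p ⁻¹' Set.range (Points.map J.ι)
  rw [K598.Red.range_map_ι]
  rcases m with _ | m
  · have h4 : J.I p ^ 0 = ⊤ := by
      rw [pow_zero]
      rfl
    rw [h4] at h3
    simp at h3
  · rw [Scheme.IdealSheafData.support_pow_succ] at h3
    exact h3

/-- Properness of the closed subspaces of a closed subspace. -/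
theorem isProperMor_pull (hX : IsAlgSpace X) (hZ : IsAlgSpace Z) (hB : IsAlgSpace B) {i : Z ⟶ X}
    (hi : RepWith @IsClosedImmersion i) {s : X ⟶ B} {a : Fam X} (h : IsProperMor (a.ι ≫ s)) :
    IsProperMor ((pull i a).ι ≫ i ≫ s) := by
  have sq := IsPullback.of_hasPullback a.ι i
  have hsnd : RepWith @IsClosedImmersion (pullback.snd a.ι i) := repWith_of_isPullback sq a.repWith_ι
  have hfst : RepWith @IsClosedImmersion (pullback.fst a.ι i) := repWith_of_isPullback sq.flip hi
  have h1 : ofClosed (pullback.snd a.ι i) hsnd = pull i a := by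
    rw [ofClosed_pullback a.repWith_ι sq hsnd, ofClosed_ι]
  obtain ⟨e, he, he'⟩ := exists_iso_of_eq (pull i a).repWith_ι hsnd (by rw [ofClosed_ι, h1])
  have hA := a.isAlgSpace_sheaf hX
  have h2 : (pull i a).ι ≫ i ≫ s = (e.hom ≫ pullback.fst a.ι i) ≫ a.ι ≫ s := by
    rw [← he, Category.assoc, Category.assoc, ← Category.assoc (pullback.snd a.ι i), ← pullback.condition,
      Category.assoc]
  rw [h2]
  refine isProperMor_comp ((pull i a).isAlgSpace_sheaf hZ) hA hB (isProperMor_of_closed hA ?_) h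
  exact MorphismProperty.comp_mem _ _ _ (repWith_of_isIso e.hom) hfst

theorem fam_eq_of_isEmpty [IsEmpty (Points X)] (a b : Fam X) : a = b := by
  ext T g : 3
  have h : IsEmpty T.left := ⟨fun t => IsEmpty.false (Points.ofPt g t)⟩
  refine Groth.Agent.Divis.IdealComap.ext_of_forall_mem fun x => (h.false x).elim

theorem injective_of_closed {i : Z ⟶ X} (hi : RepWith @IsClosedImmersion i) : Function.Injective (Points.map i) :=
  K597.UnivInj.injective_of_repWith
    (repWith_mono (fun _ _ f (_ : IsClosedImmersion f) => (inferInstance : UniversallyInjective f)) hi)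

theorem isSeparatedMor_comp {f : X ⟶ Y} {g : Y ⟶ Z} (hf : IsSeparatedMor f) (hg : IsSeparatedMor g) :
    IsSeparatedMor (f ≫ g) :=
  K595.DiagRel.isSeparatedMor_isMultiplicative.comp_mem _ _ hf hg

theorem isFiniteTypeMor_comp (hX : IsAlgSpace X) (hY : IsAlgSpace Y) (hZ : IsAlgSpace Z) {f : X ⟶ Y} {g : Y ⟶ Z}
    (hf : IsFiniteTypeMor f) (hg : IsFiniteTypeMor g) : IsFiniteTypeMor (f ≫ g) :=
  ⟨K597.locP_comp K597.etLoc_lft hX.hasAtlas hY.hasAtlas hZ.hasAtlas hf.1 hg.1,
    K596.QC.isQuasiCompactMor_comp hY hZ hf.2 hg.2⟩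

end general

variable {A : Type u} [CommRing A] (I : Ideal A)

/-- Existence of finite covers by schemes which are flat over a nonempty open subspace. -/
def CoverHyp (A : Type u) [CommRing A] : Prop :=
  ∀ (X : Sp (Spec (CommRingCat.of A))) (s : X ⟶ (yon (Spec (CommRingCat.of A))).obj (Over.mk (𝟙 _))), IsAlgSpace X →
    IsSeparatedMor s → IsFiniteTypeMor s → Nonempty (Points X) →
    ∃ (Y : Over (Spec (CommRingCat.of A))) (g : (yon _).obj Y ⟶ X) (U P : Sp (Spec (CommRingCat.of A)))
      (j : U ⟶ X) (fst : P ⟶ (yon _).obj Y) (snd : P ⟶ U), RepWith @IsFinite g ∧ RepWith @Surjective g ∧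
        RepWith @IsOpenImmersion j ∧
        IsPullback fst snd g j ∧ RepWith @Etale snd ∧ RepWith @Surjective snd ∧
        Dense (Set.range (Points.map j))

theorem isLocNoethSp [IsNoetherianRing A] {X : Sp (Spec (CommRingCat.of A))}
    (s : X ⟶ (yon (Spec (CommRingCat.of A))).obj (Over.mk (𝟙 _))) (hs2 : IsFiniteTypeMor s) : IsLocNoethSp X := by
  obtain ⟨B, φ, p, hp1, hp2⟩ := exists_spec_chart (isQuasiCompactSp_of_mor s hs2.2)
  have hB : IsNoetherianRing B := isNoetherianRing_chart s hs2 hp1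
  refine ⟨sp φ, p, hp1, hp2, ?_⟩
  change IsLocallyNoetherian (Spec B)
  infer_instance

theorem noetherianSpace_points [IsNoetherianRing A] {X : Sp (Spec (CommRingCat.of A))}
    (s : X ⟶ (yon (Spec (CommRingCat.of A))).obj (Over.mk (𝟙 _))) (hs2 : IsFiniteTypeMor s) :
    NoetherianSpace (Points X) := by
  have := K610.Noeth.compactSpace_points (isQuasiCompactSp_of_mor s hs2.2)
  exact K610.Noeth.noetherianSpace_of_local (K610.Noeth.exists_nhd (isLocNoethSp s hs2))

theorem main_aux [IsNoetherianRing A] (H : SchHyp A I) (K : CoverHyp A) {X₀ : Sp (Spec (CommRingCat.of A))}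
    (hX₀ : IsAlgSpace X₀) (s₀ : X₀ ⟶ (yon (Spec (CommRingCat.of A))).obj (Over.mk (𝟙 _)))
    (hs1 : IsSeparatedMor s₀) (hs2 : IsFiniteTypeMor s₀) (T : Closeds (Points X₀)) :
    ∀ (X : Sp (Spec (CommRingCat.of A))) (_ : IsAlgSpace X) (i : X ⟶ X₀) (_ : RepWith @IsClosedImmersion i)
      (_ : Set.range (Points.map i) = T)
      (a : ℕ → Fam X) (_ : ∀ n, a n = sup (a (n + 1)) (En I X n)) (_ : IsProperMor ((a 0).ι ≫ i ≫ s₀)),
      ∃ z : Fam X, (∀ n, sup z (En I X n) = a n) ∧ IsProperMor (z.ι ≫ i ≫ s₀) := by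
  have hN := noetherianSpace_points s₀ hs2
  have hT : IsAlgSpace ((yon (Spec (CommRingCat.of A))).obj (Over.mk (𝟙 _))) := IsAlgSpace.yon_obj _
  induction T using WellFoundedLT.induction with
  | ind T ih =>
  intro X hX i hi hr a ha hp
  rcases isEmpty_or_nonempty (Points X) with hE | hE
  · exact ⟨a 0, fun n => fam_eq_of_isEmpty _ _, hp⟩
  have hi1 : IsProperMor i := isProperMor_of_closed hX₀ hi
  have k1 : IsSeparatedMor (i ≫ s₀) := isSeparatedMor_comp hi1.1 hs1
  have k2 : IsFiniteTypeMor (i ≫ s₀) := isFiniteTypeMor_comp hX hX₀ hT hi1.2.1 hs2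
  obtain ⟨Y, g, U, P, j, fst, snd, hg, -, hj, sq, hf1, hf2, hd⟩ := K X (i ≫ s₀) hX k1 k2 hE
  have hopen : IsOpen (Set.range (Points.map j)) := (K610.OpenImm.isOpenEmbedding_points hX hj).isOpen_range
  obtain ⟨J, hJ⟩ := K598.Red.exists_redFam hX ⟨(Set.range (Points.map j))ᶜ, hopen.isClosed_compl⟩
  have hJr : Set.range (Points.map J.ι) = (Set.range (Points.map j))ᶜ :=
    (K598.Red.isRedInduced_of_fam hX _ J hJ).2.1
  refine step I (i ≫ s₀) H hX k1 k2 hg hj sq (repWith_flat_of_etale hf1) hf2 J (fun x hx => ?_) a ha hp fun m => ?_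
  · rw [hJr] at hx
    exact not_not.1 hx
  · have hX'' := (pow J m).isAlgSpace_sheaf hX
    have hc : RepWith @IsClosedImmersion ((pow J m).ι ≫ i) := MorphismProperty.comp_mem _ _ _ (pow J m).repWith_ι hi
    have h1 : (⟨Set.range (Points.map ((pow J m).ι ≫ i)), K598.Red.isClosed_range hc⟩ : Closeds (Points X₀)) < T := by
      refine lt_of_le_of_ne ?_ ?_
      · intro x hx
        obtain ⟨y, rfl⟩ := hx
        rw [Points.map_comp]
        change _ ∈ (T : Set (Points X₀))
        rw [← hr]
        exact ⟨_, rfl⟩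
      · intro h
        obtain ⟨x, hx⟩ := hd.nonempty
        have h2 : Points.map i x ∈ (T : Set (Points X₀)) := by
          rw [← hr]
          exact ⟨x, rfl⟩
        rw [← h] at h2
        obtain ⟨y, hy⟩ := h2
        rw [Points.map_comp] at hy
        have h3 := injective_of_closed hi hy
        have h4 := range_pow_subset hX J m ⟨y, rfl⟩
        rw [h3, hJr] at h4
        exact h4 hx
    obtain ⟨z, hz, hzp⟩ := ih _ h1 (pow J m).sheaf hX'' ((pow J m).ι ≫ i) hc rfl
      (fun n => pull (pow J m).ι (a n)) (fun n => by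
        conv_lhs => rw [ha n]
        rfl) (by
        rw [Category.assoc]
        exact isProperMor_pull hX hX'' hT (pow J m).repWith_ι hp)
    exact ⟨z, hz, by rw [Category.assoc] at hzp; exact hzp⟩

/-- Algebraization of formal closed subspaces, in terms of families of ideals. -/
theorem main [IsNoetherianRing A] (H : SchHyp A I) (K : CoverHyp A) {X : Sp (Spec (CommRingCat.of A))}
    (hX : IsAlgSpace X) (s : X ⟶ (yon (Spec (CommRingCat.of A))).obj (Over.mk (𝟙 _)))
    (hs1 : IsSeparatedMor s) (hs2 : IsFiniteTypeMor s) (a : ℕ → Fam X) (ha : ∀ n, a n = sup (a (n + 1)) (En I X n))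
    (hp : IsProperMor ((a 0).ι ≫ s)) :
    ∃ z : Fam X, (∀ n, sup z (En I X n) = a n) ∧ IsProperMor (z.ι ≫ s) := by
  have hc : RepWith @IsClosedImmersion (𝟙 X) := repWith_of_isIso _
  obtain ⟨z, h1, h2⟩ := main_aux I H K hX s hs1 hs2 ⟨Set.range (Points.map (𝟙 X)), K598.Red.isClosed_range hc⟩ X hX (𝟙 X) hc
    rfl a ha (by rw [Category.id_comp]; exact hp)
  exact ⟨z, h1, by rw [Category.id_comp] at h2; exact h2⟩

end K594.AlgInd
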