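import Groth.Agent.AlgSp.K594.FamOps
import Groth.Prelude.Def_CohB1

/-!
# Formal closed subschemes in terms of ideals

* `isPullback_of_ker`: closed subschemes with `ker (t ≫ c) = ker c ⊔ ker d` form a cartesian square, and conversely.
* `specKer I n`: the ideal sheaf of `Spec (A / I ^ (n + 1))`.
* `SchHyp`, `exists_sch`: the algebraization theorem for closed subschemes (S0040) in terms of ideal sheaves.
-/

set_option autoImplicit false
universe u
open CategoryTheory CategoryTheory.Limits AlgebraicGeometry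

namespace K594.AlgSch

open K594.FamOps

variable {Y Z Y' Z' T : Scheme.{u}}

theorem ker_comp_pullback {c : Z ⟶ Y} {d : Y' ⟶ Y} [IsClosedImmersion c] [IsClosedImmersion d] {t : T ⟶ Z} {z : T ⟶ Y'}
    (sq : IsPullback t z c d) : (t ≫ c).ker = c.ker ⊔ d.ker := by
  have h1 : t.ker = d.ker.comap c := K598.ClFam.ker_eq_comap_of_isPullback sq.flip
  rw [← Scheme.IdealSheafData.map_ker, h1, map_comap_of_isClosedImmersion, _root_.sup_comm]

theorem isPullback_of_ker {t : T ⟶ Z} {z : T ⟶ Y'} {c : Z ⟶ Y} {d : Y' ⟶ Y} [IsClosedImmersion c]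
    [IsClosedImmersion d] [IsClosedImmersion (t ≫ c)] (w : t ≫ c = z ≫ d)
    (h : (t ≫ c).ker = c.ker ⊔ d.ker) : IsPullback t z c d := by
  have sq := IsPullback.of_hasPullback c d
  have h1 := ker_comp_pullback sq
  have hc : IsClosedImmersion (pullback.fst c d) := inferInstance
  let k : pullback c d ⟶ T := IsClosedImmersion.lift (t ≫ c) (pullback.fst c d ≫ c) (by rw [h1, h])
  have hk : k ≫ t ≫ c = pullback.fst c d ≫ c := IsClosedImmersion.lift_fac _ _ _
  have hk1 : k ≫ t = pullback.fst c d := by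
    rw [← cancel_mono c, Category.assoc, hk]
  have hk2 : k ≫ z = pullback.snd c d := by
    rw [← cancel_mono d, Category.assoc, ← w, hk, pullback.condition]
  have hl1 : sq.lift t z w ≫ pullback.fst c d = t := sq.lift_fst _ _ _
  have hl2 : sq.lift t z w ≫ pullback.snd c d = z := sq.lift_snd _ _ _
  have e1 : k ≫ sq.lift t z w = 𝟙 _ := by
    apply sq.hom_ext
    · rw [Category.assoc, hl1, hk1, Category.id_comp]
    · rw [Category.assoc, hl2, hk2, Category.id_comp]
  have e2 : sq.lift t z w ≫ k = 𝟙 _ := by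
    rw [← cancel_mono (t ≫ c), Category.assoc, hk, ← Category.assoc, hl1, Category.id_comp]
  have hi : IsIso (sq.lift t z w) := ⟨k, e2, e1⟩
  exact IsPullback.of_iso_pullback ⟨w⟩ (asIso (sq.lift t z w)) hl1 hl2

/-- Cancelling a monomorphism below a cartesian square. -/
theorem isPullback_of_comp_mono {C : Type*} [Category C] {P X Y Z W : C} {a : P ⟶ X} {b : P ⟶ Y} {f : X ⟶ Z}
    {g : Y ⟶ Z} {m : Z ⟶ W} [Mono m] (h : IsPullback a b (f ≫ m) (g ≫ m)) : IsPullback a b f g := by
  have w : a ≫ f = b ≫ g := by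
    rw [← cancel_mono m, Category.assoc, Category.assoc]
    exact h.w
  refine ⟨⟨w⟩, ⟨PullbackCone.IsLimit.mk w (fun s => h.lift s.fst s.snd ?_) ?_ ?_ ?_⟩⟩
  · rw [← Category.assoc, ← Category.assoc, s.condition]
  · intro s
    exact h.lift_fst _ _ _
  · intro s
    exact h.lift_snd _ _ _
  · intro s k h1 h2
    exact h.hom_ext (by rw [h1, h.lift_fst]) (by rw [h2, h.lift_snd])

theorem isPullback_comp_mono {C : Type*} [Category C] {P X Y Z W : C} {a : P ⟶ X} {b : P ⟶ Y} {f : X ⟶ Z}
    {g : Y ⟶ Z} (m : Z ⟶ W) [Mono m] (h : IsPullback a b f g) : IsPullback a b (f ≫ m) (g ≫ m) := by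
  have w : a ≫ f ≫ m = b ≫ g ≫ m := by rw [← Category.assoc, h.w, Category.assoc]
  refine ⟨⟨w⟩, ⟨PullbackCone.IsLimit.mk w (fun s => h.lift s.fst s.snd ?_) ?_ ?_ ?_⟩⟩
  · rw [← cancel_mono m, Category.assoc, Category.assoc]
    exact s.condition
  · intro s
    exact h.lift_fst _ _ _
  · intro s
    exact h.lift_snd _ _ _
  · intro s k h1 h2
    exact h.hom_ext (by rw [h1, h.lift_fst]) (by rw [h2, h.lift_snd])

section thick

variable {A : Type u} [CommRing A] (I : Ideal A)

instance (n : ℕ) : IsClosedImmersion (CohB1.specQuot I n) := by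
  unfold CohB1.specQuot
  exact IsClosedImmersion.spec_of_surjective _ Ideal.Quotient.mk_surjective

/-- The ideal sheaf of `Spec (A / I ^ (n + 1))`. -/
noncomputable def specKer (n : ℕ) : (Spec (CommRingCat.of A)).IdealSheafData := (CohB1.specQuot I n).ker

theorem idl_specKer (n : ℕ) : idl (specKer I n) = I ^ (n + 1) := by
  unfold specKer CohB1.specQuot
  rw [idl_ker]
  exact Ideal.mk_ker

theorem specKer_succ_le (n : ℕ) : specKer I (n + 1) ≤ specKer I n := by
  rw [← idl_le_iff, idl_specKer, idl_specKer]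
  exact Ideal.pow_le_pow_right (Nat.le_succ _)

theorem ker_thickι {X : Scheme.{u}} (f : X ⟶ Spec (CommRingCat.of A)) (n : ℕ) :
    (CohB1.thickι f I n).ker = (specKer I n).comap f :=
  Scheme.IdealSheafData.ker_fst_of_isClosedImmersion _ _

instance {X : Scheme.{u}} (f : X ⟶ Spec (CommRingCat.of A)) (n : ℕ) :
    IsClosedImmersion (CohB1.thickι f I n) :=
  inferInstanceAs (IsClosedImmersion (pullback.fst f (CohB1.specQuot I n)))

theorem thickTrans_thickι {X : Scheme.{u}} (f : X ⟶ Spec (CommRingCat.of A)) (n : ℕ) :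
    CohB1.thickTrans f I n ≫ CohB1.thickι f I (n + 1) = CohB1.thickι f I n := by
  exact (pullback.lift_fst _ _ _).trans (Category.comp_id _)

theorem thickToBase_specQuot {X : Scheme.{u}} (f : X ⟶ Spec (CommRingCat.of A)) (n : ℕ) :
    CohB1.thickToBase f I n ≫ CohB1.specQuot I n = CohB1.thickι f I n ≫ f := pullback.condition.symm

/-- The statement of the algebraization theorem for closed subschemes. -/
def SchHyp (A : Type u) [CommRing A] (I : Ideal A) : Prop :=
  ∀ {X : Scheme.{u}} (f : X ⟶ Spec (CommRingCat.of A))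
    [IsSeparated f] [LocallyOfFiniteType f] [QuasiCompact f]
    (Z : ℕ → Scheme.{u}) (z : (n : ℕ) → (Z n ⟶ CohB1.thick f I n)) (t : (n : ℕ) → (Z n ⟶ Z (n + 1)))
    (_ : ∀ n, IsClosedImmersion (z n))
    (_ : ∀ n, IsPullback (t n) (z n) (z (n + 1)) (CohB1.thickTrans f I n))
    (_ : IsProper (z 0 ≫ CohB1.thickToBase f I 0)),
    ∃ (W : Scheme.{u}) (i : W ⟶ X) (w : (n : ℕ) → (Z n ⟶ W)), IsClosedImmersion i ∧
      IsProper (i ≫ f) ∧ (∀ n, w n = t n ≫ w (n + 1)) ∧ ∀ n, IsPullback (w n) (z n) i (CohB1.thickι f I n)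

/-- The algebraization theorem for closed subschemes, in terms of ideals. -/
theorem exists_sch (H : SchHyp A I) {X : Scheme.{u}} (f : X ⟶ Spec (CommRingCat.of A))
    [IsSeparated f] [LocallyOfFiniteType f] [QuasiCompact f] (a : ℕ → X.IdealSheafData)
    (ha : ∀ n, a n = a (n + 1) ⊔ (specKer I n).comap f) (hp : IsProper ((a 0).subschemeι ≫ f)) :
    ∃ (W : Scheme.{u}) (i : W ⟶ X), IsClosedImmersion i ∧ IsProper (i ≫ f) ∧
      ∀ n, i.ker ⊔ (specKer I n).comap f = a n := by
  have hle : ∀ n, (specKer I n).comap f ≤ a n := fun n => by rw [ha n]; exact le_sup_right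
  have hle' : ∀ n, a (n + 1) ≤ a n := fun n => by rw [ha n]; exact le_sup_left
  let z : (n : ℕ) → ((a n).subscheme ⟶ CohB1.thick f I n) := fun n =>
    IsClosedImmersion.lift (CohB1.thickι f I n) (a n).subschemeι (by
      rw [ker_thickι, Scheme.IdealSheafData.ker_subschemeι]
      exact hle n)
  have hz : ∀ n, z n ≫ CohB1.thickι f I n = (a n).subschemeι := fun n => IsClosedImmersion.lift_fac _ _ _
  let t : (n : ℕ) → ((a n).subscheme ⟶ (a (n + 1)).subscheme) := fun n =>
    IsClosedImmersion.lift (a (n + 1)).subschemeι (a n).subschemeι (by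
      rw [Scheme.IdealSheafData.ker_subschemeι, Scheme.IdealSheafData.ker_subschemeι]
      exact hle' n)
  have ht : ∀ n, t n ≫ (a (n + 1)).subschemeι = (a n).subschemeι := fun n => IsClosedImmersion.lift_fac _ _ _
  have hzc : ∀ n, IsClosedImmersion (z n) := fun n => by
    have : IsClosedImmersion (z n ≫ CohB1.thickι f I n) := by
      rw [hz]
      infer_instance
    exact IsClosedImmersion.of_comp (z n) (CohB1.thickι f I n)
  obtain ⟨W, i, w, h1, h2, -, h4⟩ := H f (fun n => (a n).subscheme) z t hzc (fun n => by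
    apply isPullback_of_comp_mono (m := CohB1.thickι f I (n + 1))
    rw [thickTrans_thickι, hz]
    have : IsClosedImmersion (t n ≫ (a (n + 1)).subschemeι) := by
      rw [ht]
      infer_instance
    apply isPullback_of_ker
    · rw [ht, hz]
    · rw [ht, Scheme.IdealSheafData.ker_subschemeι, Scheme.IdealSheafData.ker_subschemeι, ker_thickι]
      exact ha n) (by
    have h5 : (z 0 ≫ CohB1.thickToBase f I 0) ≫ CohB1.specQuot I 0 = (a 0).subschemeι ≫ f := by
      rw [Category.assoc, thickToBase_specQuot, ← Category.assoc, hz 0]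
    have h6 : IsProper ((z 0 ≫ CohB1.thickToBase f I 0) ≫ CohB1.specQuot I 0) := by
      rw [h5]
      exact hp
    exact IsProper.of_comp (z 0 ≫ CohB1.thickToBase f I 0) (CohB1.specQuot I 0))
  refine ⟨W, i, h1, h2, fun n => ?_⟩
  rw [← ker_thickι, ← ker_comp_pullback (h4 n), (h4 n).w, hz, Scheme.IdealSheafData.ker_subschemeι]

end thick

end K594.AlgSch
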