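import Groth.Agent.AlgSp.K594.AlgChart

/-!
# Algebraization of formal closed subspaces: the inductive step

`step`: `X` separated of finite type over the complete Noetherian ring `A`, `g : Y ⟶ X` a finite scheme over `X`, flat
and surjective over an open `U`, `J` a closed subspace with complement in `U`; if the formal closed subspace `a` is
algebraizable inside all infinitesimal neighbourhoods of `J`, then it is algebraizable.
-/

set_option autoImplicit false
universe u
open CategoryTheory CategoryTheory.Limits AlgebraicGeometry Opposite TensorProduct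
open AlgSp K598.Site K598.RepKit K598.ClFam K598.Charts
open K594.FamOps K594.AlgSch K594.AlgChart K597.ProperSub

namespace K594.AlgStep

section general

variable {S : Scheme.{u}}

theorem exists_imageFam {X Y : Sp S} (hY : IsAlgSpace Y) {f : X ⟶ Y} (hf : IsQuasiCompactMor f) :
    ∃ b : Fam Y, IsSchImage f b.ι := by
  obtain ⟨A, h1, h2, -⟩ := K598.SchImg.exists_image hY hf
  refine ⟨A, (K598.SchImg.isSchImage_iff hY f A.ι).2 ⟨A.repWith_ι, ?_, ?_⟩⟩
  · rw [ofClosed_ι]
    exact h1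
  · rw [ofClosed_ι]
    exact h2

/-- Unions of two closed subspaces proper over a base. -/
theorem isProperMor_union {X B : Sp S} (hX : IsAlgSpace X) (hB : IsAlgSpace B) (s : X ⟶ B)
    (hs : LocP @LocallyOfFiniteType s) {a b c : Fam X}
    (hc : Set.range (Points.map c.ι) ⊆ Set.range (Points.map a.ι) ∪ Set.range (Points.map b.ι))
    (ha : IsProperMor (a.ι ≫ s)) (hb : IsProperMor (b.ι ≫ s)) : IsProperMor (c.ι ≫ s) := by
  let X' : Space S := ⟨X, hX⟩
  let B' : Space S := ⟨B, hB⟩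
  let s' : X' ⟶ B' := ⟨s⟩
  let Z : Fin 2 → Space S := fun k => if k = 0 then ⟨a.sheaf, a.isAlgSpace_sheaf hX⟩ else ⟨b.sheaf, b.isAlgSpace_sheaf hX⟩
  let i : ∀ k, Z k ⟶ X' := fun k =>
    match k with
    | 0 => ⟨a.ι⟩
    | 1 => ⟨b.ι⟩
  refine isProperMor_of_range_subset s' hs Z i ?_ ?_ (W := ⟨c.sheaf, c.isAlgSpace_sheaf hX⟩) ⟨c.ι⟩ c.repWith_ι ?_
  · intro k
    match k with
    | 0 => exact a.repWith_ι
    | 1 => exact b.repWith_ι
  · intro k
    match k with
    | 0 => exact ha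
    | 1 => exact hb
  · refine hc.trans (Set.union_subset ?_ ?_)
    · exact Set.subset_iUnion (fun k => Set.range (Points.map (i k).hom)) 0
    · exact Set.subset_iUnion (fun k => Set.range (Points.map (i k).hom)) 1

/-- The scheme theoretic image of a proper space is proper. -/
theorem isProperMor_imageFam {X Y B : Sp S} (hX : IsAlgSpace X) (hY : IsAlgSpace Y) (hB : IsAlgSpace B) {f : X ⟶ Y}
    {s : Y ⟶ B} (hs1 : IsSeparatedMor s) (hs2 : LocP @LocallyOfFiniteType s) (hp : IsProperMor (f ≫ s)) {b : Fam Y}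
    (hb : IsSchImage f b.ι) : IsProperMor (b.ι ≫ s) := by
  obtain ⟨f', hf'⟩ := hb.2.1
  have hZ : IsAlgSpace b.sheaf := b.isAlgSpace_sheaf hY
  have hsep : IsSeparatedMor (b.ι ≫ s) :=
    K595.DiagRel.isSeparatedMor_isMultiplicative.comp_mem _ _ (isSeparatedMor_of_closed b.repWith_ι) hs1
  let X' : Space S := ⟨X, hX⟩
  let Y' : Space S := ⟨Y, hY⟩
  let B' : Space S := ⟨B, hB⟩
  let Z' : Space S := ⟨b.sheaf, hZ⟩
  let f0 : X' ⟶ Y' := ⟨f⟩
  let s0 : Y' ⟶ B' := ⟨s⟩
  let i0 : Z' ⟶ Y' := ⟨b.ι⟩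
  let f1 : X' ⟶ Z' := ⟨f'⟩
  have h1 : IsSurjectiveMor f1.hom := K597.ProperCancel.surjective_onto_schImage f0 (f0 ≫ s0) s0 rfl hp.2.2 hs1 i0 hb f1
    (ObjectProperty.hom_ext _ hf')
  have h2 : f' ≫ b.ι ≫ s = f ≫ s := by rw [← Category.assoc, hf']
  have h3 : IsUnivClosedMor f' := isUnivClosedMor_of_comp hX hZ hB (g := b.ι ≫ s) (by rw [h2]; exact hp.2.2) hsep
  exact isProperMor_of_surjective f1 (i0 ≫ s0) h1 h3
    (K597.locP_comp K597.etLoc_lft hZ.hasAtlas hY.hasAtlas hB.hasAtlas (locP_lft_of_closed b.repWith_ι) hs2) (by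
      change IsProperMor (f' ≫ b.ι ≫ s)
      rw [h2]
      exact hp)

end general

section step

variable {A : Type u} [CommRing A] (I : Ideal A)

/-- The ideal of `X_n`. -/
noncomputable abbrev En (X : Sp (Spec (CommRingCat.of A))) (n : ℕ) : Fam X := base X (specKer I n)

theorem idl_En {X : Sp (Spec (CommRingCat.of A))} {B : CommRingCat.{u}} (φ : CommRingCat.of A ⟶ B)
    (g : (yon _).obj (sp φ) ⟶ X) (n : ℕ) : idl ((En I X n).I g) = (I.map φ.hom) ^ (n + 1) := by
  change idl ((specKer I n).comap (Spec.map φ)) = _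
  rw [idl_comap, idl_specKer, Ideal.map_pow]

variable {X : Sp (Spec (CommRingCat.of A))} (s : X ⟶ (yon (Spec (CommRingCat.of A))).obj (Over.mk (𝟙 _)))

/-- The structure map of a scheme over `X`. -/
theorem exists_structure {Y : Over (Spec (CommRingCat.of A))} (g : (yon _).obj Y ⟶ X) :
    ∃ h : Y ⟶ Over.mk (𝟙 _), g ≫ s = (yon _).map h ∧ h.left = Y.hom := by
  obtain ⟨h, hh⟩ := (yon _).map_surjective (g ≫ s)
  refine ⟨h, hh.symm, ?_⟩
  have h1 : h.left ≫ 𝟙 _ = Y.hom := Over.w h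
  exact (Category.comp_id _).symm.trans h1

theorem isProper_of_mor {Y : Over (Spec (CommRingCat.of A))} {g : (yon _).obj Y ⟶ X} (h : IsProperMor (g ≫ s)) :
    IsProper Y.hom := by
  obtain ⟨k, hk, e⟩ := exists_structure s g
  rw [hk, K597.Proper.isProperMor_iff_repWith (IsAlgSpace.yon_obj _) (representable_yon_map k)] at h
  rw [← e]
  exact (repWith_yon_map_iff _ k).1 h

theorem isProperMor_of_isProper {Y : Over (Spec (CommRingCat.of A))} {g : (yon _).obj Y ⟶ X} (h : IsProper Y.hom) :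
    IsProperMor (g ≫ s) := by
  obtain ⟨k, hk, e⟩ := exists_structure s g
  rw [hk, K597.Proper.isProperMor_iff_repWith (IsAlgSpace.yon_obj _) (representable_yon_map k)]
  exact (repWith_yon_map_iff _ k).2 (by rw [e]; exact h)

theorem isProperMor_of_finite {F G : Sp (Spec (CommRingCat.of A))} (hG : IsAlgSpace G) {f : F ⟶ G}
    (hf : RepWith @IsFinite f) : IsProperMor f :=
  (K597.Proper.isProperMor_iff_repWith hG hf.1).2
    (repWith_mono (fun _ _ f (_ : IsFinite f) => (inferInstance : IsProper f)) hf)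

variable [IsNoetherianRing A]

/-- The algebraization over a finite scheme over `X`. -/
theorem exists_W (H : SchHyp A I) (hX : IsAlgSpace X) (hs1 : IsSeparatedMor s) (hs2 : IsFiniteTypeMor s)
    {Y : Over (Spec (CommRingCat.of A))} {g : (yon _).obj Y ⟶ X} (hg : RepWith @IsFinite g)
    (a : ℕ → Fam X) (ha : ∀ n, a n = sup (a (n + 1)) (En I X n)) (hp : IsProperMor ((a 0).ι ≫ s)) :
    ∃ (W : Over (Spec (CommRingCat.of A))) (i : W ⟶ Y), IsClosedImmersion i.left ∧ IsProper W.hom ∧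
      ∀ n, i.left.ker ⊔ (specKer I n).comap Y.hom = (a n).I g := by
  have hY : IsAlgSpace ((yon (Spec (CommRingCat.of A))).obj Y) := IsAlgSpace.yon_obj _
  have hT : IsAlgSpace ((yon (Spec (CommRingCat.of A))).obj (Over.mk (𝟙 _))) := IsAlgSpace.yon_obj _
  have hgp := isProperMor_of_finite hX hg
  obtain ⟨k, hk, e⟩ := exists_structure s g
  have h1 : IsSeparatedMor (g ≫ s) :=
    K595.DiagRel.isSeparatedMor_isMultiplicative.comp_mem _ _ hgp.1 hs1
  have h2 : LocP @LocallyOfFiniteType (g ≫ s) :=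
    K597.locP_comp K597.etLoc_lft hY.hasAtlas hX.hasAtlas hT.hasAtlas hgp.2.1.1 hs2.1
  have h3 : IsQuasiCompactMor (g ≫ s) := K596.QC.isQuasiCompactMor_comp hX hT hgp.2.1.2 hs2.2
  have f1 : IsSeparated Y.hom := by
    rw [← e]
    rw [hk] at h1
    exact (isSeparatedMor_yon_map_iff k).1 h1
  have f2 : LocallyOfFiniteType Y.hom := by
    rw [← e]
    rw [hk] at h2
    exact locP_yon_map h2
  have f3 : QuasiCompact Y.hom := by
    rw [← e]
    rw [hk] at h3
    exact (repWith_yon_map_iff _ k).1 (K596.QC.repWith_of_isQuasiCompactMor (representable_yon_map k) h3)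
  have f4 : IsProper (((a 0).I g).subschemeι ≫ Y.hom) := by
    obtain ⟨fst, sq⟩ := (a 0).exists_isPullback g
    have h5 : RepWith @IsFinite fst := repWith_of_isPullback sq.flip hg
    have h6 : IsProperMor (fst ≫ (a 0).ι ≫ s) :=
      isProperMor_comp (IsAlgSpace.yon_obj _) ((a 0).isAlgSpace_sheaf hX) hT
        (isProperMor_of_finite ((a 0).isAlgSpace_sheaf hX) h5) hp
    have h7 : fst ≫ (a 0).ι ≫ s = ((yon _).map (Over.homMk ((a 0).I g).subschemeι rfl :
        Over.mk (((a 0).I g).subschemeι ≫ Y.hom) ⟶ Y) ≫ g) ≫ s := by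
      rw [← Category.assoc, sq.w]
    rw [h7] at h6
    exact isProper_of_mor s h6
  obtain ⟨W, i, h5, h6, h7⟩ := exists_sch I H Y.hom (fun n => (a n).I g) (fun n => by
    conv_lhs => rw [ha n]
    rfl) f4
  exact ⟨Over.mk (i ≫ Y.hom), Over.homMk i rfl, h5, h6, h7⟩

/-- The chart of the finite scheme. -/
theorem chart_rel {Y : Over (Spec (CommRingCat.of A))} {g : (yon _).obj Y ⟶ X}
    (a : ℕ → Fam X) {W : Over (Spec (CommRingCat.of A))} {i : W ⟶ Y}
    (hW : ∀ n, i.left.ker ⊔ (specKer I n).comap Y.hom = (a n).I g)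
    {B C : CommRingCat.{u}} {φ : CommRingCat.of A ⟶ B} {ψ : B ⟶ C} {p : (yon _).obj (sp φ) ⟶ X}
    {f : sp (φ ≫ ψ) ⟶ Y} (sq : IsPullback ((yon _).map f) ((yon _).map (spm φ ψ)) g p) (n : ℕ) :
    idl (i.left.ker.comap f.left) ⊔ ((I.map φ.hom) ^ (n + 1)).map ψ.hom = (idl ((a n).I p)).map ψ.hom := by
  have h1 := congrArg (fun K => Scheme.IdealSheafData.comap K f.left) (hW n)
  simp only [Scheme.IdealSheafData.comap_sup] at h1
  rw [← (a n).comap, sq.w, (a n).comap, ← Scheme.IdealSheafData.comap_comp, Over.w] at h1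
  have h2 := congrArg (idl (R := C)) h1
  rw [idl_sup] at h2
  have h3 : idl ((specKer I n).comap (sp (φ ≫ ψ)).hom) = ((I.map φ.hom) ^ (n + 1)).map ψ.hom := by
    change idl ((specKer I n).comap (Spec.map (φ ≫ ψ))) = _
    rw [idl_comap, idl_specKer, CommRingCat.hom_comp, ← Ideal.map_map, Ideal.map_pow]
  have h4 : idl (((a n).I p).comap (spm φ ψ).left) = (idl ((a n).I p)).map ψ.hom := idl_comap ψ _
  rw [h3, h4] at h2
  exact h2

/-- The ideal of the image of `W` on a chart. -/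
theorem chart_image (hX : IsAlgSpace X) {Y : Over (Spec (CommRingCat.of A))} {g : (yon _).obj Y ⟶ X}
    {W : Over (Spec (CommRingCat.of A))} {i : W ⟶ Y} (hi : IsClosedImmersion i.left)
    (hq : IsQuasiCompactMor ((yon _).map i ≫ g)) {b : Fam X} (hb : IsSchImage ((yon _).map i ≫ g) b.ι)
    {B C : CommRingCat.{u}} {φ : CommRingCat.of A ⟶ B} {ψ : B ⟶ C} {p : (yon _).obj (sp φ) ⟶ X}
    (hp : RepWith @Etale p)
    {f : sp (φ ≫ ψ) ⟶ Y} (sq : IsPullback ((yon _).map f) ((yon _).map (spm φ ψ)) g p) :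
    idl (b.I p) = (idl (i.left.ker.comap f.left)).comap ψ.hom := by
  have sqW := IsPullback.of_hasPullback i f
  have h1 := ((yon_isPullback sqW).flip.paste_horiz sq.flip).flip
  rw [← Functor.map_comp] at h1
  have h2 := K598.SchImg2.ker_eq_of_isSchImage hX (Or.inl hq) hb p hp h1
  rw [ofClosed_ι] at h2
  rw [h2, Over.comp_left, ← Scheme.IdealSheafData.map_ker,
    ker_eq_comap_of_isPullback (forget_isPullback sqW)]
  exact idl_map ψ _

/-- The lift to the open subspace over `D(f)`. -/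
theorem exists_lift_away {U : Sp (Spec (CommRingCat.of A))} {j : U ⟶ X} (hj : RepWith @IsOpenImmersion j) (J : Fam X)
    (hJ : ∀ x, x ∉ Set.range (Points.map J.ι) → x ∈ Set.range (Points.map j))
    {B : CommRingCat.{u}} {φ : CommRingCat.of A ⟶ B} (p : (yon _).obj (sp φ) ⟶ X)
    (b : B) (hb : b ∈ idl (J.I p)) :
    ∃ d : (yon _).obj (sp (φ ≫ CommRingCat.ofHom (algebraMap B (Localization.Away b)))) ⟶ U,
      d ≫ j = (yon _).map (spm φ (CommRingCat.ofHom (algebraMap B (Localization.Away b)))) ≫ p := by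
  refine K610.Factor.exists_lift_open hj _ ?_
  rintro _ ⟨t, rfl⟩
  rw [K609.Points.ofPt_yon_map_comp]
  apply hJ
  intro h
  have h1 : (spm φ (CommRingCat.ofHom (algebraMap B (Localization.Away b)))).left t ∈
      Points.ofPt p ⁻¹' Set.range (Points.map J.ι) := h
  rw [K598.Red.range_map_ι] at h1
  have h2 := (mem_support_iff (J.I p) (PrimeSpectrum.comap (algebraMap B (Localization.Away b)) t)).1 h1
  have h3 : algebraMap B (Localization.Away b) b ∈ (show PrimeSpectrum (Localization.Away b) from t).asIdeal := h2 hb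
  exact (show PrimeSpectrum (Localization.Away b) from t).isPrime.ne_top
    (Ideal.eq_top_of_isUnit_mem _ h3 (IsLocalization.Away.algebraMap_isUnit b))

theorem isNoetherianRing_chart (hs2 : IsFiniteTypeMor s) {B : CommRingCat.{u}} {φ : CommRingCat.of A ⟶ B}
    {p : (yon _).obj (sp φ) ⟶ X} (hp : RepWith @Etale p) : IsNoetherianRing B := by
  obtain ⟨k, hk, e⟩ := exists_structure s p
  have h1 : LocallyOfFiniteType k.left := hs2.1 p (𝟙 _) k hp (repWith_id _ _) (by rw [hk, Category.comp_id])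
  rw [e] at h1
  have h2 : LocallyOfFiniteType (Spec.map φ) := h1
  have h3 : φ.hom.FiniteType := (HasRingHomProperty.Spec_iff (P := @LocallyOfFiniteType)).1 h2
  let _ : Algebra A B := φ.hom.toAlgebra
  have _ : Algebra.FiniteType A B := h3
  exact Algebra.FiniteType.isNoetherianRing A B

omit [IsNoetherianRing A] in
theorem isQuasiCompactSp_of_mor (hs : IsQuasiCompactMor s) : IsQuasiCompactSp X := by
  have h1 : CompactSpace ↥((Over.mk (𝟙 (Spec (CommRingCat.of A))) : Over (Spec (CommRingCat.of A))).left) :=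
    inferInstanceAs (CompactSpace (Spec (CommRingCat.of A)))
  exact hs (IsAlgSpace.yon_obj _) (K596.QC.isQuasiCompactSp_yon _) (𝟙 _) (𝟙 X) s (IsPullback.of_horiz_isIso ⟨by simp⟩)

/-- The inductive step. -/
theorem step (H : SchHyp A I) (hX : IsAlgSpace X) (hs1 : IsSeparatedMor s) (hs2 : IsFiniteTypeMor s)
    {Y : Over (Spec (CommRingCat.of A))} {g : (yon _).obj Y ⟶ X} (hg : RepWith @IsFinite g)
    {U P : Sp (Spec (CommRingCat.of A))} {j : U ⟶ X} (hj : RepWith @IsOpenImmersion j)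
    {fst : P ⟶ (yon _).obj Y} {snd : P ⟶ U} (sqU : IsPullback fst snd g j)
    (hU1 : RepWith @Flat snd) (hU2 : RepWith @Surjective snd)
    (J : Fam X) (hJ : ∀ x, x ∉ Set.range (Points.map J.ι) → x ∈ Set.range (Points.map j))
    (a : ℕ → Fam X) (ha : ∀ n, a n = sup (a (n + 1)) (En I X n)) (hp : IsProperMor ((a 0).ι ≫ s))
    (ih : ∀ m, ∃ z : Fam (pow J m).sheaf, (∀ n, sup z (En I _ n) = pull (pow J m).ι (a n)) ∧
      IsProperMor (z.ι ≫ (pow J m).ι ≫ s)) :
    ∃ z : Fam X, (∀ n, sup z (En I X n) = a n) ∧ IsProperMor (z.ι ≫ s) := by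
  have hT : IsAlgSpace ((yon (Spec (CommRingCat.of A))).obj (Over.mk (𝟙 _))) := IsAlgSpace.yon_obj _
  obtain ⟨W, i, hi, hWp, hW⟩ := exists_W I s H hX hs1 hs2 hg a ha hp
  obtain ⟨B, φ, p, hp1, hp2⟩ := exists_spec_chart (isQuasiCompactSp_of_mor s hs2.2)
  obtain ⟨C, ψ, f, hψ, sq⟩ := exists_finite_sq hg p
  obtain ⟨f, rfl⟩ := (yon _).map_surjective f
  have hB : IsNoetherianRing B := isNoetherianRing_chart s hs2 hp1
  let _ : Algebra B C := ψ.hom.toAlgebra
  have _ : Module.Finite B C := hψ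
  have haB : ∀ n, idl ((a n).I p) = idl ((a (n + 1)).I p) ⊔ (I.map φ.hom) ^ (n + 1) := by
    intro n
    rw [← idl_En I φ p n, ← idl_sup]
    conv_lhs => rw [ha n]
    rfl
  obtain ⟨m₀, hm₀⟩ := K594.FormalAlg.exists_level (I := I.map φ.hom) (B := B) (C := C) haB
    (idl (i.left.ker.comap f.left)) (fun n => chart_rel I a hW sq n) (idl (J.I p) : Set B) (fun b hb => by
      obtain ⟨d, hd⟩ := exists_lift_away hj J hJ p b hb
      exact faithfullyFlat sq sqU hU1 hU2 (Localization.Away b) rfl d hd)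
  obtain ⟨z', hz', hz'p⟩ := ih m₀
  -- the part inside `V(J ^ m)`
  set z2 := push (pow J m₀).repWith_ι z' with hz2
  have hz2n : ∀ n, sup z2 (En I X n) = sup (a n) (pow J m₀) := by
    intro n
    have h1 : pull (pow J m₀).ι (sup z2 (En I X n)) = pull (pow J m₀).ι (a n) := by
      rw [pull_sup, pull_push, pull_base, hz']
    have h2 := sup_ofClosed_eq (pow J m₀).repWith_ι h1
    rw [sup_eq_left ((le_push _ _).trans (le_sup_left _ _)), ofClosed_ι] at h2
    exact h2
  -- the image of `W`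
  have hfin : RepWith @IsFinite ((yon _).map i ≫ g) :=
    MorphismProperty.comp_mem _ _ _ ((repWith_yon_map_iff _ i).2 (inferInstance : IsFinite i.left)) hg
  have hq : IsQuasiCompactMor ((yon _).map i ≫ g) := (isProperMor_of_finite hX hfin).2.1.2
  obtain ⟨b, hb⟩ := exists_imageFam hX hq
  have hbI := chart_image hX hi hq hb hp1 sq
  obtain ⟨z, hz, hz1, hz2'⟩ := exists_inf hX b z2
  refine ⟨z, fun n => ?_, ?_⟩
  · refine (ChartFam.single hp1 hp2).fam_ext fun _ => idl_inj ?_
    rw [sup_I, hz _ p hp1, idl_sup, idl_inf, idl_En, hbI]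
    refine hm₀ m₀ le_rfl (idl (z2.I p)) (fun n => ?_) n
    rw [Ideal.span_eq, ← idl_En I φ p n, ← idl_sup, ← idl_pow, ← idl_sup]
    exact congrArg (fun F : Fam X => idl (F.I p)) (hz2n n)
  · refine isProperMor_union hX hT s hs2.1 (range_inf hX hz) ?_ ?_
    · refine isProperMor_imageFam (IsAlgSpace.yon_obj W) hX hT hs1 hs2.1 ?_ hb
      exact isProperMor_of_isProper s hWp
    · -- `V(z2) = V(z')`
      obtain ⟨e, he, he'⟩ := exists_iso_of_eq z2.repWith_ι
        (MorphismProperty.comp_mem _ _ _ z'.repWith_ι (pow J m₀).repWith_ι : RepWith @IsClosedImmersion (z'.ι ≫ (pow J m₀).ι))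
        (by rw [ofClosed_ι]; rfl)
      rw [← he, Category.assoc, Category.assoc]
      have hZ2 := z2.isAlgSpace_sheaf hX
      have hZ' := z'.isAlgSpace_sheaf ((pow J m₀).isAlgSpace_sheaf hX)
      exact isProperMor_comp hZ2 hZ' hT (isProperMor_of_closed hZ' (repWith_of_isIso e.hom)) hz'p

end step

end K594.AlgStep
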