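import Groth.Agent.AlgSp.K594.AlgStep
import Groth.Agent.AlgSp.K632.IntThick
import Groth.Agent.AlgSp.K632.SrcNil

/-!
# Closed immersions and finite morphisms over nilpotent thickenings

* `isClosedImmersion_of_nilpotent`: a morphism which is affine and a closed immersion modulo a nilpotent ideal is a
  closed immersion.
* `repWith_closed_of_thick`, `repWith_finite_of_thick`: the same for algebraic spaces, over a closed immersion with
  nilpotent ideals (`NilCl`).
-/

set_option autoImplicit false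
universe u
open CategoryTheory CategoryTheory.Limits AlgebraicGeometry Opposite
open AlgSp K598.Site K598.RepKit K598.ClFam K598.Charts
open K594.FamOps Groth.Agent.Divis.IdealComap

namespace K594.ThickCl

theorem surjective_of_nilpotent {R C : Type*} [CommRing R] [CommRing C] (φ : R →+* C) (N : Ideal R) (hN : IsNilpotent N)
    (h : ∀ x, ∃ r, x - φ r ∈ N.map φ) : Function.Surjective φ := by
  obtain ⟨k, hk⟩ := hN
  have key : ∀ n : ℕ, ∀ x, ∃ r, x - φ r ∈ (N ^ n).map φ := by
    intro n
    induction n with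
    | zero =>
      intro x
      refine ⟨0, ?_⟩
      rw [pow_zero, Ideal.one_eq_top, Ideal.map_top]
      trivial
    | succ n ih =>
      intro x
      obtain ⟨r, hr⟩ := h x
      -- every element of `N C` is `φ r` modulo `N ^ (n + 1) C`
      have h1 : ∀ y ∈ N.map φ, ∃ r, y - φ r ∈ (N ^ (n + 1)).map φ := by
        intro y hy
        rw [Ideal.map] at hy
        induction hy using Submodule.span_induction with
        | mem y hy =>
          obtain ⟨a, ha, rfl⟩ := hy
          exact ⟨a, by rw [sub_self]; exact zero_mem _⟩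
        | zero => exact ⟨0, by rw [map_zero, sub_zero]; exact zero_mem _⟩
        | add x y _ _ hx hy =>
          obtain ⟨r, hr⟩ := hx
          obtain ⟨t, ht⟩ := hy
          refine ⟨r + t, ?_⟩
          have : x + y - φ (r + t) = (x - φ r) + (y - φ t) := by rw [map_add]; ring
          rw [this]
          exact add_mem hr ht
        | smul c y hy' hy =>
          -- `c y` with `y ∈ N C`; expand again
          have hy'' : y ∈ N.map φ := hy'
          rw [smul_eq_mul]
          have h2 : ∀ y ∈ N.map φ, ∀ c, ∃ r, c * y - φ r ∈ (N ^ (n + 1)).map φ := by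
            intro y hy
            rw [Ideal.map] at hy
            induction hy using Submodule.span_induction with
            | mem y hy =>
              obtain ⟨a, ha, rfl⟩ := hy
              intro c
              obtain ⟨t, ht⟩ := ih c
              refine ⟨t * a, ?_⟩
              have : c * φ a - φ (t * a) = (c - φ t) * φ a := by rw [map_mul]; ring
              rw [this, pow_succ, Ideal.map_mul]
              exact Ideal.mul_mem_mul ht (Ideal.mem_map_of_mem φ ha)
            | zero => exact fun c => ⟨0, by rw [map_zero, mul_zero, sub_zero]; exact zero_mem _⟩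
            | add x y _ _ hx hy =>
              intro c
              obtain ⟨r, hr⟩ := hx c
              obtain ⟨t, ht⟩ := hy c
              refine ⟨r + t, ?_⟩
              have : c * (x + y) - φ (r + t) = (c * x - φ r) + (c * y - φ t) := by rw [map_add]; ring
              rw [this]
              exact add_mem hr ht
            | smul d y _ hy =>
              intro c
              obtain ⟨r, hr⟩ := hy (c * d)
              exact ⟨r, by rw [smul_eq_mul, ← mul_assoc]; exact hr⟩
          exact h2 y hy'' c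
      obtain ⟨t, ht⟩ := h1 _ hr
      refine ⟨r + t, ?_⟩
      have : x - φ (r + t) = x - φ r - φ t := by rw [map_add]; ring
      rw [this]
      exact ht
  intro x
  obtain ⟨r, hr⟩ := key k x
  rw [hk, Ideal.zero_eq_bot, Ideal.map_bot, Ideal.mem_bot, sub_eq_zero] at hr
  exact ⟨r, hr.symm⟩

theorem isClosedImmersion_of_nilpotent {X X' S S' : Scheme.{u}} (iX : X ⟶ X') (iS : S ⟶ S') (f : X ⟶ S) (f' : X' ⟶ S')
    [IsClosedImmersion iS] (hn : IsNilpotent iS.ker) (hc : IsPullback iX f f' iS) (ha : IsAffineHom f')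
    (hf : IsClosedImmersion f) : IsClosedImmersion f' := by
  rw [isClosedImmersion_iff_isAffineHom]
  refine ⟨ha, fun U hU => ?_⟩
  have hiX : IsClosedImmersion iX := MorphismProperty.of_isPullback hc.flip ‹_›
  have hU' : IsAffineOpen (f' ⁻¹ᵁ U) := hU.preimage f'
  have h1 : iX.ker = iS.ker.comap f' := ker_eq_comap_of_isPullback hc.flip
  have h2 : iX.ker.ideal ⟨f' ⁻¹ᵁ U, hU'⟩ = (iS.ker.ideal ⟨U, hU⟩).map (f'.app U).hom := by
    rw [h1, ideal_comap iS.ker f' ⟨U, hU⟩ ⟨f' ⁻¹ᵁ U, hU'⟩ le_rfl, Scheme.Hom.app_eq_appLE]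
  refine surjective_of_nilpotent (f'.app U).hom (iS.ker.ideal ⟨U, hU⟩) ?_ fun x => ?_
  · obtain ⟨k, hk⟩ := hn
    refine ⟨k, ?_⟩
    have h3 := congrArg (fun K : S'.IdealSheafData => K.ideal ⟨U, hU⟩) hk
    simpa using h3
  · have e : (iX ≫ f') ⁻¹ᵁ U = (f ≫ iS) ⁻¹ᵁ U := by rw [hc.w]
    have s1 : Function.Surjective (iS.app U) := Scheme.Hom.app_surjective iS U hU
    have s2 : Function.Surjective (f.app (iS ⁻¹ᵁ U)) := Scheme.Hom.app_surjective f _ (hU.preimage iS)
    have h4 := Scheme.Hom.congr_app hc.w U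
    rw [Scheme.Hom.comp_app, Scheme.Hom.comp_app] at h4
    obtain ⟨y, hy⟩ := s2 (X.presheaf.map (eqToHom (show f ⁻¹ᵁ iS ⁻¹ᵁ U = iX ⁻¹ᵁ f' ⁻¹ᵁ U from e.symm)).op
      (iX.app (f' ⁻¹ᵁ U) x))
    obtain ⟨r, rfl⟩ := s1 y
    refine ⟨r, ?_⟩
    rw [← h2, Scheme.Hom.ker_apply, RingHom.mem_ker, map_sub, sub_eq_zero]
    have h5 : (iX.app (f' ⁻¹ᵁ U)) ((f'.app U) r) =
      (X.presheaf.map (eqToHom (show iX ⁻¹ᵁ f' ⁻¹ᵁ U = f ⁻¹ᵁ iS ⁻¹ᵁ U from e)).op) ((f.app (iS ⁻¹ᵁ U)) ((iS.app U) r)) := by
      exact congrArg (fun k => k.hom r) h4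
    change (iX.app (f' ⁻¹ᵁ U)) x = (iX.app (f' ⁻¹ᵁ U)) ((f'.app U) r)
    rw [h5, hy]
    rw [← CommRingCat.comp_apply, ← Functor.map_comp, ← op_comp, eqToHom_trans, eqToHom_refl, op_id,
      CategoryTheory.Functor.map_id]
    rfl

/-- Closed immersions of sheaves, all of whose ideals are nilpotent. -/
def NilCl {S : Scheme.{u}} {X Y : Sp S} (i : X ⟶ Y) (hi : RepWith @IsClosedImmersion i) : Prop :=
  ∀ (T : Over S) (g : (yon S).obj T ⟶ Y), IsNilpotent ((ofClosed i hi).I g)

variable {S : Scheme.{u}} {X X' Y Y' : Sp S}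

theorem isThickMor {i : X ⟶ Y} {hi : RepWith @IsClosedImmersion i} (h : NilCl i hi) : IsThickMor i := by
  refine ⟨hi.1, fun T V g fst snd sq => ⟨hi.2 _ _ _ sq, ?_⟩⟩
  have hc : IsClosedImmersion snd.left := hi.2 _ _ _ sq
  obtain ⟨k, hk⟩ := h _ g
  rw [ofClosed_eq hi sq] at hk
  constructor
  intro t
  have h1 : t ∈ (snd.left.ker).support := by
    rcases k with _ | k
    · rw [pow_zero] at hk
      have h2 : (⊤ : T.left.IdealSheafData) = ⊥ := hk
      have h3 : snd.left.ker = ⊥ := by
        rw [eq_bot_iff, ← h2]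
        exact le_top
      rw [h3, Scheme.IdealSheafData.support_bot]
      trivial
    · rw [← Scheme.IdealSheafData.support_pow_succ (I := snd.left.ker) k, hk]
      change t ∈ (⊥ : T.left.IdealSheafData).support
      rw [Scheme.IdealSheafData.support_bot]
      trivial
  have h2 : Set.range snd.left = (snd.left.ker.support : Set T.left) := by
    rw [Scheme.Hom.support_ker, snd.left.isClosedEmbedding.isClosed_range.closure_eq]
  have h3 : t ∈ Set.range snd.left := by
    rw [h2]
    exact h1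
  exact h3

theorem nilCl_of_isPullback {i : X ⟶ Y} {hi : RepWith @IsClosedImmersion i} (h : NilCl i hi) {i' : X' ⟶ Y'}
    {f : X' ⟶ X} {f' : Y' ⟶ Y} (sq : IsPullback f i' i f') (hi' : RepWith @IsClosedImmersion i') : NilCl i' hi' := by
  intro T g
  rw [ofClosed_of_isPullback hi sq hi']
  exact h T _

theorem isNilpotent_ker {i : X ⟶ Y} {hi : RepWith @IsClosedImmersion i} (h : NilCl i hi) {T V : Over S}
    {g : (yon S).obj T ⟶ Y} {fst : (yon S).obj V ⟶ X} {snd : V ⟶ T}
    (sq : IsPullback fst ((yon S).map snd) i g) : IsNilpotent snd.left.ker := by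
  rw [← ofClosed_eq hi sq]
  exact h T g

/-- The general pattern. -/
theorem repWith_of_thick {Q : MorphismProperty Scheme.{u}} (hQ : Q ≤ @IsIntegralHom)
    (key : ∀ {X X' S S' : Scheme.{u}} (iX : X ⟶ X') (iS : S ⟶ S') (f : X ⟶ S) (f' : X' ⟶ S'),
      IsClosedImmersion iS → IsNilpotent iS.ker → MoreMor.IsThickening iS → IsPullback iX f f' iS → IsIntegralHom f' →
        Q f → Q f') {iX : X ⟶ X'} {iY : Y ⟶ Y'}
    {f : X ⟶ Y} {f' : X' ⟶ Y'} (hX' : IsAlgSpace X') (hY' : IsAlgSpace Y') (hiY : RepWith @IsClosedImmersion iY)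
    (hn : NilCl iY hiY) (sq : IsPullback iX f f' iY) (hf : RepWith Q f) : RepWith Q f' := by
  have hiX : RepWith @IsClosedImmersion iX := repWith_of_isPullback sq.flip hiY
  have hnX : NilCl iX hiX := nilCl_of_isPullback hn sq.flip hiX
  have h1 : RepWith @IsIntegralHom f' :=
    K632.IntThick.repWith_isIntegralHom hX' hY' (isThickMor hnX) (isThickMor hn) sq.w (repWith_mono hQ hf)
  refine ⟨h1.1, fun T V g fst snd sq' => ?_⟩
  obtain ⟨T₀, τ, k, sqT⟩ := hiY.1 g
  have sq3 := IsPullback.of_hasPullback snd τ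
  have hcl : IsClosedImmersion τ.left := hiY.2 _ _ _ sqT
  -- the pullback of `f` along `k`
  have sq4 : IsPullback ((yon S).map (pullback.fst snd τ) ≫ fst) ((yon S).map (pullback.snd snd τ)) f' (k ≫ iY) := by
    rw [sqT.w]
    exact isPullback_comp sq' sq3
  obtain ⟨c, -, sq5⟩ := K596.QC.isPullback_lift_right sq sq4
  exact key _ _ _ _ hcl (isNilpotent_ker hn sqT) ((isThickMor hn).2 _ _ _ sqT) (forget_isPullback sq3) (h1.2 _ _ _ sq')
    (hf.2 _ _ _ sq5)

theorem repWith_closed_of_thick {iX : X ⟶ X'} {iY : Y ⟶ Y'}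
    {f : X ⟶ Y} {f' : X' ⟶ Y'} (hX' : IsAlgSpace X') (hY' : IsAlgSpace Y') (hiY : RepWith @IsClosedImmersion iY)
    (hn : NilCl iY hiY) (sq : IsPullback iX f f' iY) (hf : RepWith @IsClosedImmersion f) :
    RepWith @IsClosedImmersion f' :=
  repWith_of_thick (fun _ _ f (hf : IsClosedImmersion f) => (inferInstance : IsIntegralHom f))
    (fun iX iS f f' h1 h2 _ h3 _ h5 => isClosedImmersion_of_nilpotent iX iS f f' h2 h3 inferInstance h5)
    hX' hY' hiY hn sq hf

theorem repWith_finite_of_thick {iX : X ⟶ X'} {iY : Y ⟶ Y'}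
    {f : X ⟶ Y} {f' : X' ⟶ Y'} (hX' : IsAlgSpace X') (hY' : IsAlgSpace Y') (hiY : RepWith @IsClosedImmersion iY)
    (hn : NilCl iY hiY) (sq : IsPullback iX f f' iY) (hf : RepWith @IsFinite f) :
    RepWith @IsFinite f' :=
  repWith_of_thick (fun _ _ f (hf : IsFinite f) => (inferInstance : IsIntegralHom f))
    (fun iX iS f f' h1 h2 h2' h3 h4 h5 => by
      have hiX : IsClosedImmersion iX := MorphismProperty.of_isPullback h3.flip h1
      have e : iX.ker = iS.ker.comap f' := ker_eq_comap_of_isPullback h3.flip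
      have h6 : IsNilpotent iX.ker := by
        obtain ⟨k, hk⟩ := h2
        refine ⟨k, ?_⟩
        rw [e, ← comap_pow, hk]
        exact Scheme.IdealSheafData.comap_bot _
      have h7 := K632.SrcNil.locallyOfFiniteType iX iS f f' h2' h3 h6 inferInstance
      exact IsFinite.iff_isIntegralHom_and_locallyOfFiniteType _ |>.2 ⟨h4, h7⟩)
    hX' hY' hiY hn sq hf

end K594.ThickCl
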