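import Groth.Agent.AlgSp.K594.AlgInd
import Groth.Agent.AlgSp.K594.ThickCl

/-!
# Algebraization of formal closed subspaces: the formal side

* `ofClosed_comp_pullback`, `isPullback_of_fam`: intersections of closed subspaces and cartesian squares.
* `SysData`: the data of the `X_n`; `closed_p`, `closed_t`, `nilCl_t`.
* `algebraize`: S10671 from the algebraization of families.
-/

set_option autoImplicit false
universe u
open CategoryTheory CategoryTheory.Limits AlgebraicGeometry Opposite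
open AlgSp K598.Site K598.RepKit K598.ClFam K598.Charts
open K594.FamOps K594.AlgSch K594.AlgChart K594.AlgStep K597.ProperSub K594.ThickCl

namespace K594.AlgWrap

section general

variable {S : Scheme.{u}} {Y Z Y' P : Sp S}

theorem ofClosed_comp_pullback {c : Z ⟶ Y} {d : Y' ⟶ Y} (hc : RepWith @IsClosedImmersion c)
    (hd : RepWith @IsClosedImmersion d) {t : P ⟶ Z} {z : P ⟶ Y'} (sq : IsPullback t z c d)
    (h : RepWith @IsClosedImmersion (t ≫ c)) : ofClosed (t ≫ c) h = sup (ofClosed c hc) (ofClosed d hd) := by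
  apply le_antisymm
  · have h1 := (exists_hom_iff_le (sup (ofClosed c hc) (ofClosed d hd)).repWith_ι hc).2 (by
      rw [ofClosed_ι]; exact le_sup_left _ _)
    have h2 := (exists_hom_iff_le (sup (ofClosed c hc) (ofClosed d hd)).repWith_ι hd).2 (by
      rw [ofClosed_ι]; exact le_sup_right _ _)
    obtain ⟨k1, e1⟩ := h1
    obtain ⟨k2, e2⟩ := h2
    have h3 : ∃ k, k ≫ t ≫ c = (sup (ofClosed c hc) (ofClosed d hd)).ι :=
      ⟨sq.lift k1 k2 (by rw [e1, e2]), by rw [← Category.assoc, sq.lift_fst, e1]⟩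
    have h4 := (exists_hom_iff_le (sup (ofClosed c hc) (ofClosed d hd)).repWith_ι h).1 h3
    rwa [ofClosed_ι] at h4
  · exact sup_le ((exists_hom_iff_le h hc).1 ⟨t, rfl⟩) ((exists_hom_iff_le h hd).1 ⟨z, sq.w.symm⟩)

theorem isPullback_of_fam {c : Z ⟶ Y} {d : Y' ⟶ Y} (hc : RepWith @IsClosedImmersion c)
    (hd : RepWith @IsClosedImmersion d) {z : P ⟶ Y'} (hz : RepWith @IsClosedImmersion (z ≫ d))
    (h : ofClosed (z ≫ d) hz = sup (ofClosed c hc) (ofClosed d hd)) :
    ∃ t : P ⟶ Z, IsPullback t z c d := by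
  have hmc := mono_of_repWith_isClosedImmersion hc
  have hmd := mono_of_repWith_isClosedImmersion hd
  have sq := IsPullback.of_hasPullback c d
  have h1 : RepWith @IsClosedImmersion (pullback.fst c d) := repWith_of_isPullback sq.flip hd
  have h2 : RepWith @IsClosedImmersion (pullback.fst c d ≫ c) := MorphismProperty.comp_mem _ _ _ h1 hc
  obtain ⟨e, he, -⟩ := exists_iso_of_eq hz h2 (by rw [h, ofClosed_comp_pullback hc hd sq h2])
  have e2 : e.hom ≫ pullback.snd c d = z := by
    rw [← cancel_mono d, Category.assoc, ← pullback.condition, he]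
  exact ⟨e.hom ≫ pullback.fst c d, IsPullback.of_iso_pullback ⟨by rw [Category.assoc, he]⟩ e rfl e2⟩

end general

section sys

variable {A : Type u} [CommRing A] (I : Ideal A)

/-- `Spec (A / I ^ (n + 1))` over `Spec A`. -/
noncomputable abbrev Sn (n : ℕ) : Over (Spec (CommRingCat.of A)) :=
  Over.mk (Spec.map (CommRingCat.ofHom (Ideal.Quotient.mk (I ^ (n + 1)))))

/-- Its structure map. -/
noncomputable abbrev snι (n : ℕ) : Sn I n ⟶ Over.mk (𝟙 _) :=
  Over.homMk (Spec.map (CommRingCat.ofHom (Ideal.Quotient.mk (I ^ (n + 1))))) (Category.comp_id _)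

theorem closed_snι (n : ℕ) : RepWith @IsClosedImmersion ((yon _).map (snι I n)) :=
  (repWith_yon_map_iff _ _).2 (inferInstanceAs (IsClosedImmersion (CohB1.specQuot I n)))

variable {X Xn : Sp (Spec (CommRingCat.of A))} {s : X ⟶ (yon (Spec (CommRingCat.of A))).obj (Over.mk (𝟙 _))}

theorem closed_p {n : ℕ} {p : Xn ⟶ X} {sn : Xn ⟶ (yon _).obj (Sn I n)} (h : IsPullback p sn s ((yon _).map (snι I n))) :
    RepWith @IsClosedImmersion p := repWith_of_isPullback h.flip (closed_snι I n)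

theorem ofClosed_snι (n : ℕ) {T : Over (Spec (CommRingCat.of A))} (g : (yon _).obj T ⟶ (yon _).obj (Over.mk (𝟙 _))) :
    (ofClosed _ (closed_snι I n)).I g = (specKer I n).comap T.hom := by
  obtain ⟨g, rfl⟩ := (yon _).map_surjective g
  have sq := yon_isPullback (IsPullback.of_hasPullback (snι I n) g)
  rw [ofClosed_eq (closed_snι I n) sq]
  have h1 : IsClosedImmersion (snι I n).left := inferInstanceAs (IsClosedImmersion (CohB1.specQuot I n))
  rw [ker_eq_comap_of_isPullback (forget_isPullback (IsPullback.of_hasPullback (snι I n) g))]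
  have h2 : g.left = T.hom := by
    have h3 : g.left ≫ 𝟙 _ = T.hom := Over.w g
    exact (Category.comp_id _).symm.trans h3
  rw [h2]
  rfl

/-- The ideals of `X_n`. -/
theorem ofClosed_p {n : ℕ} {p : Xn ⟶ X} {sn : Xn ⟶ (yon _).obj (Sn I n)}
    (h : IsPullback p sn s ((yon _).map (snι I n))) : ofClosed p (closed_p I h) = En I X n := by
  rw [ofClosed_pullback (closed_snι I n) h.flip (closed_p I h)]
  ext T g : 3
  exact ofClosed_snι I n _

variable {Xm : Sp (Spec (CommRingCat.of A))} {n : ℕ}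

/-- The transition maps are nilpotent closed immersions. -/
theorem closed_t {p : Xn ⟶ X} {sn : Xn ⟶ (yon _).obj (Sn I n)}
    (h : IsPullback p sn s ((yon _).map (snι I n))) {p' : Xm ⟶ X} {sm : Xm ⟶ (yon _).obj (Sn I (n + 1))}
    (h' : IsPullback p' sm s ((yon _).map (snι I (n + 1)))) {t : Xn ⟶ Xm} (ht : t ≫ p' = p) :
    ∃ ht : RepWith @IsClosedImmersion t, NilCl t ht := by
  have hp := closed_p I h
  have hp' := closed_p I h'
  have hm := mono_of_repWith_isClosedImmersion hp'
  have sq : IsPullback (𝟙 _) t p p' := by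
    refine ⟨⟨by simp [ht]⟩, ⟨PullbackCone.IsLimit.mk _ (fun s => s.fst) (fun s => by simp) (fun s => ?_)
      (fun s m h1 _ => ?_)⟩⟩
    · rw [← cancel_mono p', Category.assoc, ht]
      exact s.condition
    · rw [← h1, Category.comp_id]
  have hc : RepWith @IsClosedImmersion t := repWith_of_isPullback sq hp
  refine ⟨hc, fun T g => ⟨2, ?_⟩⟩
  rw [ofClosed_of_isPullback hp sq hc, ofClosed_p I h]
  have h1 : (En I X (n + 1)).I (g ≫ p') = ⊥ := by
    rw [← ofClosed_p I h']
    exact ofClosed_self hp' g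
  change ((specKer I n).comap T.hom) ^ 2 = (⊥ : T.left.IdealSheafData)
  rw [← Groth.Agent.Divis.IdealComap.comap_pow, eq_bot_iff, ← h1]
  change _ ≤ (specKer I (n + 1)).comap T.hom
  apply Scheme.IdealSheafData.comap_mono
  rw [← idl_le_iff, idl_pow, idl_specKer, idl_specKer, ← pow_mul]
  exact Ideal.pow_le_pow_right (by omega)

end sys

section main

variable (A : Type u) [CommRing A] [IsNoetherianRing A] (I : Ideal A)

/-- S10671 from the scheme case and the existence of finite covers. -/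
theorem algebraize (H : SchHyp A I) (K : K594.AlgInd.CoverHyp A)
    {X : AlgSp.Space (Spec (CommRingCat.of A))} (s : X.obj ⟶ (AlgSp.yon (Spec (CommRingCat.of A))).obj (Over.mk (𝟙 _)))
    (hs1 : AlgSp.IsSeparatedMor s) (hs2 : AlgSp.IsFiniteTypeMor s)
    (Xn : ℕ → AlgSp.Space (Spec (CommRingCat.of A))) (p : ∀ n, Xn n ⟶ X)
    (sn : ∀ n, (Xn n).obj ⟶ (AlgSp.yon (Spec (CommRingCat.of A))).obj (Over.mk (Spec.map (CommRingCat.ofHom (Ideal.Quotient.mk (I ^ (n + 1)))))))
    (hXn : ∀ n, IsPullback (p n).hom (sn n) s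
      ((AlgSp.yon (Spec (CommRingCat.of A))).map (Over.homMk (Spec.map (CommRingCat.ofHom (Ideal.Quotient.mk (I ^ (n + 1))))) (Category.comp_id _) :
        (Over.mk (Spec.map (CommRingCat.ofHom (Ideal.Quotient.mk (I ^ (n + 1)))))) ⟶ Over.mk (𝟙 _))))
    (t : ∀ n, Xn n ⟶ Xn (n + 1)) (ht : ∀ n, t n ≫ p (n + 1) = p n)
    (Zn : ℕ → AlgSp.Space (Spec (CommRingCat.of A))) (j : ∀ n, Zn n ⟶ Xn n) (z : ∀ n, Zn n ⟶ Zn (n + 1))
    (hZ : ∀ n, IsPullback (z n).hom (j n).hom (j (n + 1)).hom (t n).hom)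
    (h1 : AlgSp.RepWith @IsClosedImmersion (j 0).hom) (h2 : AlgSp.IsProperMor ((j 0).hom ≫ sn 0)) :
    ∃ (Z : AlgSp.Space (Spec (CommRingCat.of A))) (jZ : Z ⟶ X) (q : ∀ n, Zn n ⟶ Z),
      AlgSp.RepWith @IsClosedImmersion jZ.hom ∧ AlgSp.IsProperMor (jZ.hom ≫ s) ∧
        ∀ n, IsPullback (q n).hom (j n).hom jZ.hom (p n).hom := by
  have hT : IsAlgSpace ((yon (Spec (CommRingCat.of A))).obj (Over.mk (𝟙 _))) := IsAlgSpace.yon_obj _
  have hp : ∀ n, RepWith @IsClosedImmersion (p n).hom := fun n => closed_p I (hXn n)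
  have ht' : ∀ n, ∃ ht : RepWith @IsClosedImmersion (t n).hom, NilCl (t n).hom ht := fun n =>
    closed_t I (hXn n) (hXn (n + 1)) (congrArg (·.hom) (ht n))
  have hj : ∀ n, RepWith @IsClosedImmersion (j n).hom := by
    intro n
    induction n with
    | zero => exact h1
    | succ n ih =>
      obtain ⟨k1, k2⟩ := ht' n
      exact repWith_closed_of_thick (Zn (n + 1)).property (Xn (n + 1)).property k1 k2 (hZ n) ih
  have hjp : ∀ n, RepWith @IsClosedImmersion ((j n).hom ≫ (p n).hom) := fun n =>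
    MorphismProperty.comp_mem _ _ _ (hj n) (hp n)
  have htp : ∀ n, (t n).hom ≫ (p (n + 1)).hom = (p n).hom := fun n => congrArg (·.hom) (ht n)
  have sqn : ∀ n, IsPullback (z n).hom (j n).hom ((j (n + 1)).hom ≫ (p (n + 1)).hom) (p n).hom := fun n => by
    have hm := mono_of_repWith_isClosedImmersion (hp (n + 1))
    have := isPullback_comp_mono (p (n + 1)).hom (hZ n)
    rwa [htp] at this
  have ha : ∀ n, ofClosed _ (hjp n) = sup (ofClosed _ (hjp (n + 1))) (En I X.obj n) := by
    intro n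
    have e : (z n).hom ≫ (j (n + 1)).hom ≫ (p (n + 1)).hom = (j n).hom ≫ (p n).hom := (sqn n).w
    have h3 := ofClosed_comp_pullback (hjp (n + 1)) (hp n) (sqn n) (by rw [e]; exact hjp n)
    rw [ofClosed_p I (hXn n)] at h3
    rw [← h3]
    congr 1
    exact e.symm
  have hpr : IsProperMor ((ofClosed _ (hjp 0)).ι ≫ s) := by
    obtain ⟨e, he, -⟩ := exists_iso_of_eq (ofClosed _ (hjp 0)).repWith_ι (hjp 0) (by rw [ofClosed_ι])
    have h3 : (ofClosed _ (hjp 0)).ι ≫ s = e.hom ≫ ((j 0).hom ≫ sn 0) ≫ (yon _).map (snι I 0) := by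
      rw [← he, Category.assoc, Category.assoc, (hXn 0).w, Category.assoc]
    rw [h3]
    have hA := (ofClosed _ (hjp 0)).isAlgSpace_sheaf X.property
    have hS : IsAlgSpace ((yon (Spec (CommRingCat.of A))).obj (Sn I 0)) := IsAlgSpace.yon_obj _
    exact isProperMor_comp hA (Zn 0).property hT (isProperMor_of_closed (Zn 0).property (repWith_of_isIso e.hom))
      (isProperMor_comp (Zn 0).property hS hT h2 (isProperMor_of_closed hT (closed_snι I 0)))
  obtain ⟨w, hw, hwp⟩ := K594.AlgInd.main I H K X.property s hs1 hs2 (fun n => ofClosed _ (hjp n)) ha hpr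
  have key : ∀ n, ∃ q : (Zn n).obj ⟶ w.sheaf, IsPullback q (j n).hom w.ι (p n).hom := fun n =>
    isPullback_of_fam w.repWith_ι (hp n) (hjp n) (by rw [ofClosed_ι, ofClosed_p I (hXn n), hw n])
  choose q hq using key
  exact ⟨⟨w.sheaf, w.isAlgSpace_sheaf X.property⟩, ⟨w.ι⟩, fun n => ⟨q n⟩, w.repWith_ι, hwp, hq⟩

end main

end K594.AlgWrap
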