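import Groth.Agent.AlgSp.K594.Cover

/-!
# First consequences: local surjectivity, descent of `RepWith P`, monomorphisms, diagonals
-/

set_option autoImplicit false
set_option backward.isDefEq.respectTransparency.types false
universe u
open CategoryTheory CategoryTheory.Limits AlgebraicGeometry Opposite AlgSp

namespace K594.Basic

open K594.Elem K594.Cover

variable {S : Scheme.{u}}

/-- A map which is representable, flat, lfp and surjective is locally surjective. -/
theorem isLocallySurjective_of_repWith {F G : Sp S} (a : F ⟶ G) (h₁ : RepWith @Flat a)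
    (h₂ : RepWith @LocallyOfFinitePresentation a) (h₃ : RepWith @Surjective a) :
    Sheaf.IsLocallySurjective a := by
  rw [isLocallySurjective_iff]
  intro T y
  obtain ⟨V, v, ξ, hξ⟩ := (representable_iff a).1 h₁.1 y
  exact ⟨V, v, ξ, ⟨RepWith.prop_of_isRep h₁ hξ, RepWith.prop_of_isRep h₂ hξ,
    RepWith.prop_of_isRep h₃ hξ⟩, hξ.w⟩

theorem RepWith.mono_prop {P Q : MorphismProperty Scheme.{u}} (h : P ≤ Q) {F G : Sp S} {f : F ⟶ G}
    (hf : RepWith P f) : RepWith Q f :=
  ⟨hf.1, fun _ _ g fst snd hp => h _ (hf.2 g fst snd hp)⟩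

theorem RepWith.inf {P Q : MorphismProperty Scheme.{u}} {F G : Sp S} {f : F ⟶ G}
    (hf : RepWith P f) (hg : RepWith Q f) : RepWith (P ⊓ Q) f :=
  ⟨hf.1, fun _ _ g fst snd hp => ⟨hf.2 g fst snd hp, hg.2 g fst snd hp⟩⟩

/-- An etale surjective map is locally surjective. -/
theorem isLocallySurjective_of_etale {F G : Sp S} (a : F ⟶ G) (h₁ : RepWith @Etale a)
    (h₃ : RepWith @Surjective a) : Sheaf.IsLocallySurjective a := by
  refine isLocallySurjective_of_repWith a (RepWith.mono_prop ?_ h₁) (RepWith.mono_prop ?_ h₁) h₃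
  · intro X Y f hf
    have : Etale f := hf
    exact inferInstanceAs (Flat f)
  · intro X Y f hf
    have : Etale f := hf
    exact inferInstanceAs (LocallyOfFinitePresentation f)

/-- the elementwise form of a monomorphism -/
theorem mono_iff {F G : Sp S} (f : F ⟶ G) :
    Mono f ↔ ∀ (T : Over S) (a b : F.obj.obj (op T)),
      f.hom.app (op T) a = f.hom.app (op T) b → a = b := by
  constructor
  · intro h T a b hab
    apply (secEquiv (F := F) (U := T)).symm.injective
    rw [← cancel_mono f]
    apply hom_ext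
    rintro Z ⟨z⟩
    rw [comp_app, comp_app, yonEquiv_symm_apply, yonEquiv_symm_apply, app_map, app_map, hab]
  · intro h
    constructor
    intro Z a b hab
    apply hom_ext
    intro T x
    apply h
    rw [← comp_app, ← comp_app, hab]

theorem mono_of_repWith {P : MorphismProperty Scheme.{u}}
    (hP : ∀ {X Y : Scheme.{u}} (f : X ⟶ Y), P f → Mono f) {F G : Sp S} {f : F ⟶ G}
    (hf : RepWith P f) : Mono f := by
  rw [mono_iff]
  intro T a b hab
  obtain ⟨V, v, ξ, hξ, hv⟩ := RepWith.exists_isRep hf (f.hom.app (op T) b)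
  have := hP _ hv
  obtain ⟨k, hk, hk'⟩ := hξ.lift (𝟙 T) a (by rw [hab, map_id_apply])
  obtain ⟨l, hl, hl'⟩ := hξ.lift (𝟙 T) b (by rw [map_id_apply])
  have : k = l := by
    ext
    rw [← cancel_mono v.left, ← Over.comp_left, ← Over.comp_left, hk, hl]
  rw [← hk', ← hl', this]

theorem of_isPullback_cov (P : MorphismProperty Scheme.{u})
    [P.IsLocalAtTarget Scheme.fppfPrecoverage] {X Y X' Y' : Scheme.{u}} {f : X ⟶ Y} {g : Y' ⟶ Y}
    {f' : X' ⟶ Y'} {g' : X' ⟶ X} (sq : IsPullback g' f' f g) [Flat g]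
    [LocallyOfFinitePresentation g] [Surjective g] (h : P f') : P f := by
  refine MorphismProperty.IsLocalAtTarget.of_forall_pullbackSnd (g.singleton_mem_fppfPrecoverage) ?_
  rintro U k _ ⟨⟩
  rw [← P.cancel_left_of_respectsIso sq.isoPullback.hom, sq.isoPullback_hom_snd]
  exact h

/-- Descent of `RepWith P` along a locally surjective base change. -/
theorem repWith_of_isLocallySurjective_base {F G H : Sp S} (a : F ⟶ G)
    (ha : Representable a) (b : H ⟶ G) [Sheaf.IsLocallySurjective b] {Q : Sp S} {b' : Q ⟶ F}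
    {a' : Q ⟶ H} (sq : IsPullback b' a' a b) (P : MorphismProperty Scheme.{u})
    [P.IsStableUnderBaseChange] [P.IsLocalAtTarget Scheme.fppfPrecoverage] (h : RepWith P a') :
    RepWith P a := by
  rw [repWith_iff']
  refine ⟨ha, fun {U V} y v ξ hξ => ?_⟩
  obtain ⟨U', g, x, hg, hx⟩ := (isLocallySurjective_iff b).1 ‹_› U y
  obtain ⟨hw, hinj, hlift⟩ := (isPullback_iff _ _ _ _).1 sq
  -- pullback of `V` to `U'`
  have sq' := IsPullback.of_hasPullback v g
  have h1 := hξ.baseChange sq'
  obtain ⟨ξ', hξ'1, hξ'2⟩ := hlift _ (F.obj.map (pullback.fst v g).op ξ)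
    (H.obj.map (pullback.snd v g).op x) (by rw [h1.w, app_map, hx])
  have h2 : IsRep a' x (pullback.snd v g) ξ' := by
    refine ⟨hξ'2, fun {T} k l e1 e2 => ?_, fun {T} t z hz => ?_⟩
    · apply h1.inj k l e1
      rw [← hξ'1, ← app_map, ← app_map, e2]
    · have e : a.hom.app (op T) (b'.hom.app (op T) z) =
          G.obj.map t.op (G.obj.map g.op y) := by
        rw [← comp_app, hw, comp_app, hz, app_map, hx]
      obtain ⟨k, hk1, hk2⟩ := h1.lift t _ e
      refine ⟨k, hk1, ?_⟩
      apply hinj
      · rw [app_map, hξ'1, hk2]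
      · rw [app_map, hξ'2, hz, ← map_comp_apply, hk1]
  have h3 : P (pullback.snd v g).left := RepWith.prop_of_isRep h h2
  have i1 := hg.flat
  have i2 := hg.lfp
  have i3 := hg.surj
  have sq3 : IsPullback (pullback.fst v g).left (pullback.snd v g).left v.left g.left :=
    sq'.map (Over.forget S)
  exact of_isPullback_cov P sq3 h3

end K594.Basic
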