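import Groth.Agent.AlgSp.K594.VKit
import Groth.Agent.AlgSp.K602.Ch

/-!
# The rings of functions of affine spaces over `T` on the charts of `T`

`ρ`: functoriality, `isPushout_ρ`: fibre products, `surjective_ρ`, `ker_ρ`: closed immersions.
-/

set_option autoImplicit false
universe u
open CategoryTheory CategoryTheory.Limits AlgebraicGeometry Opposite
open AlgSp K598.Site K598.RepKit K598.ClFam K598.Charts
open K594.FamOps K594.AlgSch K594.AlgChart K594.AlgStep K594.VKit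
open K602 K602.Ch

namespace K594.ChRing

section general

variable {S : Scheme.{u}} {T G H L P : Sp S} {g : G ⟶ T} {h : H ⟶ T} {l : L ⟶ T} {q : P ⟶ T}
  (hg : RepWith @IsAffineHom g) (hh : RepWith @IsAffineHom h) (hl : RepWith @IsAffineHom l)
  (hq : RepWith @IsAffineHom q)

/-- The map of base changes to a chart. -/
noncomputable def Wm (k : G ⟶ H) (hk : k ≫ h = g) (a : Ch T) : W hg a ⟶ W hh a :=
  hh.1.lift (ι hg a ≫ k) (π hg a) (by rw [Category.assoc, hk, (sq hg a).w])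

theorem Wm_ι (k : G ⟶ H) (hk : k ≫ h = g) (a : Ch T) : (yon S).map (Wm hg hh k hk a) ≫ ι hh a = ι hg a ≫ k :=
  hh.1.lift_fst _ _ _

theorem Wm_π (k : G ⟶ H) (hk : k ≫ h = g) (a : Ch T) : Wm hg hh k hk a ≫ π hh a = π hg a :=
  hh.1.lift_snd _ _ _

theorem sq_Wm (k : G ⟶ H) (hk : k ≫ h = g) (a : Ch T) :
    IsPullback (ι hg a) ((yon S).map (Wm hg hh k hk a)) k (ι hh a) := by
  subst hk
  have h1 := (sq hg a).flip
  have h2 : (yon S).map (π hg a) = (yon S).map (Wm hg hh k rfl a) ≫ (yon S).map (π hh a) := by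
    rw [← (yon S).map_comp, Wm_π]
  rw [h2] at h1
  exact (IsPullback.of_right h1 (Wm_ι hg hh k rfl a) (sq hh a).flip).flip

theorem Wm_comp (k : G ⟶ H) (hk : k ≫ h = g) (k' : H ⟶ L) (hk' : k' ≫ l = h) (hkk : (k ≫ k') ≫ l = g) (a : Ch T) :
    Wm hg hl (k ≫ k') hkk a = Wm hg hh k hk a ≫ Wm hh hl k' hk' a := by
  apply W_ext
  · rw [Wm_ι, (yon S).map_comp, Category.assoc, Wm_ι, ← Category.assoc, ← Category.assoc, Wm_ι]
  · rw [Wm_π, Category.assoc, Wm_π, Wm_π]

theorem Wmap_Wm (k : G ⟶ H) (hk : k ≫ h = g) {a b : Ch T} (φ : a ⟶ b) :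
    Wmap hg φ ≫ Wm hg hh k hk b = Wm hg hh k hk a ≫ Wmap hh φ := by
  apply W_ext
  · rw [(yon S).map_comp, Category.assoc, Wm_ι, ← Category.assoc, Wmap_ι, (yon S).map_comp, Category.assoc, Wmap_ι,
      Wm_ι]
  · rw [Category.assoc, Wm_π, Wmap_π, Category.assoc, Wmap_π, ← Category.assoc, Wm_π]

/-- The map of rings of functions. -/
noncomputable def ρ (k : G ⟶ H) (hk : k ≫ h = g) (a : Ch T) : B hh a ⟶ B hg a := (Wm hg hh k hk a).left.appTop

theorem β_ρ (k : G ⟶ H) (hk : k ≫ h = g) (a : Ch T) : β hh a ≫ ρ hg hh k hk a = β hg a := by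
  rw [β, ρ, β, ← Scheme.Hom.comp_appTop, ← Over.comp_left, Wm_π]

theorem ρ_comp (k : G ⟶ H) (hk : k ≫ h = g) (k' : H ⟶ L) (hk' : k' ≫ l = h) (hkk : (k ≫ k') ≫ l = g) (a : Ch T) :
    ρ hg hl (k ≫ k') hkk a = ρ hh hl k' hk' a ≫ ρ hg hh k hk a := by
  rw [ρ, ρ, ρ, ← Scheme.Hom.comp_appTop, ← Over.comp_left, Wm_comp hg hh hl k hk k' hk' hkk]

theorem ρ_congr {k k' : G ⟶ H} (e : k = k') (hk : k ≫ h = g) (hk' : k' ≫ h = g) (a : Ch T) :
    ρ hg hh k hk a = ρ hg hh k' hk' a := by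
  subst e; rfl

theorem ρ_res (k : G ⟶ H) (hk : k ≫ h = g) {a b : Ch T} (φ : a ⟶ b) :
    ρ hg hh k hk b ≫ res hg φ = res hh φ ≫ ρ hg hh k hk a := by
  rw [ρ, res, res, ρ, ← Scheme.Hom.comp_appTop, ← Scheme.Hom.comp_appTop, ← Over.comp_left, ← Over.comp_left,
    Wmap_Wm]

theorem isPullback_Wm {fst : P ⟶ G} {snd : P ⟶ H} {k : G ⟶ L} {k' : H ⟶ L} (s : IsPullback fst snd k k')
    (h1 : fst ≫ g = q) (h2 : snd ≫ h = q) (h3 : k ≫ l = g) (h4 : k' ≫ l = h) (a : Ch T) :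
    IsPullback (Wm hq hg fst h1 a) (Wm hq hh snd h2 a) (Wm hg hl k h3 a) (Wm hh hl k' h4 a) := by
  refine IsPullback.of_map (yon S) ?_ ?_
  · rw [← Wm_comp hq hg hl fst h1 k h3 (by rw [Category.assoc, h3, h1]),
      ← Wm_comp hq hh hl snd h2 k' h4 (by rw [Category.assoc, h4, h2])]
    congr 1
    exact s.w
  · have s2 := (sq_Wm hq hg fst h1 a).flip.paste_vert s
    have s3 := (sq_Wm hh hl k' h4 a).flip
    rw [← Wm_ι hg hl k h3 a, ← Wm_ι hq hh snd h2 a] at s2
    refine IsPullback.of_bot s2 ?_ s3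
    rw [← (yon S).map_comp, ← (yon S).map_comp,
      ← Wm_comp hq hg hl fst h1 k h3 (by rw [Category.assoc, h3, h1]),
      ← Wm_comp hq hh hl snd h2 k' h4 (by rw [Category.assoc, h4, h2])]
    congr 2
    exact s.w

/-- Fibre products give pushouts of rings. -/
theorem isPushout_ρ {fst : P ⟶ G} {snd : P ⟶ H} {k : G ⟶ L} {k' : H ⟶ L} (s : IsPullback fst snd k k')
    (h1 : fst ≫ g = q) (h2 : snd ≫ h = q) (h3 : k ≫ l = g) (h4 : k' ≫ l = h) (a : Ch T) [IsAffine a.V.left] :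
    IsPushout (ρ hg hl k h3 a) (ρ hh hl k' h4 a) (ρ hq hg fst h1 a) (ρ hq hh snd h2 a) := by
  have := isAffine_W hg a
  have := isAffine_W hh a
  have := isAffine_W hl a
  exact isPushout_appTop_of_isPullback ((isPullback_Wm hg hh hl hq s h1 h2 h3 h4 a).map (Over.forget S))

/-- Fibre products over the base. -/
theorem isPushout_β {fst : P ⟶ G} {snd : P ⟶ H} (s : IsPullback fst snd g h)
    (h1 : fst ≫ g = q) (h2 : snd ≫ h = q) (a : Ch T) [IsAffine a.V.left] :
    IsPushout (β hg a) (β hh a) (ρ hq hg fst h1 a) (ρ hq hh snd h2 a) := by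
  have hid : RepWith @IsAffineHom (𝟙 T) := repWith_of_isIso _
  have h0 := isPushout_ρ hg hh hid hq s h1 h2 (Category.comp_id _) (Category.comp_id _) a
  have e1 : IsIso (β hid a) := by
    have : IsIso (π hid a) := by
      have h2 : IsIso ((yon S).map (π hid a)) := (sq hid a).isIso_snd_of_isIso
      exact isIso_of_reflects_iso _ (yon S)
    have h3 : IsIso (π hid a).left := inferInstanceAs (IsIso ((Over.forget S).map (π hid a)))
    have h4 : IsIso ((π hid a).left.app ⊤) := inferInstance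
    exact h4
  exact IsPushout.of_iso h0 (asIso (β hid a)).symm (Iso.refl _) (Iso.refl _) (Iso.refl _)
    (by simp [β_ρ]) (by simp [β_ρ]) (by simp) (by simp)

variable {c : Fam H}

theorem isClosedImmersion_Wm {k : G ⟶ H} (hk : k ≫ h = g) (hc : IsV k c) (a : Ch T) :
    IsClosedImmersion (Wm hg hh k hk a).left := hc.1.2 _ _ _ (sq_Wm hg hh k hk a)

theorem surjective_ρ {k : G ⟶ H} (hk : k ≫ h = g) (hc : IsV k c) (a : Ch T) [IsAffine a.V.left] :
    Function.Surjective (ρ hg hh k hk a) := by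
  have := isAffine_W hg a
  have := isAffine_W hh a
  have := isClosedImmersion_Wm hg hh hk hc a
  exact (IsClosedImmersion.isAffine_surjective_of_isAffine (Wm hg hh k hk a).left).2

/-- The ideal of functions on a chart. -/
noncomputable def tI (a : Ch T) [IsAffine a.V.left] (d : Fam T) : Ideal (O a) :=
  (d.I a.v).ideal ⟨⊤, isAffineOpen_top _⟩

theorem ker_ρ {k : G ⟶ H} (hk : k ≫ h = g) {d : Fam T} (hc : IsV k (pull h d)) (a : Ch T) [IsAffine a.V.left] :
    RingHom.ker (ρ hg hh k hk a).hom = (tI a d).map (β hh a).hom := by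
  have := isAffine_W hg a
  have := isAffine_W hh a
  obtain ⟨hc, e⟩ := hc
  have h1 := ofClosed_eq hc (sq_Wm hg hh k hk a)
  rw [e] at h1
  change d.I (ι hh a ≫ h) = _ at h1
  rw [(sq hh a).w, d.comap] at h1
  have h2 := congrArg (fun K : (W hh a).left.IdealSheafData => K.ideal ⟨⊤, isAffineOpen_top _⟩) h1
  simp only [Groth.Agent.Divis.IdealComap.ideal_comap_top] at h2
  rw [Scheme.Hom.ker_apply] at h2
  exact h2.symm

theorem tI_pow (a : Ch T) [IsAffine a.V.left] (d : Fam T) (m : ℕ) : tI a (pow d m) = tI a d ^ m := by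
  rw [tI, tI, pow_I]
  simp

end general

end K594.ChRing
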