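import Groth.Agent.AlgSp.K651.ConfQuot
import Groth.Agent.AlgSp.K624.GECompact
import Groth.Agent.Etrest.ProperOver

/-!
# The configuration quotients of an étale separated chart

Complements to `K651.ConfQuot`:

* `exists_conf_qc` : the scheme of configurations of a quasi-compact chart is quasi-compact over the chart.
* `exists_quot` : the quotient `Y` of the scheme of configurations by the symmetric group is a separated scheme, étale
  over `X`, and `E ⟶ Y` is finite étale surjective and invariant under the permutations.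
-/

set_option autoImplicit false
universe v w u

open CategoryTheory CategoryTheory.Limits AlgebraicGeometry Opposite

namespace K594.ConfQ

open AlgSp K613.Basic K613.Cover K613.Chart K613.Diag K651.Wide K651.Conf K651.ConfQuot
open Groth.Agent.Sga3C.QuotRel

variable {S : Scheme.{u}} {X : Sp S} {U : Over S} {p : (yon S).obj U ⟶ X}

/-- A chart with source separated over the base is separated. -/
theorem repWith_isSeparated (hp : Representable p) (hU : IsSeparated U.hom) : RepWith @IsSeparated p := by
  refine ⟨hp, fun T V g fst snd sq => ?_⟩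
  obtain ⟨fst, rfl⟩ := (yon S).map_surjective fst
  have hm : Mono (prod.lift fst snd) := by
    refine ⟨fun {R} a b hab => ?_⟩
    apply (yon S).map_injective
    apply sq.hom_ext
    · rw [← Functor.map_comp, ← Functor.map_comp]
      have := congrArg (· ≫ prod.fst) hab
      simp only [Category.assoc, prod.lift_fst] at this
      rw [this]
    · rw [← Functor.map_comp, ← Functor.map_comp]
      have := congrArg (· ≫ prod.snd) hab
      simp only [Category.assoc, prod.lift_snd] at this
      rw [this]
  have hm' : Mono (prod.lift fst snd).left := inferInstanceAs (Mono ((Over.forget S).map (prod.lift fst snd)))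
  have h2 : IsSeparated (prod.snd : U ⨯ T ⟶ T).left := by
    have h3 : (prod.snd : U ⨯ T ⟶ T).left = (Over.prodLeftIsoPullback U T).hom ≫ pullback.snd U.hom T.hom :=
      (Over.prodLeftIsoPullback_hom_snd U T).symm
    rw [h3]
    infer_instance
  have h4 : snd.left = (prod.lift fst snd).left ≫ (prod.snd : U ⨯ T ⟶ T).left := by
    rw [← Over.comp_left, prod.lift_snd]
  change IsSeparated snd.left
  rw [h4]
  infer_instance

/-- The scheme of tuples with the same image in `X`. -/
theorem exists_tuples (P : MorphismProperty Scheme.{u}) [P.IsStableUnderBaseChange] [P.IsMultiplicative]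
    (hQ : RepWith P p) (ι : Type u) [Finite ι] [Nonempty ι] :
    ∃ (G : Over S) (π : ι → (G ⟶ U)), (∀ i j, (yon S).map (π i) ≫ p = (yon S).map (π j) ≫ p) ∧
      (∀ (T : Over S) (u : ι → (T ⟶ U)), (∀ i j, (yon S).map (u i) ≫ p = (yon S).map (u j) ≫ p) →
        ∃ g : T ⟶ G, ∀ i, g ≫ π i = u i) ∧
      (∀ (T : Over S) (g g' : T ⟶ G), (∀ i, g ≫ π i = g' ≫ π i) → g = g') ∧
      ∀ i, P (π i).left := by
  obtain ⟨G, b, π, hπ, hb, hq⟩ := exists_wide p (RepWith P) hQ ι
  let i₀ : ι := Classical.arbitrary ι
  obtain ⟨Γ, snd, fst, sq⟩ := (hq i₀).1 (𝟙 ((yon S).obj U))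
  have hfst : IsIso fst := by
    have := sq.flip.isIso_snd_of_isIso
    exact this
  have hex : ∀ i, ∃ q : Γ ⟶ U, (yon S).map q = fst ≫ π i := fun i => (yon S).map_surjective _
  choose q hq' using hex
  refine ⟨Γ, q, ?_, ?_, ?_, ?_⟩
  · intro i j
    rw [hq', hq', Category.assoc, Category.assoc, hπ.w, hπ.w]
  · intro T u hu
    obtain ⟨g, -, hg⟩ := hπ.lift ((yon S).map (u i₀) ≫ p) (fun i => (yon S).map (u i)) (fun i => hu _ _)
    obtain ⟨g', hg'⟩ := (yon S).map_surjective (g ≫ inv fst)
    refine ⟨g', fun i => (yon S).map_injective ?_⟩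
    rw [Functor.map_comp, hg', hq', Category.assoc, IsIso.inv_hom_id_assoc, hg]
  · intro T g g' h
    apply (yon S).map_injective
    rw [← cancel_mono fst]
    have h1 : ∀ i, ((yon S).map g ≫ fst) ≫ π i = ((yon S).map g' ≫ fst) ≫ π i := by
      intro i
      rw [Category.assoc, Category.assoc, ← hq', ← Functor.map_comp, ← Functor.map_comp, h]
    refine hπ.ext _ _ ?_ h1
    rw [← hπ.w i₀, ← Category.assoc, ← Category.assoc, h1]
  · intro i
    have h1 : RepWith P ((yon S).map (q i)) := by
      rw [hq']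
      have h2 : RepWith P fst :=
        MorphismProperty.of_isPullback (P := RepWith P) sq.flip (by
          rw [← (yon S).map_id]
          exact (repWith_yon_map_iff _ _).2 (P.id_mem _))
      exact MorphismProperty.comp_mem _ _ _ h2 (hq i)
    exact (repWith_yon_map_iff _ _).1 h1

theorem exists_conf_qc (hp : RepWith @Etale p) (hU : IsSeparated U.hom)
    (hqc : RepWith @QuasiCompact p) (ι : Type u) [Finite ι] [Nonempty ι] :
    ∃ (E : Over S) (π : ι → (E ⟶ U)), IsConf p E π ∧ (∀ i, Etale (π i).left ∧ IsSeparated (π i).left) ∧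
      ∀ i, QuasiCompact (π i).left := by
  have hps := repWith_isSeparated hp.1 hU
  have hQ : RepWith ((@Etale ⊓ @IsSeparated) ⊓ @QuasiCompact) p := ⟨hp.1, fun T V g fst snd sq =>
    ⟨⟨hp.2 g fst snd sq, hps.2 g fst snd sq⟩, hqc.2 g fst snd sq⟩⟩
  obtain ⟨G, q, hw, hlift, hext, hq⟩ := exists_tuples _ hQ ι
  have hD : ∀ i j, ∃ (E : Over S) (e : E ⟶ G), IsOpenImmersion e.left ∧ IsClosedImmersion e.left ∧ e ≫ q i = e ≫ q j ∧
      ∀ (R : Over S) (r : R ⟶ G), r ≫ q i = r ≫ q j → ∃ r' : R ⟶ E, r' ≫ e = r :=
    fun i j => exists_clopen hp hU _ _ (hw i j)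
  choose D e heo hec hew hel using hD
  let Z : Set G.left := ⋃ ij : {ij : ι × ι // ij.1 ≠ ij.2}, Set.range (e ij.1.1 ij.1.2).left
  have hZ : IsClosed Z := isClosed_iUnion_of_finite fun ij => by
    have := hec ij.1.1 ij.1.2
    exact (e ij.1.1 ij.1.2).left.isClosedEmbedding.isClosed_range
  have hZo : IsOpen Z := isOpen_iUnion fun ij => by
    have := heo ij.1.1 ij.1.2
    exact (e ij.1.1 ij.1.2).left.isOpenEmbedding.isOpen_range
  let N : G.left.Opens := ⟨Zᶜ, hZ.isOpen_compl⟩
  let E : Over S := Over.mk (N.ι ≫ G.hom)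
  let j : E ⟶ G := Over.homMk N.ι rfl
  have hj : IsOpenImmersion j.left := inferInstanceAs (IsOpenImmersion N.ι)
  have hjm : Mono j := by
    have : Mono ((Over.forget S).map j) := inferInstanceAs (Mono N.ι)
    exact (Over.forget S).mono_of_mono_map this
  -- criterion for mapping into `N`
  have key : ∀ (T : Over S) (g : T ⟶ G), (∀ i j, i ≠ j → NEq (g ≫ q i) (g ≫ q j)) ↔ ∀ t : T.left, g.left t ∈ N := by
    intro T g
    constructor
    · intro h t ht
      obtain ⟨⟨⟨i, i'⟩, hii⟩, x, hx⟩ := Set.mem_iUnion.1 ht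
      dsimp only at hii hx
      have h1 := h i i' hii (pullback g (e i i')) (pullback.fst _ _) ?_
      · apply h1
        rw [← Category.assoc, pullback.condition, Category.assoc, hew, ← Category.assoc, ← pullback.condition,
          Category.assoc]
      · have sq := (IsPullback.of_hasPullback g (e i i')).map (Over.forget S)
        obtain ⟨y, -, -⟩ := Scheme.exists_preimage_of_isPullback sq t x hx.symm
        exact ⟨y⟩
    · intro h i i' hii R r hR hr
      obtain ⟨r', hr'⟩ := hel i i' R (r ≫ g) (by rw [Category.assoc, Category.assoc, hr])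
      obtain ⟨y⟩ := hR
      refine h (r.left y) (Set.mem_iUnion.2 ⟨⟨⟨i, i'⟩, hii⟩, r'.left y, ?_⟩)
      have := congrArg (fun f => f.left y) hr'
      simpa using this
  refine ⟨E, fun i => j ≫ q i, ⟨?_, ?_, ?_, ?_⟩, ?_, ?_⟩
  · intro i i'
    rw [Functor.map_comp, Category.assoc, hw i i', Functor.map_comp, Category.assoc]
  · rw [key]
    intro t
    exact t.2
  · intro T u hu hne
    obtain ⟨g, hg⟩ := hlift T u hu
    have h1 : ∀ t : T.left, g.left t ∈ N := by
      rw [← key]
      intro i i' hii
      rw [hg, hg]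
      exact hne i i' hii
    have h2 : Set.range g.left ⊆ Set.range N.ι := by
      rintro _ ⟨t, rfl⟩
      rw [Scheme.Opens.range_ι]
      exact h1 t
    refine ⟨Over.homMk (IsOpenImmersion.lift N.ι g.left h2) ?_, fun i => ?_⟩
    · dsimp only [E, Over.mk_hom]
      rw [IsOpenImmersion.lift_fac_assoc, Over.w]
    · rw [← hg, ← Category.assoc]
      congr 1
      ext1
      exact IsOpenImmersion.lift_fac _ _ _
  · intro T g g' h
    rw [← cancel_mono j]
    exact hext _ _ _ fun i => by simpa using h i
  · intro i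
    obtain ⟨⟨h1, h2⟩, -⟩ := hq i
    exact ⟨inferInstanceAs (Etale (j.left ≫ (q i).left)), inferInstanceAs (IsSeparated (j.left ≫ (q i).left))⟩
  · intro i
    have := (hq i).2
    exact K624.GECompact.quasiCompact_of_isClosed_range N (q i).left hZo.isClosed_compl

variable {ι : Type u} {E : Over S} {π : ι → (E ⟶ U)}

/-- The quotient of the scheme of configurations by the symmetric group: it is separated, étale over `X`, and `E` is
finite étale surjective over it. -/
theorem exists_quot (hX : Representable (Limits.diag X)) (hE : IsConf p E π) [Nonempty ι] [Finite ι]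
    [IsAffine U.left] (hU : ∀ i, Etale (π i).left ∧ IsSeparated (π i).left) (hp : RepWith @Etale p) :
    ∃ (Y : Over S) (q : E ⟶ Y) (p' : (yon S).obj Y ⟶ X), RepWith @Etale p' ∧ EtC q ∧ IsFinite q.left ∧
      Y.left.IsSeparated ∧
      (∀ i, (yon S).map q ≫ p' = (yon S).map (π i) ≫ p) ∧ ∀ σ, act hE σ ≫ q = q := by
  let i₀ : ι := Classical.arbitrary ι
  let b : (yon S).obj E ⟶ X := (yon S).map (π i₀) ≫ p
  have hb : ∀ i, (yon S).map (π i) ≫ p = b := fun i => hE.w i i₀
  have hbe : RepWith @Etale b := MorphismProperty.comp_mem _ _ _ ((repWith_yon_map_iff _ _).2 (hU i₀).1) hp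
  obtain ⟨R', r1, r2, hR⟩ := exists_gr hX hbe
  have hrel := isERel hE hR hb
  have hs : Mor2.IsFinLocFree (ss hE) := ⟨Groth.Agent.Sga1.SigmaFinite.isFinite_sigmaDesc _,
    IsZariskiLocalAtSource.sigmaDesc (P := @Flat) (fun i => inferInstance),
    IsZariskiLocalAtSource.sigmaDesc (P := @LocallyOfFinitePresentation) (fun i => inferInstance)⟩
  obtain ⟨he0, hs0⟩ := hU i₀
  have hAF : ∀ F : Set E.left, F.Finite → ∃ V : E.left.Opens, IsAffineOpen V ∧ F ⊆ (V : Set E.left) := by
    intro F hF
    have := locallyQuasiFinite_of_etale (π i₀).left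
    obtain ⟨V, hV, hFV⟩ := Groth.Agent.S0411.result (π i₀).left hF.toFinset
    exact ⟨V, hV, fun x hx => hFV x (hF.mem_toFinset.2 hx)⟩
  obtain ⟨Y, q, pY, hq1, hq2, hq3, hq4⟩ := Groth.Agent.Sga3.H8.FinQuot.exists_quotient E.hom (tt hE) (ss hE) hrel
    (tt_over hE) hs hAF
  let Y' : Over S := Over.mk pY
  let q' : E ⟶ Y' := Over.homMk q hq3
  have hqf : FpC q' := ⟨hq1.2.1, hq1.2.2, hq2⟩
  have hqact : ∀ σ, act hE σ ≫ q' = q' := by
    intro σ
    ext1
    change (act hE σ).left ≫ q = q
    have := (hq4 (act hE σ).left (𝟙 _)).2 ⟨(act hE σ).left ≫ Sigma.ι (fun _ : Equiv.Perm ι => E.left) σ⁻¹, by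
      rw [Category.assoc, Sigma.ι_desc, Category.comp_id], by
      rw [Category.assoc, Sigma.ι_desc, ← Over.comp_left, act_comp, mul_inv_cancel, act_one]; rfl⟩
    rw [this, Category.id_comp]
  obtain ⟨p', hp', -⟩ := hqf.glue b (fun R a c hac => by
    refine b_of_rel hE hR hb ?_
    exact (hq4 _ _).1 (congrArg (·.left) hac))
  -- `q` is étale
  have hqet : Etale q := by
    have := hq1.2.1
    have := hq1.2.2
    have sq : IsPullback (tt hE) (ss hE) q q := by
      refine isPullback_of_exists ((hq4 _ _).2 ⟨𝟙 _, Category.id_comp _, Category.id_comp _⟩) hrel.mono ?_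
      intro T a c hac
      exact (hq4 _ _).1 hac
    have h1 : Etale (tt hE) := IsZariskiLocalAtSource.sigmaDesc (P := @Etale) (fun i => inferInstance)
    exact MorphismProperty.of_isPullback_of_descendsAlong (P := @Etale) (Q := fppf) sq
      ⟨⟨hq2, ‹_›⟩, ‹_›⟩ h1
  have hqe : EtC q' := ⟨hqet, hq2⟩
  have hqfin : IsFinite q := hq1.1
  refine ⟨Y', q', p', ?_, hqe, hqfin, ?_, fun i => ?_, hqact⟩
  · -- étaleness of `p'`
    refine ⟨Functor.relativelyRepresentable.of_diag hX p', fun T V g fst snd sq => ?_⟩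
    obtain ⟨fst, rfl⟩ := (yon S).map_surjective fst
    -- base change of `q'` to `V`
    have sq1 := IsPullback.of_hasPullback q' fst
    have hW : EtC (pullback.snd q' fst) := hqe.of_isPullback sq1
    have sq2 := (sq1.map (yon S)).flip.paste_horiz sq.flip
    rw [hp', ← Functor.map_comp] at sq2
    have h1 : Etale ((pullback.snd q' fst).left ≫ snd.left) := hbe.2 g _ _ sq2.flip
    exact etale_of_comp _ _ hW.etale hW.surj h1
  · -- separatedness
    have h1 : IsSeparated (terminal.from E.left) := by
      have h2 : IsSeparated ((π i₀).left ≫ terminal.from U.left) := inferInstance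
      rwa [terminal.comp_from] at h2
    have h3 : IsSeparated (q ≫ terminal.from Y) := by
      rwa [terminal.comp_from]
    have h4 : IsSeparated (terminal.from Y) := Groth.Agent.Etrest.ProperOver.isSeparated_of_surjective q _
    exact ⟨h4⟩
  · rw [hp', hb]

end K594.ConfQ
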