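import Groth.Agent.AlgSp.K594.FamRep
import Groth.Agent.AlgSp.K594.Local

/-!
# Coproducts of fppf sheaves of sets

`c : Cofan F`, `hc : IsColimit c` in `Sp S`.
* `exists_local` : sections of the coproduct come locally from the summands;
* `inj_eq` : the coprojections are injective on sections and disjoint;
* `repWith_inj` : the coprojections are representable by open and closed immersions.
-/

set_option autoImplicit false
set_option backward.isDefEq.respectTransparency.types false
universe u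
open CategoryTheory CategoryTheory.Limits AlgebraicGeometry Opposite AlgSp

namespace K594.Coprod

open K594.Elem K594.Cover K594.Basic K594.FppfRep K594.FamRep

variable {S : Scheme.{u}} {ι : Type u} (F : ι → Sp S)

/-- the presheaf coproduct -/
def pre : (Over S)ᵒᵖ ⥤ Type (u + 1) where
  obj T := Σ i, (F i).obj.obj T
  map g := ↾fun x => ⟨x.1, (F x.1).obj.map g x.2⟩
  map_id T := by
    apply ConcreteCategory.hom_ext
    rintro ⟨i, x⟩
    change (⟨i, (F i).obj.map (𝟙 _) x⟩ : Σ i, (F i).obj.obj T) = ⟨i, x⟩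
    rw [(F i).obj.map_id]
    rfl
  map_comp f g := by
    apply ConcreteCategory.hom_ext
    rintro ⟨i, x⟩
    change (⟨i, (F i).obj.map (f ≫ g) x⟩ : Σ i, (F i).obj.obj _) =
      ⟨i, (F i).obj.map g ((F i).obj.map f x)⟩
    rw [(F i).obj.map_comp]
    rfl

/-- the coproduct sheaf -/
noncomputable abbrev C : Sp S := (presheafToSheaf (J S) (Type (u + 1))).obj (pre F)

noncomputable abbrev η : pre F ⟶ (C F).obj := toSheafify (J S) (pre F)

/-- the summands of the presheaf coproduct -/
def preι (i : ι) : (F i).obj ⟶ pre F where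
  app T := ↾fun x => (⟨i, x⟩ : Σ i, (F i).obj.obj T)
  naturality _ _ _ := rfl

/-- the coprojections -/
noncomputable def κ (i : ι) : F i ⟶ C F := ⟨preι F i ≫ η F⟩

theorem κ_app (i : ι) {T : Over S} (x : (F i).obj.obj (op T)) :
    (κ F i).hom.app (op T) x = (η F).app (op T) (⟨i, x⟩ : Σ i, (F i).obj.obj (op T)) := rfl

theorem pre_map {T T' : Over S} (g : T' ⟶ T) (i : ι) (x : (F i).obj.obj (op T)) :
    (pre F).map g.op (⟨i, x⟩ : Σ i, (F i).obj.obj (op T)) =
      (⟨i, (F i).obj.map g.op x⟩ : Σ i, (F i).obj.obj (op T')) := rfl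

variable {F}

/-- maps out of the presheaf coproduct -/
def preDesc {G : Sp S} (g : ∀ i, F i ⟶ G) : pre F ⟶ G.obj where
  app T := ↾fun x => (g x.1).hom.app T x.2
  naturality T T' f := by
    ext ⟨i, x⟩
    exact NatTrans.naturality_apply (g i).hom f x

/-- maps out of the coproduct sheaf -/
noncomputable def desc {G : Sp S} (g : ∀ i, F i ⟶ G) : C F ⟶ G :=
  ⟨sheafifyLift (J S) (preDesc g) G.property⟩

theorem κ_desc {G : Sp S} (g : ∀ i, F i ⟶ G) (i : ι) : κ F i ≫ desc g = g i := by
  apply hom_ext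
  intro T x
  have h := toSheafify_sheafifyLift (J S) (preDesc g) G.property
  have h1 := congrArg (fun k => k.app (op T) (⟨i, x⟩ : Σ i, (F i).obj.obj (op T))) h
  exact h1

variable {c : Cofan F} (hc : IsColimit c)
include hc

/-- Sections of the coproduct come locally from the summands. -/
theorem exists_local {T : Over S} (z : c.pt.obj.obj (op T)) : ∃ (κ' : Type u) (V : κ' → Over S)
    (g : ∀ k, V k ⟶ T) (_ : Fam g) (i : κ' → ι) (x : ∀ k, (F (i k)).obj.obj (op (V k))),
    ∀ k, (c.inj (i k)).hom.app (op (V k)) (x k) = c.pt.obj.map (g k).op z := by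
  let θ : C F ⟶ c.pt := desc (fun i => c.inj i)
  let δ : c.pt ⟶ C F := Cofan.IsColimit.desc hc (fun i => κ F i)
  have h1 : δ ≫ θ = 𝟙 _ := by
    apply Cofan.IsColimit.hom_ext hc
    intro i
    have h2 : c.inj i ≫ δ = κ F i := Cofan.IsColimit.fac hc _ i
    rw [← Category.assoc, h2, κ_desc]
    exact (Category.comp_id _).symm
  have h3 : Presheaf.IsLocallySurjective (J S) (η F) := inferInstance
  obtain ⟨κ', V, g, hg, hR⟩ := exists_fam_of_mem (h3.imageSieve_mem (δ.hom.app (op T) z))
  choose x hx using hR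
  refine ⟨κ', V, g, hg, fun k => (x k).1, fun k => (x k).2, fun k => ?_⟩
  have h4 : (c.inj (x k).1).hom.app (op (V k)) (x k).2 =
      θ.hom.app (op (V k)) ((κ F (x k).1).hom.app (op (V k)) (x k).2) := by
    rw [← comp_app, κ_desc]
  rw [h4, κ_app]
  have h5 : (η F).app (op (V k)) (x k) = (C F).obj.map (g k).op (δ.hom.app (op T) z) := hx k
  have h6 : (⟨(x k).1, (x k).2⟩ : Σ i, (F i).obj.obj (op (V k))) = x k := rfl
  rw [h6, h5, ← app_map, ← comp_app, h1]
  rfl

/-- The coprojections are jointly injective on sections, locally. -/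
theorem exists_fam_of_inj_eq {T : Over S} {i j : ι} (x : (F i).obj.obj (op T))
    (y : (F j).obj.obj (op T)) (h : (c.inj i).hom.app (op T) x = (c.inj j).hom.app (op T) y) :
    ∃ (κ' : Type u) (V : κ' → Over S) (g : ∀ k, V k ⟶ T) (_ : Fam g), ∀ k,
      (⟨i, (F i).obj.map (g k).op x⟩ : Σ i, (F i).obj.obj (op (V k))) =
        ⟨j, (F j).obj.map (g k).op y⟩ := by
  let δ : c.pt ⟶ C F := Cofan.IsColimit.desc hc (fun i => κ F i)
  have h2 : ∀ i, c.inj i ≫ δ = κ F i := fun i => Cofan.IsColimit.fac hc _ i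
  have h1 : (η F).app (op T) (⟨i, x⟩ : Σ i, (F i).obj.obj (op T)) =
      (η F).app (op T) (⟨j, y⟩ : Σ i, (F i).obj.obj (op T)) := by
    rw [← κ_app, ← κ_app, ← h2, ← h2, comp_app, comp_app, h]
  obtain ⟨κ', V, g, hg, hR⟩ := exists_fam_of_mem (Presheaf.equalizerSieve_mem (J S) (η F) _ _ h1)
  exact ⟨κ', V, g, hg, fun k => hR k⟩

theorem inj_injective {T : Over S} {i : ι} (x y : (F i).obj.obj (op T))
    (h : (c.inj i).hom.app (op T) x = (c.inj i).hom.app (op T) y) : x = y := by
  obtain ⟨κ', V, g, hg, hk⟩ := exists_fam_of_inj_eq hc x y h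
  apply hg.ext
  intro k
  have := hk k
  simpa using this

theorem isEmpty_of_inj_eq {T : Over S} {i j : ι} (hij : i ≠ j) (x : (F i).obj.obj (op T))
    (y : (F j).obj.obj (op T)) (h : (c.inj i).hom.app (op T) x = (c.inj j).hom.app (op T) y) :
    IsEmpty T.left := by
  obtain ⟨κ', V, g, hg, hk⟩ := exists_fam_of_inj_eq hc x y h
  refine ⟨fun t => ?_⟩
  obtain ⟨k, -, -⟩ := hg.surj t
  exact hij (congrArg Sigma.fst (hk k))

/-- the class of open and closed immersions -/
abbrev Clopen : MorphismProperty Scheme.{u} := @IsOpenImmersion ⊓ @IsClosedImmersion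

omit hc in
instance clopen_local : Clopen.{u}.IsLocalAtTarget Scheme.fppfPrecoverage := by
  have := Local.isOpenImmersion.{u}
  have := Local.isClosedImmersion.{u}
  exact MorphismProperty.IsLocalAtTarget.inf _ _

omit hc in
theorem clopen_slqf : Clopen.{u} ≤ Slqf := by
  rintro X Y f ⟨h1, h2⟩
  exact ⟨inferInstance, inferInstance, inferInstance⟩

omit hc in
theorem isRep_empty {G H : Sp S} (f : G ⟶ H) {T E : Over S} [IsEmpty E.left] (v : E ⟶ T)
    (y : H.obj.obj (op T)) (ξ : G.obj.obj (op E))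
    (h : ∀ {T' : Over S} (t : T' ⟶ T) (x : G.obj.obj (op T')),
      f.hom.app (op T') x = H.obj.map t.op y → IsEmpty T'.left) : IsRep f y v ξ where
  w := (subsingleton_of_isEmpty H E).elim _ _
  inj {Z} a b _ _ := by
    have : IsEmpty Z.left := ⟨fun z => IsEmpty.false (a.left z)⟩
    have := (subsingleton_of_isEmpty ((yon S).obj E) Z).elim ⟨a⟩ ⟨b⟩
    exact congrArg ULift.down this
  lift {T'} t x hx := by
    have := h t x hx
    have h1 : IsInitial T'.left := isInitialOfIsEmpty
    have hv : h1.to E.left ≫ v.left = t.left := h1.hom_ext _ _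
    refine ⟨Over.homMk (h1.to _) (h1.hom_ext _ _), ?_, (subsingleton_of_isEmpty G T').elim _ _⟩
    ext
    exact hv

/-- The coprojections are representable by open and closed immersions. -/
theorem repWith_inj (i : ι) : RepWith Clopen.{u} (c.inj i) := by
  apply repWith_of_fam Clopen.{u} clopen_slqf.{u}
  intro T z
  obtain ⟨κ', V, g, hg, j, x, hx⟩ := exists_local hc z
  refine ⟨κ', V, g, hg, fun k => ?_⟩
  by_cases hij : j k = i
  · obtain ⟨jk, hjk⟩ : ∃ jk, jk = j k := ⟨_, rfl⟩
    have hxk := hx k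
    obtain ⟨xk, hxk'⟩ : ∃ xk : (F i).obj.obj (op (V k)), (c.inj i).hom.app (op (V k)) xk =
        c.pt.obj.map (g k).op z := by
      revert hxk
      generalize x k = w
      revert w
      rw [hij]
      intro w hw
      exact ⟨w, hw⟩
    refine ⟨V k, 𝟙 _, xk, ⟨?_, fun {Z} a b h _ => ?_, fun {Z} t y hy => ?_⟩, ?_⟩
    · rw [hxk', map_id_apply]
    · simpa using h
    · refine ⟨t, Category.comp_id _, ?_⟩
      apply inj_injective hc
      rw [app_map, hxk', hy]
    · exact ⟨inferInstanceAs (IsOpenImmersion (𝟙 (V k).left)),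
        inferInstanceAs (IsClosedImmersion (𝟙 (V k).left))⟩
  · let E : Over S := Over.mk (Scheme.emptyTo S)
    have hE : IsEmpty E.left := inferInstanceAs (IsEmpty (∅ : Scheme.{u}))
    let v : E ⟶ V k := Over.homMk (Scheme.emptyTo _) (emptyIsInitial.hom_ext _ _)
    have : Subsingleton ((F i).obj.obj (op E)) := subsingleton_of_isEmpty (F i) E
    obtain ⟨ξ⟩ : Nonempty ((F i).obj.obj (op E)) := by
      have h : Fam (T := E) (fun i : PEmpty.{u + 1} => (PEmpty.elim i : (PEmpty.elim i : Over S) ⟶ E)) :=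
        { flat := fun i => i.elim
          lfp := fun i => i.elim
          surj := fun t => (IsEmpty.false t).elim }
      obtain ⟨t, -, -⟩ := h.glue (F i) (fun i => i.elim) (fun i => i.elim)
      exact ⟨t⟩
    refine ⟨E, v, ξ, isRep_empty _ v _ ξ ?_, ?_⟩
    · intro T' t y hy
      apply isEmpty_of_inj_eq hc (Ne.symm hij) y ((F (j k)).obj.map t.op (x k))
      rw [hy, app_map, hx]
    · exact ⟨inferInstance, inferInstance⟩

/-- The family of coprojections is jointly locally surjective. -/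
theorem isLocallySurjective_desc {G : Sp S} (f : ∀ i, F i ⟶ G)
    (h : ∀ {T : Over S} (y : G.obj.obj (op T)), ∃ (κ' : Type u) (V : κ' → Over S)
      (g : ∀ k, V k ⟶ T) (_ : Fam g) (i : κ' → ι) (x : ∀ k, (F (i k)).obj.obj (op (V k))),
      ∀ k, (f (i k)).hom.app (op (V k)) (x k) = G.obj.map (g k).op y) :
    Sheaf.IsLocallySurjective (Cofan.IsColimit.desc hc f) := by
  constructor
  intro T y
  obtain ⟨κ', V, g, hg, i, x, hx⟩ := h y
  refine (J S).superset_covering ?_ hg.mem
  rw [Sieve.ofArrows, Sieve.generate_le_iff]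
  rintro _ _ ⟨k⟩
  refine ⟨(c.inj (i k)).hom.app _ (x k), ?_⟩
  have h1 : c.inj (i k) ≫ Cofan.IsColimit.desc hc f = f (i k) := Cofan.IsColimit.fac hc _ _
  change (Cofan.IsColimit.desc hc f).hom.app _ _ = _
  rw [← comp_app, h1]
  exact hx k

theorem exists_local_of_desc {G : Sp S} (f : ∀ i, F i ⟶ G)
    (h : Sheaf.IsLocallySurjective (Cofan.IsColimit.desc hc f)) {T : Over S}
    (y : G.obj.obj (op T)) : ∃ (κ' : Type u) (V : κ' → Over S)
      (g : ∀ k, V k ⟶ T) (_ : Fam g) (i : κ' → ι) (x : ∀ k, (F (i k)).obj.obj (op (V k))),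
      ∀ k, (f (i k)).hom.app (op (V k)) (x k) = G.obj.map (g k).op y := by
  obtain ⟨T', g, z, hg, hz⟩ := (isLocallySurjective_iff _).1 h T y
  obtain ⟨κ', V, g', hg', i, x, hx⟩ := exists_local hc z
  refine ⟨κ', V, fun k => g' k ≫ g, ⟨fun k => ?_, fun k => ?_, fun t => ?_⟩, i, x, fun k => ?_⟩
  · have := hg.flat
    have := hg'.flat k
    rw [Over.comp_left]
    infer_instance
  · have := hg.lfp
    have := hg'.lfp k
    rw [Over.comp_left]
    infer_instance
  · obtain ⟨t', rfl⟩ := hg.surj.surj t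
    obtain ⟨k, v, rfl⟩ := hg'.surj t'
    exact ⟨k, v, by rw [Over.comp_left, Scheme.Hom.comp_apply]⟩
  · have h1 : c.inj (i k) ≫ Cofan.IsColimit.desc hc f = f (i k) := Cofan.IsColimit.fac hc _ _
    rw [← h1, comp_app, hx, app_map, hz, map_comp_apply]

end K594.Coprod
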