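import Groth.Agent.AlgSp.K594.Atlas

/-!
# Decomposition of a representable coproduct
-/

set_option autoImplicit false
set_option backward.isDefEq.respectTransparency.types false
universe u
open CategoryTheory CategoryTheory.Limits AlgebraicGeometry Opposite AlgSp

namespace K594.CoprodSch

open K594.Elem K594.Cover K594.Basic K594.FppfRep K594.FamRep

variable {S : Scheme.{u}}

/-- a map to `h_U` which is representable has representable source -/
theorem exists_iso_of_representable {F : Sp S} {U : Over S} (f : F ⟶ (yon S).obj U)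
    (h : Representable f) : ∃ (V : Over S) (g : V ⟶ U) (e : (yon S).obj V ≅ F),
      e.hom ≫ f = (yon S).map g := by
  obtain ⟨V, g, p, hp⟩ := h (𝟙 _)
  have : IsIso p := hp.isIso_fst_of_isIso
  exact ⟨V, g, asIso p, by rw [asIso_hom, hp.w, Category.comp_id]⟩

theorem decomp (U : Over S) {ι : Type u}
    (F : ι → AlgSp.Sp S) (c : Cofan F) (hc : IsColimit c) (e : c.pt ≅ (AlgSp.yon S).obj U) :
    ∃ (V : ι → Over S) (g : ∀ i, V i ⟶ U) (ei : ∀ i, (AlgSp.yon S).obj (V i) ≅ F i),
      (∀ i, IsOpenImmersion (g i).left ∧ IsClosedImmersion (g i).left) ∧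
      (∀ i, (ei i).hom ≫ c.inj i ≫ e.hom = (AlgSp.yon S).map (g i)) ∧
      Nonempty (IsColimit (Cofan.mk U.left (fun i => (g i).left))) := by
  have h1 : ∀ i, RepWith (@IsOpenImmersion ⊓ @IsClosedImmersion) (c.inj i ≫ e.hom) := fun i =>
    MorphismProperty.RespectsIso.postcomp _ _ _ (Coprod.repWith_inj hc i)
  choose V g ei hei using fun i => exists_iso_of_representable (c.inj i ≫ e.hom) (h1 i).1
  have h2 : ∀ i, IsOpenImmersion (g i).left ∧ IsClosedImmersion (g i).left := by
    intro i
    have h3 : RepWith (@IsOpenImmersion ⊓ @IsClosedImmersion) ((yon S).map (g i)) := by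
      rw [← hei]
      exact MorphismProperty.RespectsIso.precomp _ _ _ (h1 i)
    exact (repWith_yon_map_iff _ _).1 h3
  refine ⟨V, g, ei, h2, hei, ?_⟩
  have := fun i => (h2 i).1
  refine nonempty_isColimit_cofanMk_of _ ?_ ?_
  · rw [eq_top_iff]
    intro x _
    obtain ⟨κ', W, w, hw, j, y, hy⟩ := Coprod.exists_local hc (e.inv.hom.app (op U) ⟨𝟙 U⟩)
    obtain ⟨k, z, rfl⟩ := hw.surj x
    -- `w k` factors through `g (j k)`
    have h4 : ∃ l : W k ⟶ V (j k), l ≫ g (j k) = w k := by
      let l := (ei (j k)).inv.hom.app _ (y k)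
      refine ⟨l.down, ?_⟩
      have h5 : ((yon S).map (g (j k))).hom.app (op (W k)) l = ⟨w k⟩ := by
        rw [← hei, comp_app]
        have h6 : (ei (j k)).hom.hom.app (op (W k)) l = y k := by
          change (ei (j k)).hom.hom.app (op (W k)) ((ei (j k)).inv.hom.app _ (y k)) = _
          rw [← comp_app, Iso.inv_hom_id]
          rfl
        rw [h6, comp_app, hy, app_map, ← comp_app, Iso.inv_hom_id]
        have h7 : w k ≫ 𝟙 U = w k := Category.comp_id _
        exact congrArg ULift.up h7
      exact congrArg ULift.down h5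
    obtain ⟨l, hl⟩ := h4
    simp only [TopologicalSpace.Opens.mem_iSup]
    refine ⟨j k, l.left z, ?_⟩
    rw [← Scheme.Hom.comp_apply, ← Over.comp_left, hl]
  · intro i j hij
    rw [Function.onFun, disjoint_iff, eq_bot_iff]
    rintro x ⟨⟨y, hy⟩, ⟨z, hz⟩⟩
    -- the fibre product is empty
    obtain ⟨p, -, -⟩ := Scheme.Pullback.exists_preimage_pullback (f := (g i).left)
      (g := (g j).left) y z (hy.trans hz.symm)
    let P : Over S := pullback (g i) (g j)
    have hP : IsEmpty P.left := by
      apply Coprod.isEmpty_of_inj_eq hc hij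
        ((ei i).hom.hom.app (op P) ⟨pullback.fst (g i) (g j)⟩)
        ((ei j).hom.hom.app (op P) ⟨pullback.snd (g i) (g j)⟩)
      have h6 : ∀ {T : Over S} (a b : c.pt.obj.obj (op T)), e.hom.hom.app (op T) a =
          e.hom.hom.app (op T) b → a = b := by
        intro T a b hab
        have := congrArg (e.inv.hom.app (op T)) hab
        rw [← comp_app, ← comp_app, Iso.hom_inv_id] at this
        exact this
      apply h6
      rw [← comp_app, ← comp_app, ← comp_app, ← comp_app, hei, hei]
      have h7 : pullback.fst (g i) (g j) ≫ g i = pullback.snd (g i) (g j) ≫ g j :=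
        pullback.condition
      exact congrArg ULift.up h7
    have sq : IsPullback (pullback.fst (g i) (g j)).left (pullback.snd (g i) (g j)).left
        (g i).left (g j).left := (IsPullback.of_hasPullback (g i) (g j)).map (Over.forget S)
    exact hP.false (sq.isoPullback.inv p)

end K594.CoprodSch
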