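import Groth.Agent.AlgSp.K594.Elem
import Groth.Agent.Desc.SecPresheaf
import Groth.Agent.Picfga.OverRep

/-!
# Gluing of sections of fppf sheaves, elementwise

* `Fam g` : a small family `g i : V i ⟶ T` of flat, locally finitely presented, jointly surjective maps
  over `S`; `Fam.glue`: sections glue uniquely.
* `exists_fam_of_mem` : every covering sieve contains such a family.
* `Cov g` : `g : T' ⟶ T` is flat, locally of finite presentation and surjective; `isDesc`.
* `isZarSheaf` : Zariski gluing.
* `sig V` : the disjoint union of a small family in `Over S`; `exists_sig`.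
* `isLocallySurjective_iff` : local surjectivity through one `Cov`.
-/

set_option autoImplicit false
set_option backward.isDefEq.respectTransparency.types false
universe u
open CategoryTheory CategoryTheory.Limits AlgebraicGeometry Opposite AlgSp

namespace K594.Cover

open K594.Elem

variable {S : Scheme.{u}}

/-- fppf covering families over `S` -/
structure Fam {T : Over S} {ι : Type u} {V : ι → Over S} (g : ∀ i, V i ⟶ T) : Prop where
  flat : ∀ i, Flat (g i).left
  lfp : ∀ i, LocallyOfFinitePresentation (g i).left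
  surj : ∀ t : T.left, ∃ (i : ι) (v : (V i).left), (g i).left v = t

/-- fppf covering morphisms over `S` -/
structure Cov {T T' : Over S} (g : T' ⟶ T) : Prop where
  flat : Flat g.left
  lfp : LocallyOfFinitePresentation g.left
  surj : Surjective g.left

theorem Cov.fam {T T' : Over S} {g : T' ⟶ T} (h : Cov g) :
    Fam (fun _ : PUnit.{u + 1} => g) where
  flat _ := h.flat
  lfp _ := h.lfp
  surj t := by
    obtain ⟨v, hv⟩ := h.surj.surj t
    exact ⟨PUnit.unit, v, hv⟩

/-- The sieve generated by an fppf covering family is covering. -/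
theorem Fam.mem {T : Over S} {ι : Type u} {V : ι → Over S} {g : ∀ i, V i ⟶ T} (h : Fam g) :
    Sieve.ofArrows V g ∈ J S T := by
  rw [GrothendieckTopology.mem_over_iff, Sieve.overEquiv_ofArrows]
  refine Precoverage.generate_mem_toGrothendieck ?_
  change _ ∈ Scheme.precoverage _ T.left
  rw [Scheme.ofArrows_mem_precoverage_iff]
  exact ⟨fun t => h.surj t, fun i => ⟨h.flat i, h.lfp i⟩⟩

theorem isMultiplicative_flat_lfp :
    (@Flat ⊓ @LocallyOfFinitePresentation : MorphismProperty Scheme.{u}).IsMultiplicative where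
  id_mem _ := ⟨inferInstance, inferInstance⟩
  comp_mem _ _ := fun ⟨_, _⟩ ⟨_, _⟩ => ⟨inferInstance, inferInstance⟩

theorem exists_fam_of_mem {T : Over S} {R : Sieve T} (hR : R ∈ J S T) :
    ∃ (ι : Type u) (V : ι → Over S) (g : ∀ i, V i ⟶ T), Fam g ∧ ∀ i, R (g i) := by
  rw [GrothendieckTopology.mem_over_iff] at hR
  have := isMultiplicative_flat_lfp.{u}
  obtain ⟨𝒰, h⟩ := Scheme.mem_grothendieckTopology_iff (P := @Flat ⊓ @LocallyOfFinitePresentation).1 hR
  refine ⟨𝒰.I₀, fun i => Over.mk (𝒰.f i ≫ T.hom), fun i => Over.homMk (𝒰.f i) rfl, ⟨fun i => ?_,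
    fun i => ?_, fun t => ?_⟩, fun i => ?_⟩
  · exact (𝒰.map_prop i).1
  · exact (𝒰.map_prop i).2
  · obtain ⟨i, y, hy⟩ := 𝒰.exists_eq t
    exact ⟨i, y, hy⟩
  · have := h _ _ (Presieve.ofArrows.mk i)
    rwa [Sieve.overEquiv_iff] at this

/-- The elementary gluing property for covering families. -/
theorem Fam.glue {T : Over S} {ι : Type u} {V : ι → Over S} {g : ∀ i, V i ⟶ T} (h : Fam g)
    (F : Sp S) (x : ∀ i, F.obj.obj (op (V i)))
    (hx : ∀ (i j : ι) (Z : Over S) (a : Z ⟶ V i) (b : Z ⟶ V j), a ≫ g i = b ≫ g j →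
      F.obj.map a.op (x i) = F.obj.map b.op (x j)) :
    ∃! t : F.obj.obj (op T), ∀ i, F.obj.map (g i).op t = x i := by
  have h1 : Presieve.IsSheaf (J S) F.obj := (isSheaf_iff_isSheaf_of_type _ _).1 F.property
  have h2 := h1 _ h.mem
  rw [Sieve.ofArrows, ← Presieve.isSheafFor_iff_generate, Presieve.isSheafFor_arrows_iff] at h2
  exact h2 x hx

theorem Fam.ext {T : Over S} {ι : Type u} {V : ι → Over S} {g : ∀ i, V i ⟶ T} (h : Fam g)
    (F : Sp S) {a b : F.obj.obj (op T)} (hab : ∀ i, F.obj.map (g i).op a = F.obj.map (g i).op b) :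
    a = b := by
  obtain ⟨t, ht, hu⟩ := h.glue F (fun i => F.obj.map (g i).op b) (fun i j Z p q hpq => by
    rw [← map_comp_apply, ← map_comp_apply, hpq])
  rw [hu a hab, hu b (fun _ => rfl)]

theorem Cov.ext {T T' : Over S} {g : T' ⟶ T} (h : Cov g) (F : Sp S) {a b : F.obj.obj (op T)}
    (hab : F.obj.map g.op a = F.obj.map g.op b) : a = b :=
  h.fam.ext F (fun _ => hab)

theorem Cov.glue {T T' : Over S} {g : T' ⟶ T} (h : Cov g) (F : Sp S) (x : F.obj.obj (op T'))
    (hx : ∀ (Z : Over S) (a b : Z ⟶ T'), a ≫ g = b ≫ g → F.obj.map a.op x = F.obj.map b.op x) :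
    ∃ t : F.obj.obj (op T), F.obj.map g.op t = x := by
  obtain ⟨t, ht, -⟩ := h.fam.glue F (fun _ => x) (fun _ _ Z a b hab => hx Z a b hab)
  exact ⟨t, ht PUnit.unit⟩

open Groth.Agent.Desc.SecPresheaf in
theorem Cov.isDesc {T T' : Over S} {g : T' ⟶ T} (h : Cov g) (F : Sp S) : IsDesc F.obj g where
  inj _ _ hab := h.ext F hab
  glue x hx := h.glue F x hx

open Groth.Agent.Picfga.OverRep in
theorem isZarSheaf (F : Sp S) : IsZarSheaf F.obj := by
  intro T 𝒰 x hx
  have h : Fam 𝒰.j :=
    { flat := fun i => inferInstance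
      lfp := fun i => inferInstance
      surj := 𝒰.covers }
  exact h.glue F x (fun i j Z a b hab => hx i j Z a b hab)

/-- The disjoint union of a small family of schemes over `S`. -/
noncomputable abbrev sig {ι : Type u} (V : ι → Over S) : Over S :=
  Over.mk (Sigma.desc fun i => (V i).hom)

noncomputable abbrev sigι {ι : Type u} (V : ι → Over S) (i : ι) : V i ⟶ sig V :=
  Over.homMk (Sigma.ι (fun i => (V i).left) i) (by simp)

/-- A map out of a disjoint union. -/
noncomputable abbrev sigDesc {ι : Type u} {V : ι → Over S} {T : Over S} (g : ∀ i, V i ⟶ T) :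
    sig V ⟶ T :=
  Over.homMk (Sigma.desc fun i => (g i).left) (by
    apply Sigma.hom_ext
    intro i
    simp)

@[reassoc (attr := simp)]
theorem sigι_desc {ι : Type u} {V : ι → Over S} {T : Over S} (g : ∀ i, V i ⟶ T) (i : ι) :
    sigι V i ≫ sigDesc g = g i := by
  ext
  simp

theorem sig_hom_ext {ι : Type u} {V : ι → Over S} {T : Over S} {a b : sig V ⟶ T}
    (h : ∀ i, sigι V i ≫ a = sigι V i ≫ b) : a = b := by
  ext
  apply Sigma.hom_ext
  intro i
  exact congrArg (fun k => k.left) (h i)

theorem sig_surj {ι : Type u} (V : ι → Over S) (t : (sig V).left) :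
    ∃ (i : ι) (v : (V i).left), (sigι V i).left v = t :=
  (sigmaOpenCover fun i => (V i).left).exists_eq t

theorem sig_fam {ι : Type u} (V : ι → Over S) : Fam (sigι V) where
  flat i := inferInstanceAs (Flat (Sigma.ι (fun i => (V i).left) i))
  lfp i := inferInstanceAs (LocallyOfFinitePresentation (Sigma.ι (fun i => (V i).left) i))
  surj := sig_surj V

theorem sig_disj {ι : Type u} (V : ι → Over S) {i j : ι} (hij : i ≠ j) {Z : Over S}
    (a : Z ⟶ V i) (b : Z ⟶ V j) (h : a ≫ sigι V i = b ≫ sigι V j) : IsEmpty Z.left := by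
  refine ⟨fun z => ?_⟩
  have h1 : (Sigma.ι (fun i => (V i).left) i) (a.left z) =
      (Sigma.ι (fun i => (V i).left) j) (b.left z) := by
    have := congrArg (fun k => k.left) h
    simp only [Over.comp_left, Over.homMk_left] at this
    rw [← Scheme.Hom.comp_apply, ← Scheme.Hom.comp_apply, this]
  have h2 := disjoint_opensRange_sigmaι (fun i => (V i).left) i j hij
  have h3 : (Sigma.ι (fun i => (V i).left) i) (a.left z) ∈
      (Scheme.Hom.opensRange (Sigma.ι (fun i => (V i).left) i) ⊓
      Scheme.Hom.opensRange (Sigma.ι (fun i => (V i).left) j)) :=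
    ⟨⟨_, rfl⟩, ⟨_, h1.symm⟩⟩
  rw [h2.eq_bot] at h3
  exact h3

/-- sections over an empty scheme are unique -/
theorem subsingleton_of_isEmpty (F : Sp S) (Z : Over S) [IsEmpty Z.left] :
    Subsingleton (F.obj.obj (op Z)) := by
  have h : Fam (T := Z) (fun i : PEmpty.{u + 1} => (PEmpty.elim i : (PEmpty.elim i : Over S) ⟶ Z)) :=
    { flat := fun i => i.elim
      lfp := fun i => i.elim
      surj := fun t => (IsEmpty.false t).elim }
  exact ⟨fun a b => h.ext F (fun i => i.elim)⟩

/-- Sections of a sheaf over a disjoint union. -/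
theorem exists_sig {ι : Type u} (V : ι → Over S) (F : Sp S) (x : ∀ i, F.obj.obj (op (V i))) :
    ∃! t : F.obj.obj (op (sig V)), ∀ i, F.obj.map (sigι V i).op t = x i := by
  apply (sig_fam V).glue
  intro i j Z a b hab
  by_cases hij : i = j
  · subst hij
    have : a = b := by
      ext
      have h1 := congrArg (fun k => k.left) hab
      simpa [cancel_mono] using h1
    rw [this]
  · have := sig_disj V hij a b hab
    exact (subsingleton_of_isEmpty F Z).elim _ _

/-- The disjoint union of the members of a covering family. -/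
theorem Fam.cov {T : Over S} {ι : Type u} {V : ι → Over S} {g : ∀ i, V i ⟶ T} (h : Fam g) :
    Cov (sigDesc g) where
  flat := by
    have := h.flat
    exact IsZariskiLocalAtSource.sigmaDesc (P := @Flat) (fun _ => inferInstance)
  lfp := by
    have := h.lfp
    exact IsZariskiLocalAtSource.sigmaDesc (P := @LocallyOfFinitePresentation)
      (fun _ => inferInstance)
  surj := ⟨fun t => by
    obtain ⟨i, v, hv⟩ := h.surj t
    refine ⟨(sigι V i).left v, ?_⟩
    rw [← Scheme.Hom.comp_apply, ← Over.comp_left, sigι_desc, hv]⟩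

theorem Cov.comp {T T' T'' : Over S} {g : T' ⟶ T} {h : T'' ⟶ T'} (hg : Cov g) (hh : Cov h) :
    Cov (h ≫ g) := by
  obtain ⟨_, _, _⟩ := hg
  obtain ⟨_, _, _⟩ := hh
  exact ⟨by rw [Over.comp_left]; infer_instance, by rw [Over.comp_left]; infer_instance,
    by rw [Over.comp_left]; infer_instance⟩

theorem Cov.id (T : Over S) : Cov (𝟙 T) :=
  ⟨by rw [Over.id_left]; infer_instance, by rw [Over.id_left]; infer_instance,
    by rw [Over.id_left]; infer_instance⟩

theorem Cov.of_isPullback {T T' U U' : Over S} {g : T' ⟶ T} {g' : U' ⟶ U} {h' : U' ⟶ T'}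
    {h : U ⟶ T} (sq : IsPullback h' g' g h) (hg : Cov g) : Cov g' := by
  have sq' := sq.map (Over.forget S)
  exact ⟨MorphismProperty.of_isPullback (P := @Flat) sq' hg.flat,
    MorphismProperty.of_isPullback (P := @LocallyOfFinitePresentation) sq' hg.lfp,
    MorphismProperty.of_isPullback (P := @Surjective) sq' hg.surj⟩

/-- Base change of a cover. -/
theorem Cov.exists_baseChange {T T' U : Over S} {g : T' ⟶ T} (hg : Cov g) (h : U ⟶ T) :
    ∃ (U' : Over S) (g' : U' ⟶ U) (h' : U' ⟶ T'), IsPullback h' g' g h ∧ Cov g' :=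
  ⟨_, _, _, IsPullback.of_hasPullback g h, Cov.of_isPullback (IsPullback.of_hasPullback g h) hg⟩

/-- A map of sheaves is locally surjective iff every section lifts after an fppf cover. -/
theorem isLocallySurjective_iff {F G : Sp S} (f : F ⟶ G) :
    Sheaf.IsLocallySurjective f ↔ ∀ (T : Over S) (y : G.obj.obj (op T)), ∃ (T' : Over S)
      (g : T' ⟶ T) (x : F.obj.obj (op T')), Cov g ∧ f.hom.app (op T') x = G.obj.map g.op y := by
  constructor
  · intro h T y
    have h1 := h.imageSieve_mem (U := T) y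
    obtain ⟨ι, V, g, hg, hR⟩ := exists_fam_of_mem h1
    choose x hx using hR
    obtain ⟨t, ht, -⟩ := exists_sig V F x
    refine ⟨sig V, sigDesc g, t, hg.cov, ?_⟩
    apply (sig_fam V).ext
    intro i
    rw [← app_map, ht, ← map_comp_apply, sigι_desc]
    exact hx i
  · intro h
    constructor
    intro T y
    obtain ⟨T', g, x, hg, hx⟩ := h T y
    refine (J S).superset_covering ?_ hg.fam.mem
    rw [Sieve.ofArrows, Sieve.generate_le_iff]
    rintro _ _ ⟨⟩
    exact ⟨x, hx⟩

end K594.Cover
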