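import Groth.Agent.AlgSp.K594.Bootstrap

/-!
# Properties of the diagonal from a presentation

* `prop_isEq_of_kernelPair` / `repWith_diag_of_kernelPair` : `q : h_U ⟶ F` locally surjective, `h_R = h_U ×_F h_U`;
  if `R ⟶ U × U` has `P` (fppf local on the target, stable under base change) then the diagonal of `F` has `P`
  (and conversely `prop_prod_lift_of_repWith_diag`).
* `repWith_diag_lft`, `repWith_diag_mono`, ... for algebraic spaces.
* `exists_presentation` : every algebraic space has a presentation.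
-/

set_option autoImplicit false
set_option backward.isDefEq.respectTransparency.types false
universe u
open CategoryTheory CategoryTheory.Limits AlgebraicGeometry Opposite AlgSp

namespace K594.DiagProp

open K594.Elem K594.Cover K594.Basic K594.Diag K594.FppfRep K594.Bootstrap

variable {S : Scheme.{u}}

theorem IsEq.exists_iso {F : Sp S} {U V V' : Over S} {a b : F.obj.obj (op U)} {v : V ⟶ U}
    {v' : V' ⟶ U} (h : IsEq a b v) (h' : IsEq a b v') : ∃ e : V ≅ V', e.hom ≫ v' = v := by
  obtain ⟨k, hk⟩ := h'.lift v h.eq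
  obtain ⟨l, hl⟩ := h.lift v' h'.eq
  refine ⟨⟨k, l, h.mono _ _ ?_, h'.mono _ _ ?_⟩, hk⟩
  · rw [Category.assoc, hl, hk, Category.id_comp]
  · rw [Category.assoc, hk, hl, Category.id_comp]

theorem prop_isEq_of_kernelPair (P : MorphismProperty Scheme.{u}) [P.IsStableUnderBaseChange]
    [P.IsLocalAtTarget Scheme.fppfPrecoverage] {F : Sp S} {U R : Over S} (q : (yon S).obj U ⟶ F)
    [Sheaf.IsLocallySurjective q] {s t : R ⟶ U}
    (h : IsPullback ((yon S).map t) ((yon S).map s) q q) (hP : P (prod.lift t s).left)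
    {T V : Over S} (a b : F.obj.obj (op T)) (v : V ⟶ T) (hv : IsEq a b v) : P v.left := by
  obtain ⟨T₁, g₁, ⟨x⟩, hg₁, hx⟩ := (isLocallySurjective_iff q).1 ‹_› T a
  obtain ⟨T₂, g₂, ⟨y⟩, hg₂, hy⟩ := (isLocallySurjective_iff q).1 ‹_› T₁ (F.obj.map g₁.op b)
  have hq : ∀ {Z : Over S} (z : Z ⟶ U), q.hom.app (op Z) ⟨z⟩ = F.obj.map z.op (secEquiv q) :=
    fun z => yonEquiv_apply q z
  have hx' : q.hom.app (op T₂) ⟨g₂ ≫ x⟩ = F.obj.map (g₂ ≫ g₁).op a := by
    rw [hq, map_comp_apply, ← hq, hx, ← map_comp_apply]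
  have hy' : q.hom.app (op T₂) ⟨y⟩ = F.obj.map (g₂ ≫ g₁).op b := by
    rw [hy, ← map_comp_apply]
  have sq := IsPullback.of_hasPullback (prod.lift t s) (prod.lift (g₂ ≫ x) y)
  have h1 := isEq_of_kernelPair h (g₂ ≫ x) y sq
  rw [hx', hy'] at h1
  have sq' := IsPullback.of_hasPullback v (g₂ ≫ g₁)
  have h2 := hv.baseChange sq'
  obtain ⟨e, he⟩ := IsEq.exists_iso h2 h1
  have h3 : P (pullback.snd (prod.lift t s) (prod.lift (g₂ ≫ x) y)).left :=
    MorphismProperty.of_isPullback (P := P) (sq.map (Over.forget S)) hP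
  have : P.RespectsIso := MorphismProperty.IsStableUnderBaseChange.respectsIso
  have h4 : P (pullback.snd v (g₂ ≫ g₁)).left := by
    rw [← he, Over.comp_left]
    exact (P.cancel_left_of_respectsIso _ _).mpr h3
  have hc := hg₁.comp hg₂
  have i1 := hc.flat
  have i2 := hc.lfp
  have i3 := hc.surj
  have sq3 : IsPullback (pullback.fst v (g₂ ≫ g₁)).left (pullback.snd v (g₂ ≫ g₁)).left v.left
    (g₂ ≫ g₁).left := sq'.map (Over.forget S)
  exact of_isPullback_cov P sq3 h4

/-- The diagonal of a sheaf from a covering with representable kernel pair. -/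
theorem repWith_diag_of_kernelPair (P : MorphismProperty Scheme.{u}) [P.IsStableUnderBaseChange]
    [P.IsLocalAtTarget Scheme.fppfPrecoverage] {F : Sp S} {U R : Over S} (q : (yon S).obj U ⟶ F)
    [Sheaf.IsLocallySurjective q] {s t : R ⟶ U}
    (h : IsPullback ((yon S).map t) ((yon S).map s) q q) (ht : LocallyOfFiniteType t.left)
    (hP : P (prod.lift t s).left) : RepWith P (Limits.diag F) := by
  rw [repWith_diag_iff]
  exact ⟨representable_diag_of_kernelPair q h ht,
    fun a b v hv => prop_isEq_of_kernelPair P q h hP a b v hv⟩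

/-- Every algebraic space has a presentation. -/
theorem exists_presentation {F : Sp S} (h : IsAlgSpace F) : ∃ (R U : Over S) (s t : R ⟶ U)
    (q : (yon S).obj U ⟶ F), IsPresentation s t q := by
  obtain ⟨U, q, he, hs⟩ := h.atlas
  obtain ⟨R, s, p, hp⟩ := he.1 q
  obtain ⟨t, rfl⟩ := (yon S).map_surjective p
  refine ⟨R, U, s, t, q, ⟨⟨?_, ?_⟩, he.2 _ _ _ hp, he.2 _ _ _ hp.flip⟩, he, hs, hp⟩
  · intro T r r' h1 h2
    obtain ⟨-, hinj, -⟩ := (isPullback_iff _ _ _ _).1 hp
    exact congrArg ULift.down (hinj T ⟨r⟩ ⟨r'⟩ (congrArg ULift.up h1) (congrArg ULift.up h2))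
  · intro T
    have key : ∀ a b : T ⟶ U, (∃ r : T ⟶ R, r ≫ t = a ∧ r ≫ s = b) ↔
        q.hom.app (op T) ⟨a⟩ = q.hom.app (op T) ⟨b⟩ := by
      intro a b
      obtain ⟨hw, -, hlift⟩ := (isPullback_iff _ _ _ _).1 hp
      constructor
      · rintro ⟨r, rfl, rfl⟩
        exact congrArg (fun k : (yon S).obj R ⟶ F => k.hom.app (op T) ⟨r⟩) hw
      · intro hab
        obtain ⟨⟨r⟩, h1, h2⟩ := hlift T ⟨a⟩ ⟨b⟩ hab
        exact ⟨r, congrArg ULift.down h1, congrArg ULift.down h2⟩
    simp only [key]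
    exact ⟨fun _ => rfl, fun h => h.symm, fun h h' => h.trans h'⟩

theorem repWith_diag_lft {F : Sp S} (h : IsAlgSpace F) :
    RepWith @LocallyOfFiniteType (Limits.diag F) := by
  obtain ⟨R, U, s, t, q, hq⟩ := exists_presentation h
  have := isLocallySurjective_of_etale q hq.etale hq.surjective
  have := Local.locallyOfFiniteType.{u}
  have := hq.eqvRel.etale_right
  exact repWith_diag_of_kernelPair _ q hq.isPullback inferInstance
    (lft_prod_lift s t inferInstance)

theorem repWith_diag_mono {F : Sp S} (h : Representable (Limits.diag F)) :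
    RepWith (MorphismProperty.monomorphisms Scheme.{u}) (Limits.diag F) := by
  rw [repWith_diag_iff]
  refine ⟨h, fun a b v hv => ?_⟩
  have := hv.mono'
  exact inferInstanceAs (Mono v.left)

theorem repWith_diag_slqf {F : Sp S} (h : IsAlgSpace F) : RepWith Slqf (Limits.diag F) := by
  rw [repWith_diag_iff]
  refine ⟨h.diag, fun a b v hv => ?_⟩
  have h1 := ((repWith_diag_iff _ _).1 (repWith_diag_lft h)).2 a b v hv
  have h2 : Mono v.left := ((repWith_diag_iff _ _).1 (repWith_diag_mono h.diag)).2 a b v hv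
  exact slqf_of_mono v.left

end K594.DiagProp
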