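import Groth.Prelude.Def_AlgSp
import Mathlib.CategoryTheory.Limits.Types.Pullbacks

/-!
# Elementwise toolkit for fppf sheaves of sets over a scheme

`F : Sp S`, sections `F.obj.obj (op T)`.

* `isPullback_iff` : pullback squares in `Sp S` through sections.
* `IsRep f y v ξ` : `v : V ⟶ U` together with `ξ ∈ F(V)` represents the pullback of `f : F ⟶ G` along
  the section `y ∈ G(U)`; `isRep_iff_isPullback`, `representable_iff`, `repWith_iff'`.
-/

set_option autoImplicit false
universe u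
open CategoryTheory CategoryTheory.Limits AlgebraicGeometry Opposite AlgSp

namespace K594.Elem

variable {S : Scheme.{u}}

/-- the value of a map of sheaves on a section commutes with restriction -/
theorem app_map {F G : Sp S} (f : F ⟶ G) {T T' : Over S} (g : T' ⟶ T) (x : F.obj.obj (op T)) :
    f.hom.app (op T') (F.obj.map g.op x) = G.obj.map g.op (f.hom.app (op T) x) :=
  NatTrans.naturality_apply f.hom g.op x

theorem comp_app {F G H : Sp S} (f : F ⟶ G) (g : G ⟶ H) {T : Over S} (x : F.obj.obj (op T)) :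
    (f ≫ g).hom.app (op T) x = g.hom.app (op T) (f.hom.app (op T) x) := rfl

theorem map_id_apply (F : Sp S) {T : Over S} (x : F.obj.obj (op T)) :
    F.obj.map (𝟙 T).op x = x := by
  rw [op_id, F.obj.map_id]; rfl

theorem map_comp_apply (F : Sp S) {T T' T'' : Over S} (g : T' ⟶ T) (h : T'' ⟶ T')
    (x : F.obj.obj (op T)) :
    F.obj.map (h ≫ g).op x = F.obj.map h.op (F.obj.map g.op x) := by
  rw [op_comp, F.obj.map_comp]; rfl

theorem map_eq_of_eq (F : Sp S) {T T' : Over S} {g h : T' ⟶ T} (e : g = h)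
    (x : F.obj.obj (op T)) : F.obj.map g.op x = F.obj.map h.op x := by rw [e]

theorem hom_ext {F G : Sp S} (f g : F ⟶ G)
    (h : ∀ (T : Over S) (x : F.obj.obj (op T)), f.hom.app (op T) x = g.hom.app (op T) x) : f = g := by
  apply ObjectProperty.hom_ext
  ext ⟨T⟩ x
  exact h T x

/-- Elementwise description of pullback squares in `Sp S`. -/
theorem isPullback_iff {P F G H : Sp S} (fst : P ⟶ F) (snd : P ⟶ G) (f : F ⟶ H) (g : G ⟶ H) :
    IsPullback fst snd f g ↔ fst ≫ f = snd ≫ g ∧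
      (∀ (T : Over S) (a b : P.obj.obj (op T)), fst.hom.app (op T) a = fst.hom.app (op T) b →
        snd.hom.app (op T) a = snd.hom.app (op T) b → a = b) ∧
      ∀ (T : Over S) (x : F.obj.obj (op T)) (y : G.obj.obj (op T)),
        f.hom.app (op T) x = g.hom.app (op T) y →
        ∃ z : P.obj.obj (op T), fst.hom.app (op T) z = x ∧ snd.hom.app (op T) z = y := by
  constructor
  · intro h
    have h' := h.map (sheafToPresheaf (J S) (Type (u + 1)))
    refine ⟨h.w, fun T a b h1 h2 => ?_, fun T x y hxy => ?_⟩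
    · have := (Types.isPullback_iff _ _ _ _).1 (h'.map ((evaluation _ _).obj (op T)))
      exact this.2.1 a b ⟨h1, h2⟩
    · have := (Types.isPullback_iff _ _ _ _).1 (h'.map ((evaluation _ _).obj (op T)))
      exact this.2.2 x y hxy
  · rintro ⟨w, h1, h2⟩
    have h' : IsPullback ((sheafToPresheaf (J S) (Type (u + 1))).map fst)
        ((sheafToPresheaf (J S) (Type (u + 1))).map snd)
        ((sheafToPresheaf (J S) (Type (u + 1))).map f)
        ((sheafToPresheaf (J S) (Type (u + 1))).map g) := by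
      apply IsPullback.of_forall_isPullback_app
      rintro ⟨T⟩
      rw [Types.isPullback_iff]
      refine ⟨?_, fun a b hab => h1 T a b hab.1 hab.2, h2 T⟩
      exact congrArg (fun k : P ⟶ H => k.hom.app (op T)) w
    exact IsPullback.of_map _ w h'

/-- `v : V ⟶ U` with `ξ ∈ F(V)` represents the pullback of `f : F ⟶ G` along `y ∈ G(U)`. -/
structure IsRep {F G : Sp S} (f : F ⟶ G) {U : Over S} (y : G.obj.obj (op U)) {V : Over S}
    (v : V ⟶ U) (ξ : F.obj.obj (op V)) : Prop where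
  w : f.hom.app (op V) ξ = G.obj.map v.op y
  inj : ∀ {T : Over S} (a b : T ⟶ V), a ≫ v = b ≫ v →
    F.obj.map a.op ξ = F.obj.map b.op ξ → a = b
  lift : ∀ {T : Over S} (t : T ⟶ U) (x : F.obj.obj (op T)),
    f.hom.app (op T) x = G.obj.map t.op y → ∃ k : T ⟶ V, k ≫ v = t ∧ F.obj.map k.op ξ = x

/-- Yoneda: maps `h_U ⟶ F` are sections of `F` over `U`. -/
noncomputable abbrev secEquiv {F : Sp S} {U : Over S} : ((yon S).obj U ⟶ F) ≃ F.obj.obj (op U) :=
  (J S).uliftYonedaEquiv.{u + 1}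

theorem yonEquiv_apply {F : Sp S} {U : Over S} (p : (yon S).obj U ⟶ F) {T : Over S}
    (t : T ⟶ U) : p.hom.app (op T) ⟨t⟩ = F.obj.map t.op (secEquiv p) :=
  ((J S).map_uliftYonedaEquiv p t).symm

theorem yonEquiv_symm_apply {F : Sp S} {U : Over S} (x : F.obj.obj (op U)) {T : Over S}
    (t : T ⟶ U) : (secEquiv.symm x).hom.app (op T) ⟨t⟩ = F.obj.map t.op x := by
  rw [yonEquiv_apply, Equiv.apply_symm_apply]

theorem isRep_iff_isPullback {F G : Sp S} (f : F ⟶ G) {U : Over S} (y : G.obj.obj (op U))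
    {V : Over S} (v : V ⟶ U) (ξ : F.obj.obj (op V)) :
    IsPullback (secEquiv.symm ξ) ((yon S).map v) f (secEquiv.symm y) ↔
      IsRep f y v ξ := by
  rw [isPullback_iff]
  constructor
  · rintro ⟨w, h1, h2⟩
    refine ⟨?_, fun {T} a b h h' => ?_, fun {T} t x hx => ?_⟩
    · have h := congrArg (fun k : (yon S).obj V ⟶ G => k.hom.app (op V) ⟨𝟙 V⟩) w
      change f.hom.app (op V) ((secEquiv.symm ξ).hom.app (op V) ⟨𝟙 V⟩) =
        (secEquiv.symm y).hom.app (op V) ⟨𝟙 V ≫ v⟩ at h
      rw [yonEquiv_symm_apply, yonEquiv_symm_apply, map_id_apply, Category.id_comp] at h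
      exact h
    · have := h1 T ⟨a⟩ ⟨b⟩ (by rw [yonEquiv_symm_apply, yonEquiv_symm_apply, h'])
        (congrArg ULift.up h)
      exact congrArg ULift.down this
    · obtain ⟨⟨k⟩, hk1, hk2⟩ := h2 T x ⟨t⟩ (by rw [yonEquiv_symm_apply, hx])
      refine ⟨k, congrArg ULift.down hk2, ?_⟩
      rw [yonEquiv_symm_apply] at hk1
      exact hk1
  · intro h
    refine ⟨?_, fun T a b h1 h2 => ?_, fun T x t hx => ?_⟩
    · apply hom_ext
      rintro T ⟨a⟩
      change f.hom.app (op T) ((secEquiv.symm ξ).hom.app (op T) ⟨a⟩) =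
        (secEquiv.symm y).hom.app (op T) ⟨a ≫ v⟩
      rw [yonEquiv_symm_apply, yonEquiv_symm_apply, app_map, h.w, map_comp_apply]
    · obtain ⟨a⟩ := a
      obtain ⟨b⟩ := b
      rw [yonEquiv_symm_apply, yonEquiv_symm_apply] at h1
      exact congrArg ULift.up (h.inj a b (congrArg ULift.down h2) h1)
    · obtain ⟨t⟩ := t
      rw [yonEquiv_symm_apply] at hx
      obtain ⟨k, hk1, hk2⟩ := h.lift t x hx
      exact ⟨⟨k⟩, by rw [yonEquiv_symm_apply, hk2], congrArg ULift.up hk1⟩

theorem isRep_of_isPullback {F G : Sp S} {f : F ⟶ G} {U V : Over S} {p : (yon S).obj V ⟶ F}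
    {v : V ⟶ U} {q : (yon S).obj U ⟶ G} (h : IsPullback p ((yon S).map v) f q) :
    IsRep f (secEquiv q) v (secEquiv p) := by
  rw [← isRep_iff_isPullback, Equiv.symm_apply_apply, Equiv.symm_apply_apply]
  exact h

theorem representable_iff {F G : Sp S} (f : F ⟶ G) :
    Representable f ↔ ∀ {U : Over S} (y : G.obj.obj (op U)), ∃ (V : Over S) (v : V ⟶ U)
      (ξ : F.obj.obj (op V)), IsRep f y v ξ := by
  constructor
  · intro h U y
    obtain ⟨V, v, p, hp⟩ := h (secEquiv.symm y)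
    have := isRep_of_isPullback hp
    rw [Equiv.apply_symm_apply] at this
    exact ⟨V, v, _, this⟩
  · intro h U q
    obtain ⟨V, v, ξ, hξ⟩ := h (secEquiv q)
    rw [← isRep_iff_isPullback, Equiv.symm_apply_apply] at hξ
    exact ⟨V, v, _, hξ⟩

/-- `RepWith P` through sections: one representing object for each section is enough. -/
theorem repWith_of_exists (P : MorphismProperty Scheme.{u}) [P.RespectsIso] {F G : Sp S}
    (f : F ⟶ G) (h : ∀ {U : Over S} (y : G.obj.obj (op U)), ∃ (V : Over S) (v : V ⟶ U)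
      (ξ : F.obj.obj (op V)), IsRep f y v ξ ∧ P v.left) : RepWith P f := by
  have : (P.inverseImage (Over.forget S)).RespectsIso := MorphismProperty.RespectsIso.inverseImage P _
  apply MorphismProperty.relative.of_exists
  intro U q
  obtain ⟨V, v, ξ, hξ, hP⟩ := h (secEquiv q)
  rw [← isRep_iff_isPullback, Equiv.symm_apply_apply] at hξ
  exact ⟨V, _, v, hξ, hP⟩

theorem RepWith.prop_of_isRep {P : MorphismProperty Scheme.{u}} {F G : Sp S} {f : F ⟶ G}
    (h : RepWith P f) {U V : Over S} {y : G.obj.obj (op U)} {v : V ⟶ U} {ξ : F.obj.obj (op V)}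
    (hξ : IsRep f y v ξ) : P v.left := by
  rw [← isRep_iff_isPullback] at hξ
  exact h.2 _ _ _ hξ

theorem repWith_iff' (P : MorphismProperty Scheme.{u}) {F G : Sp S} (f : F ⟶ G) :
    RepWith P f ↔ Representable f ∧ ∀ {U V : Over S} (y : G.obj.obj (op U)) (v : V ⟶ U)
      (ξ : F.obj.obj (op V)), IsRep f y v ξ → P v.left := by
  constructor
  · intro h
    exact ⟨h.1, fun y v ξ hξ => RepWith.prop_of_isRep h hξ⟩
  · rintro ⟨h1, h2⟩
    exact ⟨h1, fun U V q p v hp => h2 _ _ _ (isRep_of_isPullback hp)⟩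

theorem RepWith.exists_isRep {P : MorphismProperty Scheme.{u}} {F G : Sp S} {f : F ⟶ G}
    (h : RepWith P f) {U : Over S} (y : G.obj.obj (op U)) : ∃ (V : Over S) (v : V ⟶ U)
      (ξ : F.obj.obj (op V)), IsRep f y v ξ ∧ P v.left := by
  obtain ⟨V, v, ξ, hξ⟩ := (representable_iff f).1 h.1 y
  exact ⟨V, v, ξ, hξ, RepWith.prop_of_isRep h hξ⟩

/-- Base change of a representing object. -/
theorem IsRep.baseChange {F G : Sp S} {f : F ⟶ G} {U V : Over S} {y : G.obj.obj (op U)}
    {v : V ⟶ U} {ξ : F.obj.obj (op V)} (h : IsRep f y v ξ) {U' V' : Over S} {g : U' ⟶ U}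
    {v' : V' ⟶ U'} {g' : V' ⟶ V} (sq : IsPullback g' v' v g) :
    IsRep f (G.obj.map g.op y) v' (F.obj.map g'.op ξ) where
  w := by rw [app_map, h.w, ← map_comp_apply, ← map_comp_apply, sq.w]
  inj {T} a b h1 h2 := by
    apply sq.hom_ext _ h1
    apply h.inj
    · rw [Category.assoc, Category.assoc, sq.w, reassoc_of% h1]
    · rw [map_comp_apply, map_comp_apply, h2]
  lift {T} t x hx := by
    rw [← map_comp_apply] at hx
    obtain ⟨k, hk1, hk2⟩ := h.lift (t ≫ g) x hx
    refine ⟨sq.lift k t hk1, sq.lift_snd _ _ _, ?_⟩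
    rw [← map_comp_apply, sq.lift_fst, hk2]

/-- Two representing objects are canonically isomorphic. -/
theorem IsRep.exists_iso {F G : Sp S} {f : F ⟶ G} {U V V' : Over S} {y : G.obj.obj (op U)}
    {v : V ⟶ U} {ξ : F.obj.obj (op V)} (h : IsRep f y v ξ) {v' : V' ⟶ U} {ξ' : F.obj.obj (op V')}
    (h' : IsRep f y v' ξ') : ∃ e : V ≅ V', e.hom ≫ v' = v ∧ F.obj.map e.hom.op ξ' = ξ := by
  obtain ⟨a, ha1, ha2⟩ := h'.lift v ξ h.w
  obtain ⟨b, hb1, hb2⟩ := h.lift v' ξ' h'.w
  refine ⟨⟨a, b, ?_, ?_⟩, ha1, ha2⟩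
  · apply h.inj
    · rw [Category.assoc, hb1, ha1, Category.id_comp]
    · rw [map_comp_apply, hb2, ha2, map_id_apply]
  · apply h'.inj
    · rw [Category.assoc, ha1, hb1, Category.id_comp]
    · rw [map_comp_apply, ha2, hb2, map_id_apply]

end K594.Elem
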