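import Groth.Agent.AlgSp.K594.Fib

/-!
# Equivalence relations: restriction, and the relation of an atlas

* `prod_map_mem`
* `isEqvRel_restrict`, `isEtaleEqvRel_restrict`
* `isEqvRel_of_isPullback`
-/

set_option autoImplicit false
set_option backward.isDefEq.respectTransparency.types false
universe u
open CategoryTheory CategoryTheory.Limits AlgebraicGeometry Opposite AlgSp

namespace K594.EqvRel

open K594.Elem K594.Cover K594.Basic K594.Diag

section

variable {C : Type*} [Category* C] [HasBinaryProducts C]

theorem isPullback_prod_map_id_left {A B : C} (f : A ⟶ B) (X : C) :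
    IsPullback prod.snd (prod.map (𝟙 X) f) f prod.snd where
  w := by rw [prod.map_snd]
  isLimit' := ⟨PullbackCone.isLimitAux' _ (fun s ↦ by
    refine ⟨prod.lift (s.snd ≫ prod.fst) s.fst, ?_, ?_, ?_⟩
    · change prod.lift (s.snd ≫ prod.fst) s.fst ≫ prod.snd = _
      rw [prod.lift_snd]
    · change prod.lift (s.snd ≫ prod.fst) s.fst ≫ prod.map (𝟙 X) f = _
      apply Limits.prod.hom_ext
      · rw [Category.assoc, prod.map_fst, Category.comp_id, prod.lift_fst]
      · rw [Category.assoc, prod.map_snd, prod.lift_snd_assoc, PullbackCone.condition]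
    · intro (m : s.pt ⟶ X ⨯ A) h₁ h₂
      have h₁' : m ≫ (prod.snd : X ⨯ A ⟶ A) = s.fst := h₁
      have h₂' : m ≫ prod.map (𝟙 X) f = s.snd := h₂
      apply Limits.prod.hom_ext
      · rw [prod.lift_fst, ← h₂', Category.assoc, prod.map_fst, Category.comp_id]
      · rw [prod.lift_snd, h₁'])⟩

theorem prod_map_mem (Q : MorphismProperty C) [Q.IsStableUnderBaseChange]
    [Q.IsStableUnderComposition] {A B A' B' : C} (f : A ⟶ B) (g : A' ⟶ B') (hf : Q f) (hg : Q g) :
    Q (prod.map f g) := by
  have h1 : prod.map f g = prod.map f (𝟙 _) ≫ prod.map (𝟙 _) g := by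
    apply Limits.prod.hom_ext
    · rw [prod.map_fst, Category.assoc, prod.map_fst, Category.comp_id, prod.map_fst]
    · rw [prod.map_snd, Category.assoc, prod.map_snd, prod.map_snd_assoc, Category.id_comp]
  rw [h1]
  exact Q.comp_mem _ _ (Q.of_isPullback (IsPullback.of_prod_fst_with_id f A') hf)
    (Q.of_isPullback (isPullback_prod_map_id_left g B) hg)

end

variable {S : Scheme.{u}}

section restrict

variable {R U R' U' : Over S} {s t : R ⟶ U} {g : U' ⟶ U} {s' t' : R' ⟶ U'} {r : R' ⟶ R}

theorem restrict_left (hsq : IsPullback (prod.lift t' s') r (prod.map g g) (prod.lift t s)) :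
    t' ≫ g = r ≫ t := by
  have := congrArg (fun k => k ≫ (prod.fst : U ⨯ U ⟶ U)) hsq.w
  rwa [Category.assoc, Category.assoc, prod.map_fst, prod.lift_fst_assoc, prod.lift_fst] at this

theorem restrict_right (hsq : IsPullback (prod.lift t' s') r (prod.map g g) (prod.lift t s)) :
    s' ≫ g = r ≫ s := by
  have := congrArg (fun k => k ≫ (prod.snd : U ⨯ U ⟶ U)) hsq.w
  rwa [Category.assoc, Category.assoc, prod.map_snd, prod.lift_snd_assoc, prod.lift_snd] at this

/-- points of the restriction -/
theorem exists_restrict_lift (hsq : IsPullback (prod.lift t' s') r (prod.map g g) (prod.lift t s))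
    {T : Over S} (a b : T ⟶ U') (c : T ⟶ R) (h1 : c ≫ t = a ≫ g) (h2 : c ≫ s = b ≫ g) :
    ∃ d : T ⟶ R', d ≫ t' = a ∧ d ≫ s' = b ∧ d ≫ r = c := by
  have w : prod.lift a b ≫ prod.map g g = c ≫ prod.lift t s := by
    apply Limits.prod.hom_ext
    · rw [Category.assoc, Category.assoc, prod.map_fst, prod.lift_fst_assoc, prod.lift_fst, h1]
    · rw [Category.assoc, Category.assoc, prod.map_snd, prod.lift_snd_assoc, prod.lift_snd, h2]
  refine ⟨hsq.lift (prod.lift a b) c w, ?_, ?_, hsq.lift_snd _ _ _⟩
  · have := congrArg (fun k => k ≫ (prod.fst : U' ⨯ U' ⟶ U')) (hsq.lift_fst (prod.lift a b) c w)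
    rwa [Category.assoc, prod.lift_fst, prod.lift_fst] at this
  · have := congrArg (fun k => k ≫ (prod.snd : U' ⨯ U' ⟶ U')) (hsq.lift_fst (prod.lift a b) c w)
    rwa [Category.assoc, prod.lift_snd, prod.lift_snd] at this

theorem restrict_hom_ext (hsq : IsPullback (prod.lift t' s') r (prod.map g g) (prod.lift t s))
    {T : Over S} {a b : T ⟶ R'} (h1 : a ≫ t' = b ≫ t') (h2 : a ≫ s' = b ≫ s')
    (h3 : a ≫ r = b ≫ r) : a = b := by
  apply hsq.hom_ext _ h3
  apply Limits.prod.hom_ext
  · rw [Category.assoc, Category.assoc, prod.lift_fst, h1]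
  · rw [Category.assoc, Category.assoc, prod.lift_snd, h2]

theorem isEqvRel_restrict
    (hsq : IsPullback (prod.lift t' s') r (prod.map g g) (prod.lift t s)) (h : IsEqvRel s t) :
    IsEqvRel s' t' where
  injective T a b h1 h2 := by
    apply restrict_hom_ext hsq h1 h2
    apply h.injective
    · rw [Category.assoc, Category.assoc, ← restrict_left hsq, reassoc_of% h1]
    · rw [Category.assoc, Category.assoc, ← restrict_right hsq, reassoc_of% h2]
  equivalence T := by
    have key : ∀ a b : T ⟶ U', (∃ d : T ⟶ R', d ≫ t' = a ∧ d ≫ s' = b) ↔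
        ∃ c : T ⟶ R, c ≫ t = a ≫ g ∧ c ≫ s = b ≫ g := by
      intro a b
      constructor
      · rintro ⟨d, rfl, rfl⟩
        exact ⟨d ≫ r, by rw [Category.assoc, Category.assoc, restrict_left hsq],
          by rw [Category.assoc, Category.assoc, restrict_right hsq]⟩
      · rintro ⟨c, h1, h2⟩
        obtain ⟨d, hd1, hd2, -⟩ := exists_restrict_lift hsq a b c h1 h2
        exact ⟨d, hd1, hd2⟩
    have e := h.equivalence T
    refine ⟨fun a => (key a a).2 (e.refl _), fun {a b} hab => (key b a).2 (e.symm ((key a b).1 hab)),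
      fun {a b c} hab hbc => (key a c).2 (e.trans ((key a b).1 hab) ((key b c).1 hbc))⟩

theorem etale_restrict
    (hsq : IsPullback (prod.lift t' s') r (prod.map g g) (prod.lift t s)) [Etale g.left] :
    Etale r.left := by
  have h1 : MorphismProperty.inverseImage (@Etale.{u}) (Over.forget S) (prod.map g g) :=
    prod_map_mem _ g g ‹Etale g.left› ‹Etale g.left›
  exact MorphismProperty.of_isPullback
    (P := MorphismProperty.inverseImage (@Etale.{u}) (Over.forget S)) hsq h1

theorem isEtaleEqvRel_restrict
    (hsq : IsPullback (prod.lift t' s') r (prod.map g g) (prod.lift t s))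
    (h : IsEtaleEqvRel s t) [Etale g.left] : IsEtaleEqvRel s' t' where
  toIsEqvRel := isEqvRel_restrict hsq h.toIsEqvRel
  etale_left := by
    have h1 := etale_restrict hsq
    have h2 := h.etale_left
    have h3 : Etale (s'.left ≫ g.left) := by
      rw [← Over.comp_left, restrict_right hsq, Over.comp_left]
      infer_instance
    exact Etale.of_comp s'.left g.left
  etale_right := by
    have h1 := etale_restrict hsq
    have h2 := h.etale_right
    have h3 : Etale (t'.left ≫ g.left) := by
      rw [← Over.comp_left, restrict_left hsq, Over.comp_left]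
      infer_instance
    exact Etale.of_comp t'.left g.left

end restrict

/-- `h_R = h_U ×_F h_U`: the sections of `F` defined by `a` and `b` agree iff `(a, b)` comes from `R`. -/
theorem isPullback_iff_eqv {F : Sp S} {R U : Over S} (p : (yon S).obj U ⟶ F) (s t : R ⟶ U)
    (sq : IsPullback ((yon S).map t) ((yon S).map s) p p) {T : Over S} (a b : T ⟶ U) :
    (∃ r : T ⟶ R, r ≫ t = a ∧ r ≫ s = b) ↔ (yon S).map a ≫ p = (yon S).map b ≫ p := by
  constructor
  · rintro ⟨r, rfl, rfl⟩
    rw [Functor.map_comp, Functor.map_comp, Category.assoc, Category.assoc, sq.w]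
  · intro h
    obtain ⟨r, hr⟩ := (yon S).map_surjective (sq.lift ((yon S).map a) ((yon S).map b) h)
    refine ⟨r, (yon S).map_injective ?_, (yon S).map_injective ?_⟩
    · rw [Functor.map_comp, hr, sq.lift_fst]
    · rw [Functor.map_comp, hr, sq.lift_snd]

theorem isEqvRel_of_isPullback {F : Sp S} {R U : Over S} (p : (yon S).obj U ⟶ F) (s t : R ⟶ U)
    (sq : IsPullback ((yon S).map t) ((yon S).map s) p p) : IsEqvRel s t where
  injective T a b h1 h2 := by
    apply (yon S).map_injective
    apply sq.hom_ext
    · rw [← Functor.map_comp, h1, Functor.map_comp]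
    · rw [← Functor.map_comp, h2, Functor.map_comp]
  equivalence T := by
    have key := fun (a b : T ⟶ U) => isPullback_iff_eqv p s t sq a b
    exact ⟨fun a => (key a a).2 rfl, fun {a b} hab => (key b a).2 ((key a b).1 hab).symm,
      fun {a b c} hab hbc => (key a c).2 (((key a b).1 hab).trans ((key b c).1 hbc))⟩

theorem isEtaleEqvRel_of_isPullback {F : Sp S} {R U : Over S} (p : (yon S).obj U ⟶ F)
    (he : RepWith @Etale p) (s t : R ⟶ U)
    (sq : IsPullback ((yon S).map t) ((yon S).map s) p p) : IsEtaleEqvRel s t where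
  toIsEqvRel := isEqvRel_of_isPullback p s t sq
  etale_left := he.2 _ _ _ sq
  etale_right := he.2 _ _ _ sq.flip

end K594.EqvRel
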