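import Groth.Agent.AlgSp.K598.SchImg2
import Groth.Agent.Divis.IdealComap
import Groth.Agent.AlgSp.K594.FormalAlg
import Groth.Agent.AlgSp.K597.ProperImg

/-!
# Operations on closed subspaces of an algebraic space, as families of ideals

* scheme level: `comap_inf_of_flat`, `sup_ker_eq_iff` (ideals modulo a closed immersion), `idl` (ideals of `Spec R`).
* `Fam.sup`, `Fam.pow`, `Fam.pull`, `Fam.base`, `exists_inf`.
* `push`: closed subspaces of a closed subspace.
-/

set_option autoImplicit false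
universe u
open CategoryTheory CategoryTheory.Limits AlgebraicGeometry Opposite
open AlgSp K598.Site K598.RepKit K598.ClFam K598.Charts
open Groth.Agent.RedSub.H647.QCov Groth.Agent.Divis.IdealComap

namespace K594.FamOps

section scheme

variable {X Y : Scheme.{u}}

theorem map_inf_of_flat' {R R' : Type u} [CommRing R] [CommRing R'] (φ : R →+* R') (h : φ.Flat) (b z : Ideal R) :
    (b ⊓ z).map φ = b.map φ ⊓ z.map φ := by
  let _ : Algebra R R' := φ.toAlgebra
  have _ : Module.Flat R R' := h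
  exact K594.FormalAlg.map_inf_of_flat R' b z

theorem comap_inf_of_flat (f : X ⟶ Y) [Flat f] (I J : Y.IdealSheafData) :
    (I ⊓ J).comap f = I.comap f ⊓ J.comap f := by
  refine ext_of_forall_mem fun x ↦ ?_
  obtain ⟨U, V, -, hxV, -, -, e⟩ := exists_affine_le f x ⊤ trivial ⊤ trivial
  refine ⟨V, hxV, ?_⟩
  rw [ideal_comap _ f U V e]
  simp only [Scheme.IdealSheafData.ideal_inf, Pi.inf_apply]
  rw [ideal_comap _ f U V e, ideal_comap _ f U V e]
  exact map_inf_of_flat' _ (Flat.flat_appLE f U.2 V.2 e) _ _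

theorem map_comap_of_isClosedImmersion (i : X ⟶ Y) [IsClosedImmersion i] (I : Y.IdealSheafData) :
    (I.comap i).map i = I ⊔ i.ker := by
  refine ext_of_forall_mem fun y ↦ ?_
  obtain ⟨U, hU, hyU, -⟩ := exists_isAffineOpen_mem_and_subset (x := y) (U := ⊤) trivial
  refine ⟨⟨U, hU⟩, hyU, ?_⟩
  rw [Scheme.IdealSheafData.ideal_map_of_isAffineHom]
  have h1 := ideal_comap I i ⟨U, hU⟩ ⟨i ⁻¹ᵁ U, hU.preimage i⟩ le_rfl
  have h2 : i.ker.ideal ⟨U, hU⟩ = RingHom.ker (i.app U).hom := by
    rw [Scheme.Hom.ker_apply]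
  simp only [Scheme.IdealSheafData.ideal_sup, Pi.sup_apply]
  rw [h1, h2, ← Scheme.Hom.app_eq_appLE]
  exact Ideal.comap_map_of_surjective _ (Scheme.Hom.app_surjective i U hU) _

theorem sup_ker_eq_of_comap_eq (i : X ⟶ Y) [IsClosedImmersion i] {I J : Y.IdealSheafData}
    (h : I.comap i = J.comap i) : I ⊔ i.ker = J ⊔ i.ker := by
  rw [← map_comap_of_isClosedImmersion, ← map_comap_of_isClosedImmersion, h]

end scheme

section idl

variable {R R' : CommRingCat.{u}}

/-- The ideal of `R` given by an ideal sheaf on `Spec R`. -/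
noncomputable def idl (I : (Spec R).IdealSheafData) : Ideal R :=
  (I.ideal ⟨⊤, isAffineOpen_top _⟩).comap (Scheme.ΓSpecIso R).inv.hom

theorem idl_eq_map (I : (Spec R).IdealSheafData) :
    idl I = (I.ideal ⟨⊤, isAffineOpen_top _⟩).map (Scheme.ΓSpecIso R).hom.hom :=
  (map_eq_comap_of_iso (Scheme.ΓSpecIso R) _).symm

theorem idl_mono {I J : (Spec R).IdealSheafData} (h : I ≤ J) : idl I ≤ idl J :=
  Ideal.comap_mono (h _)

theorem map_idl (I : (Spec R).IdealSheafData) :
    (idl I).map (Scheme.ΓSpecIso R).inv.hom = I.ideal ⟨⊤, isAffineOpen_top _⟩ := by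
  rw [idl_eq_map, Ideal.map_map, ← CommRingCat.hom_comp, Iso.hom_inv_id, CommRingCat.hom_id, Ideal.map_id]

theorem idl_le_iff {I J : (Spec R).IdealSheafData} : idl I ≤ idl J ↔ I ≤ J := by
  refine ⟨fun h => Scheme.IdealSheafData.le_of_isAffine ?_, idl_mono⟩
  rw [← map_idl, ← map_idl]
  exact Ideal.map_mono h

theorem idl_inj {I J : (Spec R).IdealSheafData} (h : idl I = idl J) : I = J :=
  le_antisymm (idl_le_iff.1 h.le) (idl_le_iff.1 h.ge)

theorem idl_surj (K : Ideal R) : ∃ I : (Spec R).IdealSheafData, idl I = K := by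
  refine ⟨Scheme.IdealSheafData.ofIdealTop (K.map (Scheme.ΓSpecIso R).inv.hom), ?_⟩
  have h : (Scheme.IdealSheafData.ofIdealTop (K.map (Scheme.ΓSpecIso R).inv.hom)).ideal ⟨⊤, isAffineOpen_top _⟩ =
      K.map (Scheme.ΓSpecIso R).inv.hom := by simp
  rw [idl_eq_map, h, Ideal.map_map, ← CommRingCat.hom_comp, Iso.inv_hom_id, CommRingCat.hom_id, Ideal.map_id]

theorem idl_sup (I J : (Spec R).IdealSheafData) : idl (I ⊔ J) = idl I ⊔ idl J := by
  rw [idl_eq_map, idl_eq_map, idl_eq_map, ← Ideal.map_sup]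
  rfl

theorem idl_inf (I J : (Spec R).IdealSheafData) : idl (I ⊓ J) = idl I ⊓ idl J := rfl

theorem idl_bot : idl (⊥ : (Spec R).IdealSheafData) = ⊥ := by
  rw [idl_eq_map, Scheme.IdealSheafData.ideal_bot]
  exact Ideal.map_bot

theorem idl_pow (I : (Spec R).IdealSheafData) (n : ℕ) : idl (I ^ n) = idl I ^ n := by
  rw [idl_eq_map, idl_eq_map, ← Ideal.map_pow]
  simp

theorem idl_comap (φ : R ⟶ R') (I : (Spec R).IdealSheafData) :
    idl (I.comap (Spec.map φ)) = (idl I).map φ.hom := by
  rw [idl_eq_map, idl_eq_map, ideal_comap_top, Ideal.map_map, Ideal.map_map, ← CommRingCat.hom_comp,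
    ← CommRingCat.hom_comp, Scheme.ΓSpecIso_naturality]

theorem idl_map (φ : R ⟶ R') (J : (Spec R').IdealSheafData) :
    idl (J.map (Spec.map φ)) = (idl J).comap φ.hom := by
  have h := Scheme.IdealSheafData.ideal_map_of_isAffineHom J (Spec.map φ) ⟨⊤, isAffineOpen_top _⟩
  unfold idl
  rw [h]
  change ((J.ideal ⟨⊤, isAffineOpen_top _⟩).comap (Spec.map φ).appTop.hom).comap (Scheme.ΓSpecIso R).inv.hom =
    ((J.ideal ⟨⊤, isAffineOpen_top _⟩).comap (Scheme.ΓSpecIso R').inv.hom).comap φ.hom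
  rw [Ideal.comap_comap, Ideal.comap_comap, ← CommRingCat.hom_comp, ← CommRingCat.hom_comp,
    ← Scheme.ΓSpecIso_inv_naturality]

theorem idl_ker (φ : R ⟶ R') : idl (Spec.map φ).ker = RingHom.ker φ.hom := by
  rw [← Scheme.IdealSheafData.map_bot, idl_map, idl_bot]
  rfl

theorem mem_support_iff (I : (Spec R).IdealSheafData) (x : PrimeSpectrum R) :
    (x ∈ (show Set (PrimeSpectrum R) from (I.support : Set (Spec R)))) ↔ idl I ≤ x.asIdeal := by
  have h : I = Scheme.IdealSheafData.ofIdealTop (I.ideal ⟨⊤, isAffineOpen_top _⟩) := by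
    apply Scheme.IdealSheafData.ext_of_isAffine
    simp
  have h2 : (I.support : Set (Spec R)) = (Spec R).zeroLocus (U := ⊤) (I.ideal ⟨⊤, isAffineOpen_top _⟩ : Set _) := by
    conv_lhs => rw [h]
    exact Scheme.IdealSheafData.coe_support_ofIdealTop _
  rw [h2, Spec_zeroLocus]
  rfl

end idl

section fam

variable {S : Scheme.{u}} {X Y Z : Sp S}

/-- The intersection of two closed subspaces (the sum of the ideals). -/
def sup (A B : Fam Y) : Fam Y where
  I g := A.I g ⊔ B.I g
  comap φ g := by rw [A.comap, B.comap, Scheme.IdealSheafData.comap_sup]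

/-- Infinitesimal neighbourhoods. -/
def pow (A : Fam Y) (m : ℕ) : Fam Y where
  I g := A.I g ^ m
  comap φ g := by rw [A.comap, comap_pow]

/-- The inverse image of a closed subspace. -/
def pull (f : X ⟶ Y) (A : Fam Y) : Fam X where
  I g := A.I (g ≫ f)
  comap φ g := by rw [← A.comap, Category.assoc]

/-- The inverse image of a closed subscheme of the base. -/
noncomputable def base (Y : Sp S) (K : S.IdealSheafData) : Fam Y where
  I {T} _ := K.comap T.hom
  comap {T T'} φ g := by rw [← Scheme.IdealSheafData.comap_comp, Over.w]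

theorem sup_I (A B : Fam Y) {T : Over S} (g : (yon S).obj T ⟶ Y) : (sup A B).I g = A.I g ⊔ B.I g := rfl

theorem pow_I (A : Fam Y) (m : ℕ) {T : Over S} (g : (yon S).obj T ⟶ Y) : (pow A m).I g = A.I g ^ m := rfl

theorem pull_I (f : X ⟶ Y) (A : Fam Y) {T : Over S} (g : (yon S).obj T ⟶ X) : (pull f A).I g = A.I (g ≫ f) := rfl

theorem base_I (K : S.IdealSheafData) {T : Over S} (g : (yon S).obj T ⟶ Y) : (base Y K).I g = K.comap T.hom := rfl

theorem pull_base (f : X ⟶ Y) (K : S.IdealSheafData) : pull f (base Y K) = base X K := rfl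

theorem pull_sup (f : X ⟶ Y) (A B : Fam Y) : pull f (sup A B) = sup (pull f A) (pull f B) := rfl

theorem pull_mono (f : X ⟶ Y) {A B : Fam Y} (h : A ≤ B) : pull f A ≤ pull f B := fun _ _ => h _ _

theorem sup_le {A B C : Fam Y} (h1 : A ≤ C) (h2 : B ≤ C) : sup A B ≤ C := fun _ _ => _root_.sup_le (h1 _ _) (h2 _ _)

theorem le_sup_left (A B : Fam Y) : A ≤ sup A B := fun _ _ => _root_.le_sup_left

theorem le_sup_right (A B : Fam Y) : B ≤ sup A B := fun _ _ => _root_.le_sup_right

theorem sup_eq_left {A B : Fam Y} (h : B ≤ A) : sup A B = A := le_antisymm (sup_le le_rfl h) (le_sup_left _ _)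

theorem sup_assoc (A B C : Fam Y) : sup (sup A B) C = sup A (sup B C) := by
  ext T g : 3
  exact _root_.sup_assoc _ _ _

theorem sup_comm (A B : Fam Y) : sup A B = sup B A := by
  ext T g : 3
  exact _root_.sup_comm _ _

/-- Pullback of a closed subspace: the kernel. -/
theorem ofClosed_pullback {W P : Sp S} {i : Z ⟶ Y} (hi : RepWith @IsClosedImmersion i) {f : W ⟶ Y}
    {a : P ⟶ Z} {b : P ⟶ W} (sq : IsPullback a b i f) (hb : RepWith @IsClosedImmersion b) :
    ofClosed b hb = pull f (ofClosed i hi) := by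
  ext T g : 3
  exact ofClosed_of_isPullback hi sq hb g

/-- Families with the same restriction to a closed subspace agree up to its ideal. -/
theorem sup_ofClosed_eq {i : Z ⟶ Y} (hi : RepWith @IsClosedImmersion i) {A B : Fam Y} (h : pull i A = pull i B) :
    sup A (ofClosed i hi) = sup B (ofClosed i hi) := by
  ext T g : 3
  have sq := hi.1.isPullback g
  have hcl : IsClosedImmersion (hi.1.snd g).left := hi.2 _ _ _ sq
  rw [sup_I, sup_I, ofClosed_eq hi sq]
  apply sup_ker_eq_of_comap_eq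
  rw [← A.comap, ← B.comap, ← sq.w]
  exact congrArg (fun F : Fam Z => F.I (hi.1.fst g)) h

/-- The closed subspace of `Y` given by a closed subspace of a closed subspace. -/
noncomputable def push {i : Z ⟶ Y} (hi : RepWith @IsClosedImmersion i) (A : Fam Z) : Fam Y :=
  ofClosed (A.ι ≫ i) (MorphismProperty.comp_mem _ _ _ A.repWith_ι hi)

theorem isPullback_push {i : Z ⟶ Y} (hi : RepWith @IsClosedImmersion i) (A : Fam Z) :
    IsPullback (𝟙 _) A.ι (A.ι ≫ i) i := by
  have := mono_of_repWith_isClosedImmersion hi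
  refine ⟨⟨by simp⟩, ⟨PullbackCone.IsLimit.mk _ (fun s => s.fst) (fun s => by simp) (fun s => ?_) (fun s m h1 _ => ?_)⟩⟩
  · rw [← cancel_mono i, Category.assoc]
    exact s.condition
  · rw [← h1, Category.comp_id]

theorem pull_push {i : Z ⟶ Y} (hi : RepWith @IsClosedImmersion i) (A : Fam Z) : pull i (push hi A) = A := by
  have h := ofClosed_pullback (MorphismProperty.comp_mem _ _ _ A.repWith_ι hi) (isPullback_push hi A) A.repWith_ι
  rw [ofClosed_ι] at h
  exact h.symm

theorem le_push {i : Z ⟶ Y} (hi : RepWith @IsClosedImmersion i) (A : Fam Z) : ofClosed i hi ≤ push hi A :=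
  (exists_hom_iff_le _ _).1 ⟨A.ι, rfl⟩

/-- Families above the ideal of a closed subspace are determined by their restriction. -/
theorem eq_of_pull_eq {i : Z ⟶ Y} (hi : RepWith @IsClosedImmersion i) {A B : Fam Y} (h : pull i A = pull i B)
    (hA : ofClosed i hi ≤ A) (hB : ofClosed i hi ≤ B) : A = B := by
  rw [← sup_eq_left hA, ← sup_eq_left hB]
  exact sup_ofClosed_eq hi h

/-- Unions of closed subspaces. -/
theorem exists_inf (hY : IsAlgSpace Y) (A B : Fam Y) : ∃ C : Fam Y,
    (∀ (T : Over S) (g : (yon S).obj T ⟶ Y), RepWith @Etale g → C.I g = A.I g ⊓ B.I g) ∧ C ≤ A ∧ C ≤ B := by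
  obtain ⟨V, p, h1, h2⟩ := hY.atlas
  have key : ∀ (R : Over S) (a b : R ⟶ V), Etale a.left → Etale b.left → (yon S).map a ≫ p = (yon S).map b ≫ p →
      (A.I p ⊓ B.I p).comap a.left = (A.I p ⊓ B.I p).comap b.left := by
    intro R a b _ _ hab
    rw [comap_inf_of_flat, comap_inf_of_flat, ← A.comap, ← A.comap, ← B.comap, ← B.comap, hab]
  obtain ⟨C, hC⟩ := (ChartFam.single h1 h2).exists_fam (fun _ => A.I p ⊓ B.I p) (by
    intro j k R a b hab
    have sq := h1.1.isPullback' p
    set r := h1.1.fst' p with hr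
    set q := h1.1.snd p with hq
    obtain ⟨c, hc⟩ := (yon S).map_surjective (sq.lift _ _ hab)
    have e1 : c ≫ r = a := (yon S).map_injective (by rw [Functor.map_comp, hc, IsPullback.lift_fst])
    have e2 : c ≫ q = b := (yon S).map_injective (by rw [Functor.map_comp, hc, IsPullback.lift_snd])
    rw [← e1, ← e2, Over.comp_left, Over.comp_left, Scheme.IdealSheafData.comap_comp,
      Scheme.IdealSheafData.comap_comp, key _ r q (h1.2 _ _ _ sq.flip) (h1.2 _ _ _ sq) sq.w])
  refine ⟨C, fun T g hg => ?_, (ChartFam.single h1 h2).le_of_le fun j => ?_,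
    (ChartFam.single h1 h2).le_of_le fun j => ?_⟩
  · obtain ⟨P, r, q, sq⟩ := exists_pullbacks (V := fun _ : PUnit.{u+1} => V) (p := fun _ => p) (fun _ => h1.1) g
    refine ((ChartFam.single h1 h2).isQCov g sq).ideal_ext fun j => ?_
    have hE1 : Etale (q j).left := h1.2 _ _ _ (sq j)
    have hE2 : Etale (r j).left := hg.2 _ _ _ (sq j).flip
    rw [← C.comap, ← (sq j).w, C.comap, hC PUnit.unit, comap_inf_of_flat, comap_inf_of_flat, ← A.comap, ← B.comap,
      ← A.comap, ← B.comap, (sq j).w]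
  · rw [hC j]
    exact inf_le_left
  · rw [hC j]
    exact inf_le_right

/-- The points of a union. -/
theorem range_inf (hY : IsAlgSpace Y) {A B C : Fam Y}
    (hC : ∀ (T : Over S) (g : (yon S).obj T ⟶ Y), RepWith @Etale g → C.I g = A.I g ⊓ B.I g) :
    Set.range (Points.map C.ι) ⊆ Set.range (Points.map A.ι) ∪ Set.range (Points.map B.ι) := by
  obtain ⟨V, p, h1, h2⟩ := hY.atlas
  intro y hy
  obtain ⟨v, rfl⟩ := K609.Points.surjective_ofPt_of_repWith_surjective h2 y
  have h3 : v ∈ Points.ofPt p ⁻¹' Set.range (Points.map C.ι) := hy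
  rw [K598.Red.range_map_ι, hC V p h1] at h3
  have h4 : A.I p * B.I p ≤ A.I p ⊓ B.I p := by
    intro U
    simp only [Scheme.IdealSheafData.ideal_mul, Pi.mul_apply, Scheme.IdealSheafData.ideal_inf, Pi.inf_apply]
    exact Ideal.mul_le_inf
  have h5 := Scheme.IdealSheafData.support_antitone h4 h3
  rw [Scheme.IdealSheafData.support_mul] at h5
  rcases h5 with h5 | h5
  · left
    have : v ∈ Points.ofPt p ⁻¹' Set.range (Points.map A.ι) := by
      rw [K598.Red.range_map_ι]
      exact h5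
    exact this
  · right
    have : v ∈ Points.ofPt p ⁻¹' Set.range (Points.map B.ι) := by
      rw [K598.Red.range_map_ι]
      exact h5
    exact this

theorem range_of_le {A B : Fam Y} (h : A ≤ B) : Set.range (Points.map B.ι) ⊆ Set.range (Points.map A.ι) := by
  obtain ⟨k, hk⟩ := (exists_hom_iff_le B.repWith_ι A.repWith_ι).2 (by rw [ofClosed_ι, ofClosed_ι]; exact h)
  rintro _ ⟨x, rfl⟩
  exact ⟨Points.map k x, by rw [← Points.map_comp, hk]⟩

end fam

end K594.FamOps
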