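import Groth.Agent.AlgSp.K594.FibSh
import Groth.Agent.AlgSp.K594.Quot

/-!
# Descent of representability along covering families

* `exists_isRep_of_fam` : fppf covering families, separated + locally quasi-finite + locally of finite type;
* `exists_isRep_of_openFam` : Zariski covering families, no condition;
* `repWith_of_fam`, `repWith_of_openFam` : the same with a property `P`.
* `isRep_sig` : a map out of a disjoint union is represented by the disjoint union.
-/

set_option autoImplicit false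
set_option backward.isDefEq.respectTransparency.types false
universe u
open CategoryTheory CategoryTheory.Limits AlgebraicGeometry Opposite AlgSp

namespace K594.FamRep

open K594.Elem K594.Cover K594.FibSh K594.Basic K594.FppfRep
open Groth.Agent.Desc.SecFunctor (restr)
open Groth.Agent.Desc.SecDescent (pullRep restrCompIso)

variable {S : Scheme.{u}} {F G : Sp S} {f : F ⟶ G}

/-- the pairwise fibre products of a family with a scheme over the base -/
theorem Fam.exists_baseChange {T : Over S} {ι : Type u} {V : ι → Over S} {g : ∀ i, V i ⟶ T}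
    (h : Fam g) {T' : Over S} (t : T' ⟶ T) : ∃ (V' : ι → Over S) (g' : ∀ i, V' i ⟶ T')
      (t' : ∀ i, V' i ⟶ V i), (∀ i, IsPullback (t' i) (g' i) (g i) t) ∧ Fam g' := by
  refine ⟨fun i => pullback (g i) t, fun i => pullback.snd _ _, fun i => pullback.fst _ _,
    fun i => IsPullback.of_hasPullback _ _, ⟨fun i => ?_, fun i => ?_, fun x => ?_⟩⟩
  · exact MorphismProperty.of_isPullback (P := @Flat)
      ((IsPullback.of_hasPullback (g i) t).map (Over.forget S)) (h.flat i)
  · exact MorphismProperty.of_isPullback (P := @LocallyOfFinitePresentation)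
      ((IsPullback.of_hasPullback (g i) t).map (Over.forget S)) (h.lfp i)
  · obtain ⟨i, v, hv⟩ := h.surj (t.left x)
    have sq : IsPullback (pullback.fst (g i) t).left (pullback.snd (g i) t).left (g i).left t.left :=
      (IsPullback.of_hasPullback (g i) t).map (Over.forget S)
    obtain ⟨z, -, hz⟩ := Scheme.Pullback.exists_preimage_pullback (f := (g i).left) (g := t.left) v x hv
    refine ⟨i, sq.isoPullback.inv z, ?_⟩
    rw [← Scheme.Hom.comp_apply, sq.isoPullback_inv_snd, hz]

theorem small_fib_fam {U : Over S} {y : G.obj.obj (op U)} {ι : Type u} {U' V' : ι → Over S}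
    {t : ∀ i, U' i ⟶ U} (ht : Fam t) {v : ∀ i, V' i ⟶ U' i} {ξ : ∀ i, F.obj.obj (op (V' i))}
    (h : ∀ i, IsRep f (G.obj.map (t i).op y) (v i) (ξ i)) :
    FunctorToTypes.Small.{u} (fib f y) := by
  rintro ⟨T⟩
  obtain ⟨T', g', h', sq, hg'⟩ := Fam.exists_baseChange ht (str T)
  have key : ∀ (x : (fib f y).obj (op T)) (i : ι), ∃ k : T' i ⟶ V' i, F.obj.map k.op (ξ i) =
      F.obj.map (g' i).op x.1 := by
    intro x i
    obtain ⟨k, hk1, hk2⟩ := (h i).lift (h' i) (F.obj.map (g' i).op x.1) (by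
      rw [app_map, x.2, ← map_comp_apply, ← map_comp_apply, (sq i).w])
    exact ⟨k, hk2⟩
  choose φ hφ using key
  refine small_of_injective (f := φ) ?_
  intro a b hab
  apply Subtype.ext
  apply hg'.ext
  intro i
  rw [← hφ, ← hφ, hab]

/-- fppf descent of representing objects along a covering family. -/
theorem exists_isRep_of_fam {U : Over S} {y : G.obj.obj (op U)} {ι : Type u}
    {U' V' : ι → Over S} {t : ∀ i, U' i ⟶ U} (ht : Fam t) {v : ∀ i, V' i ⟶ U' i}
    {ξ : ∀ i, F.obj.obj (op (V' i))} (h : ∀ i, IsRep f (G.obj.map (t i).op y) (v i) (ξ i))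
    (h1 : ∀ i, Slqf (v i).left) : ∃ (V : Over S) (v : V ⟶ U) (ξ : F.obj.obj (op V)),
      IsRep f y v ξ := by
  have := small_fib_fam ht h
  obtain ⟨E, ⟨hE⟩⟩ := K594.RepDesc.exists_rep_of_fppf_local (sfib f y) (isZarSheaf_sfib f y)
    (fun {T' T} g g1 g2 g3 => isDesc_sfib f y g ⟨g1, g2, g3⟩) (by
      intro s
      obtain ⟨i, s', hs'⟩ := ht.surj s
      obtain ⟨r⟩ := rep_restr (t i) (h i)
      exact ⟨Over.mk (t i).left, ht.flat i, ht.lfp i, s', hs', Over.mk (v i).left, (h1 i).1,
        (h1 i).2.1, (h1 i).2.2, ⟨r⟩⟩)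
  obtain ⟨ξ', hξ'⟩ := isRep_of_rep hE
  exact ⟨_, _, ξ', hξ'⟩

/-- Zariski descent of representing objects. -/
theorem exists_isRep_of_openFam {U : Over S} {y : G.obj.obj (op U)} {ι : Type u}
    {U' V' : ι → Over S} {t : ∀ i, U' i ⟶ U} (ht : Fam t) (hto : ∀ i, IsOpenImmersion (t i).left)
    {v : ∀ i, V' i ⟶ U' i}
    {ξ : ∀ i, F.obj.obj (op (V' i))} (h : ∀ i, IsRep f (G.obj.map (t i).op y) (v i) (ξ i)) :
    ∃ (V : Over S) (v : V ⟶ U) (ξ : F.obj.obj (op V)), IsRep f y v ξ := by
  have := small_fib_fam ht h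
  let W : ι → U.left.Opens := fun i => (t i).left.opensRange
  let e : ∀ i, (W i).toScheme ≅ (U' i).left := fun i => (t i).left.isoOpensRange.symm
  have he : ∀ i, (e i).hom ≫ (t i).left = (W i).ι := fun i =>
    Scheme.Hom.isoOpensRange_inv_comp (t i).left
  have key : ∀ i, Nonempty ((restr (W i).ι (sfib f y)).RepresentableBy
      ((Over.pullback (e i).hom).obj (Over.mk (v i).left))) := by
    intro i
    obtain ⟨r⟩ := rep_restr (t i) (h i)
    exact ⟨(pullRep (e i).hom r).ofIso (restrCompIso (he i) (sfib f y))⟩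
  obtain ⟨E, ⟨hE⟩, -⟩ := Groth.Agent.Desc.ZarGlue.exists_rep_of_openCover W (fun s => by
      obtain ⟨i, s', hs'⟩ := ht.surj s
      exact ⟨i, s', hs'⟩) _ (fun i => (key i).some) (isZarSheaf_sfib f y)
  obtain ⟨ξ', hξ'⟩ := isRep_of_rep hE
  exact ⟨_, _, ξ', hξ'⟩

theorem prop_of_fam (P : MorphismProperty Scheme.{u}) [P.IsStableUnderBaseChange]
    [P.IsLocalAtTarget Scheme.fppfPrecoverage] {U V : Over S} {ι : Type u} {U' : ι → Over S}
    {t : ∀ i, U' i ⟶ U} (ht : Fam t) (v : V ⟶ U) (h : ∀ i, P (pullback.snd v (t i)).left) :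
    P v.left := by
  have hmem : Presieve.ofArrows _ (fun i => (t i).left) ∈ Scheme.fppfPrecoverage U.left := by
    change _ ∈ Scheme.precoverage _ U.left
    rw [Scheme.ofArrows_mem_precoverage_iff]
    exact ⟨fun x => ht.surj x, fun i => ⟨ht.flat i, ht.lfp i⟩⟩
  have : P.RespectsIso := MorphismProperty.IsStableUnderBaseChange.respectsIso
  refine MorphismProperty.IsLocalAtTarget.of_forall_pullbackSnd hmem ?_
  rintro _ _ _ ⟨i⟩
  have sq : IsPullback (pullback.fst v (t i)).left (pullback.snd v (t i)).left v.left (t i).left :=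
    (IsPullback.of_hasPullback v (t i)).map (Over.forget S)
  have h1 := h i
  rw [← sq.isoPullback_hom_snd] at h1
  exact (P.cancel_left_of_respectsIso _ _).mp h1

theorem prop_of_isRep_fam (P : MorphismProperty Scheme.{u}) [P.IsStableUnderBaseChange]
    [P.IsLocalAtTarget Scheme.fppfPrecoverage] {U : Over S} {y : G.obj.obj (op U)} {ι : Type u}
    {U' V' : ι → Over S} {t : ∀ i, U' i ⟶ U} (ht : Fam t) {v' : ∀ i, V' i ⟶ U' i}
    {ξ' : ∀ i, F.obj.obj (op (V' i))} (h : ∀ i, IsRep f (G.obj.map (t i).op y) (v' i) (ξ' i))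
    (h1 : ∀ i, P (v' i).left) {V : Over S} {v : V ⟶ U} {ξ : F.obj.obj (op V)}
    (hv : IsRep f y v ξ) : P v.left := by
  have : P.RespectsIso := MorphismProperty.IsStableUnderBaseChange.respectsIso
  refine prop_of_fam P ht v (fun i => ?_)
  obtain ⟨e, he, -⟩ := (hv.baseChange (IsPullback.of_hasPullback v (t i))).exists_iso (h i)
  rw [← he, Over.comp_left]
  exact (P.cancel_left_of_respectsIso _ _).mpr (h1 i)

theorem repWith_of_fam (P : MorphismProperty Scheme.{u}) [P.IsStableUnderBaseChange]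
    [P.IsLocalAtTarget Scheme.fppfPrecoverage] (hP : P ≤ Slqf)
    (h : ∀ {U : Over S} (y : G.obj.obj (op U)), ∃ (ι : Type u) (U' : ι → Over S)
      (t : ∀ i, U' i ⟶ U) (_ : Fam t), ∀ i, ∃ (V' : Over S) (v' : V' ⟶ U' i)
      (ξ : F.obj.obj (op V')), IsRep f (G.obj.map (t i).op y) v' ξ ∧ P v'.left) :
    RepWith P f := by
  have : P.RespectsIso := MorphismProperty.IsStableUnderBaseChange.respectsIso
  apply repWith_of_exists
  intro U y
  obtain ⟨ι, U', t, ht, h'⟩ := h y
  choose V' v' ξ' h1 h2 using h'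
  obtain ⟨V, v, ξ, hξ⟩ := exists_isRep_of_fam ht h1 (fun i => hP _ (h2 i))
  exact ⟨V, v, ξ, hξ, prop_of_isRep_fam P ht h1 h2 hξ⟩

theorem repWith_of_openFam (P : MorphismProperty Scheme.{u}) [P.IsStableUnderBaseChange]
    [P.IsLocalAtTarget Scheme.fppfPrecoverage]
    (h : ∀ {U : Over S} (y : G.obj.obj (op U)), ∃ (ι : Type u) (U' : ι → Over S)
      (t : ∀ i, U' i ⟶ U) (_ : Fam t) (_ : ∀ i, IsOpenImmersion (t i).left), ∀ i,
      ∃ (V' : Over S) (v' : V' ⟶ U' i)
      (ξ : F.obj.obj (op V')), IsRep f (G.obj.map (t i).op y) v' ξ ∧ P v'.left) :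
    RepWith P f := by
  have : P.RespectsIso := MorphismProperty.IsStableUnderBaseChange.respectsIso
  apply repWith_of_exists
  intro U y
  obtain ⟨ι, U', t, ht, hto, h'⟩ := h y
  choose V' v' ξ' h1 h2 using h'
  obtain ⟨V, v, ξ, hξ⟩ := exists_isRep_of_openFam ht hto h1
  exact ⟨V, v, ξ, hξ, prop_of_isRep_fam P ht h1 h2 hξ⟩

/-- pieces of a scheme mapping to a disjoint union -/
theorem exists_pieces {ι : Type u} (V : ι → Over S) {T : Over S} (t : T ⟶ sig V) :
    ∃ (T' : ι → Over S) (g : ∀ i, T' i ⟶ T) (h : ∀ i, T' i ⟶ V i),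
      (∀ i, IsPullback (h i) (g i) (sigι V i) t) ∧ Fam g :=
  let ⟨T', g, h, h1, h2⟩ := Fam.exists_baseChange (sig_fam V) t
  ⟨T', g, h, h1, h2⟩

theorem sigι_mono {ι : Type u} (V : ι → Over S) (i : ι) {T : Over S} {a b : T ⟶ V i}
    (h : a ≫ sigι V i = b ≫ sigι V i) : a = b := by
  ext
  have h1 := congrArg (fun k => k.left) h
  simpa [cancel_mono] using h1

/-- gluing maps out of the pieces -/
theorem exists_glue_pieces {ι : Type u} (V : ι → Over S) {T : Over S} (t : T ⟶ sig V)
    {T' : ι → Over S} {g : ∀ i, T' i ⟶ T} {h : ∀ i, T' i ⟶ V i}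
    (sq : ∀ i, IsPullback (h i) (g i) (sigι V i) t) (hg : Fam g) (F : Sp S)
    (x : ∀ i, F.obj.obj (op (T' i))) : ∃ z : F.obj.obj (op T), ∀ i, F.obj.map (g i).op z = x i := by
  obtain ⟨z, hz, -⟩ := hg.glue F x (by
    intro i j Z a b hab
    by_cases hij : i = j
    · subst hij
      have : a = b := by
        refine (sq i).hom_ext ?_ hab
        apply sigι_mono V i
        rw [Category.assoc, Category.assoc, (sq i).w, reassoc_of% hab]
      rw [this]
    · have := sig_disj V hij (a ≫ h i) (b ≫ h j) (by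
        rw [Category.assoc, Category.assoc, (sq i).w, (sq j).w, reassoc_of% hab])
      exact (subsingleton_of_isEmpty F Z).elim _ _)
  exact ⟨z, hz⟩

/-- A map out of a disjoint union of schemes is represented by the disjoint union. -/
theorem isRep_sig {ι : Type u} {U : ι → Over S} {q : (yon S).obj (sig U) ⟶ G}
    {T : Over S} {y : G.obj.obj (op T)} {V : ι → Over S} {v : ∀ i, V i ⟶ T} {x : ∀ i, V i ⟶ U i}
    (h : ∀ i, IsRep ((yon S).map (sigι U i) ≫ q) y (v i) ⟨x i⟩) :
    IsRep q y (sigDesc v) ⟨sigDesc (fun i => x i ≫ sigι U i)⟩ := by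
  have hq : ∀ {Z : Over S} (z : Z ⟶ sig U), q.hom.app (op Z) ⟨z⟩ = G.obj.map z.op (secEquiv q) :=
    fun z => yonEquiv_apply q z
  have hqi : ∀ (i : ι) {Z : Over S} (z : Z ⟶ U i), ((yon S).map (sigι U i) ≫ q).hom.app (op Z) ⟨z⟩ =
      q.hom.app (op Z) ⟨z ≫ sigι U i⟩ := fun i Z z => rfl
  refine ⟨?_, fun {Z} a b e1 e2 => ?_, fun {Z} t z hz => ?_⟩
  · apply (sig_fam V).ext
    intro i
    rw [hq, ← map_comp_apply, ← map_comp_apply, sigι_desc, sigι_desc, ← hq, ← hqi]
    exact (h i).w
  · -- pieces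
    have e2' : a ≫ sigDesc (fun i => x i ≫ sigι U i) = b ≫ sigDesc (fun i => x i ≫ sigι U i) :=
      congrArg ULift.down e2
    obtain ⟨Z', g, c, sq, hg⟩ := exists_pieces V a
    obtain ⟨Z'', g', c', sq', hg'⟩ := exists_pieces V b
    -- refine further
    have key : ∀ i j (W : Over S) (w : W ⟶ Z' i) (w' : W ⟶ Z'' j), w ≫ g i = w' ≫ g' j →
        w ≫ g i ≫ a = w ≫ g i ≫ b := by
      intro i j W w w' hww
      rw [← (sq i).w]
      rw [← Category.assoc w (g i) b, hww, Category.assoc, ← (sq' j).w]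
      have h2 : (w ≫ c i ≫ x i) ≫ sigι U i = (w' ≫ c' j ≫ x j) ≫ sigι U j := by
        have := congrArg (fun k => w ≫ g i ≫ k) e2'
        rw [← Category.assoc (g i), ← (sq i).w, Category.assoc, sigι_desc] at this
        rw [← Category.assoc w (g i), hww, Category.assoc, ← Category.assoc (g' j), ← (sq' j).w,
          Category.assoc, sigι_desc] at this
        simpa only [Category.assoc] using this
      by_cases hij : i = j
      · subst hij
        have h3 : w ≫ c i = w' ≫ c' i := by
          apply (h i).inj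
          · have := congrArg (fun k => w ≫ g i ≫ k) e1
            rw [← Category.assoc (g i), ← (sq i).w, Category.assoc, sigι_desc] at this
            rw [← Category.assoc w (g i), hww, Category.assoc, ← Category.assoc (g' i), ← (sq' i).w,
              Category.assoc, sigι_desc] at this
            simpa only [Category.assoc] using this
          · apply congrArg ULift.up
            have h4 := sigι_mono U i h2
            change (w ≫ c i) ≫ x i = (w' ≫ c' i) ≫ x i
            simpa only [Category.assoc] using h4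
        rw [← Category.assoc, ← Category.assoc, h3]
      · have := sig_disj U hij _ _ h2
        have := (subsingleton_of_isEmpty ((yon S).obj (sig V)) W).elim ⟨w ≫ c i ≫ sigι V i⟩
          ⟨w' ≫ c' j ≫ sigι V j⟩
        exact congrArg ULift.down this
    apply Quot.hom_ext_fam hg
    intro i
    obtain ⟨W, k, l, sqW, hk⟩ := Fam.exists_baseChange hg' (g i)
    apply Quot.hom_ext_fam hk
    intro j
    exact key i j (W j) (k j) (l j) (sqW j).w.symm
  · obtain ⟨z⟩ := z
    obtain ⟨Z', g, c, sq, hg⟩ := exists_pieces U z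
    have h1 : ∀ i, ∃ k : Z' i ⟶ V i, k ≫ v i = g i ≫ t ∧ k ≫ x i = c i := by
      intro i
      obtain ⟨k, hk1, hk2⟩ := (h i).lift (g i ≫ t) ⟨c i⟩ (by
        rw [hqi, (sq i).w, hq, map_comp_apply, ← hq, hz, ← map_comp_apply])
      exact ⟨k, hk1, congrArg ULift.down hk2⟩
    choose k hk1 hk2 using h1
    obtain ⟨⟨l⟩, hl⟩ := exists_glue_pieces U z sq hg ((yon S).obj (sig V))
      (fun i => ⟨k i ≫ sigι V i⟩)
    have hl' : ∀ i, g i ≫ l = k i ≫ sigι V i := fun i => congrArg ULift.down (hl i)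
    refine ⟨l, ?_, ?_⟩
    · apply Quot.hom_ext_fam hg
      intro i
      rw [← Category.assoc, hl', Category.assoc, sigι_desc, hk1]
    · apply congrArg ULift.up
      change l ≫ sigDesc _ = z
      apply Quot.hom_ext_fam hg
      intro i
      rw [← Category.assoc, hl', Category.assoc, sigι_desc, ← Category.assoc, hk2, (sq i).w]

end K594.FamRep
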