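import Groth.Agent.AlgSp.K594.RepDesc
import Groth.Agent.AlgSp.K594.Basic
import Mathlib.CategoryTheory.ShrinkYoneda

/-!
# The fibre of a map of sheaves along a section, as a presheaf on `Over U.left`, and fppf descent of
representability

* `fib f y` : the presheaf `T ↦ {x ∈ F(T) | f x = y|T}` on `Over U.left`.
* `exists_isRep_of_cov` : `f : F ⟶ G`, `y ∈ G(U)`, `g : U' ⟶ U` a cover; if the pullback of `f` along
  `y|U'` is represented by `V'` separated, locally quasi-finite and locally of finite type over `U'`, then the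
  pullback of `f` along `y` is representable.
-/

set_option autoImplicit false
set_option backward.isDefEq.respectTransparency.types false
universe u
open CategoryTheory CategoryTheory.Limits AlgebraicGeometry Opposite AlgSp

namespace K594.FibSh

open K594.Elem K594.Cover
open Groth.Agent.Desc.SecPresheaf
open Groth.Agent.Picfga.OverRep (IsZarSheaf)
open Groth.Agent.Desc.SecFunctor (restr)

variable {S : Scheme.{u}} {F G : Sp S} (f : F ⟶ G) {U : Over S} (y : G.obj.obj (op U))

/-- `T ⟶ U.left` viewed over `S`. -/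
abbrev push (T : Over U.left) : Over S := Over.mk (T.hom ≫ U.hom)

/-- the structure map to `U` -/
abbrev str (T : Over U.left) : push T ⟶ U := Over.homMk T.hom rfl

/-- functoriality of `push` -/
abbrev pushMap {T' T : Over U.left} (g : T' ⟶ T) : push T' ⟶ push T :=
  Over.homMk g.left (by
    change g.left ≫ T.hom ≫ U.hom = T'.hom ≫ U.hom
    rw [← Category.assoc, Over.w g])

theorem pushMap_str {T' T : Over U.left} (g : T' ⟶ T) : pushMap g ≫ str T = str T' := by
  ext
  exact Over.w g

/-- the presheaf of lifts of `y` -/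
def fib : (Over U.left)ᵒᵖ ⥤ Type (u + 1) where
  obj T := {x : F.obj.obj (op (push T.unop)) // f.hom.app _ x = G.obj.map (str T.unop).op y}
  map g := ↾(fun x => ⟨F.obj.map (pushMap g.unop).op x.1, by
    rw [app_map, x.2, ← map_comp_apply, pushMap_str]⟩)
  map_id T := by
    ext x
    change F.obj.map (pushMap (𝟙 _)).op x.1 = x.1
    have : (pushMap (𝟙 T.unop)) = 𝟙 _ := by ext; rfl
    rw [this, map_id_apply]
  map_comp {T T' T''} g h := by
    ext x
    change F.obj.map (pushMap (h.unop ≫ g.unop)).op x.1 =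
      F.obj.map (pushMap h.unop).op (F.obj.map (pushMap g.unop).op x.1)
    have : (pushMap (h.unop ≫ g.unop)) = pushMap h.unop ≫ pushMap g.unop := by ext; rfl
    rw [this, map_comp_apply]

theorem fib_map_val {T T' : Over U.left} (g : T' ⟶ T) (x : (fib f y).obj (op T)) :
    ((fib f y).map g.op x).1 = F.obj.map (pushMap g).op x.1 := rfl

variable [FunctorToTypes.Small.{u} (fib f y)]

/-- the same presheaf, with values in `Type u` -/
noncomputable abbrev sfib : (Over U.left)ᵒᵖ ⥤ Type u := FunctorToTypes.shrink.{u} (fib f y)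

/-- the section of `F` attached to an element of `sfib` -/
noncomputable def val {T : Over U.left} (x : (sfib f y).obj (op T)) : F.obj.obj (op (push T)) :=
  ((equivShrink ((fib f y).obj (op T))).symm x).1

theorem val_prop {T : Over U.left} (x : (sfib f y).obj (op T)) :
    f.hom.app _ (val f y x) = G.obj.map (str T).op y :=
  ((equivShrink ((fib f y).obj (op T))).symm x).2

theorem val_inj {T : Over U.left} {x x' : (sfib f y).obj (op T)} (h : val f y x = val f y x') :
    x = x' :=
  (equivShrink ((fib f y).obj (op T))).symm.injective (Subtype.ext h)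

theorem exists_val {T : Over U.left} (x : F.obj.obj (op (push T)))
    (h : f.hom.app _ x = G.obj.map (str T).op y) : ∃ z : (sfib f y).obj (op T), val f y z = x :=
  ⟨equivShrink ((fib f y).obj (op T)) ⟨x, h⟩, by rw [val, Equiv.symm_apply_apply]⟩

theorem val_map {T T' : Over U.left} (g : T' ⟶ T) (x : (sfib f y).obj (op T)) :
    val f y ((sfib f y).map g.op x) = F.obj.map (pushMap g).op (val f y x) := by
  change ((equivShrink ((fib f y).obj (op T'))).symm (equivShrink _ ((fib f y).map g.op _))).1 = _
  rw [Equiv.symm_apply_apply]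
  rfl


/-- gluing for `sfib` -/
theorem glue_sfib {T : Over U.left} {ι : Type u} {V : ι → Over U.left} (g : ∀ i, V i ⟶ T)
    (hg : Fam (fun i => pushMap (g i))) (x : ∀ i, (sfib f y).obj (op (V i)))
    (hx : ∀ (i j : ι) (Z : Over U.left) (a : Z ⟶ V i) (b : Z ⟶ V j), a ≫ g i = b ≫ g j →
      (sfib f y).map a.op (x i) = (sfib f y).map b.op (x j)) :
    ∃! t : (sfib f y).obj (op T), ∀ i, (sfib f y).map (g i).op t = x i := by
  obtain ⟨t, ht, htu⟩ := hg.glue F (fun i => val f y (x i)) (by
    intro i j Z a b hab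
    have hab' : a.left ≫ (g i).left = b.left ≫ (g j).left := congrArg (fun k => k.left) hab
    have e1 : b.left ≫ (V j).hom = a.left ≫ (V i).hom := by
      rw [← Over.w (g i), ← Over.w (g j), reassoc_of% hab']
    have ea : a.left ≫ (V i).hom ≫ U.hom = Z.hom := Over.w a
    let Z' : Over U.left := Over.mk (a.left ≫ (V i).hom)
    let za : Z' ⟶ V i := Over.homMk a.left rfl
    let zb : Z' ⟶ V j := Over.homMk b.left e1
    let e : Z ⟶ push Z' := Over.homMk (𝟙 _) (by
      change 𝟙 _ ≫ (a.left ≫ (V i).hom) ≫ U.hom = Z.hom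
      rw [Category.id_comp, Category.assoc, ea])
    have h1 := hx i j Z' za zb (by ext; exact hab')
    have h2 := congrArg (fun z => F.obj.map e.op (val f y z)) h1
    simp only [val_map, ← map_comp_apply] at h2
    have ha : e ≫ pushMap za = a := by ext; exact Category.id_comp _
    have hb : e ≫ pushMap zb = b := by ext; exact Category.id_comp _
    rw [ha, hb] at h2
    exact h2)
  obtain ⟨z, hz⟩ := exists_val f y t (by
    apply hg.ext G
    intro i
    rw [← app_map, ht i, val_prop, ← map_comp_apply, pushMap_str])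
  refine ⟨z, fun i => ?_, fun z' hz' => ?_⟩
  · apply val_inj
    rw [val_map, hz, ht i]
  · apply val_inj
    rw [hz]
    apply htu
    intro i
    have := hz' i
    dsimp only
    rw [← val_map, this]

theorem isDesc_sfib {T' T : Over U.left} (g : T' ⟶ T) (hg : Cov (pushMap g)) :
    IsDesc (sfib f y) g where
  inj a b hab := by
    apply val_inj
    apply hg.ext
    rw [← val_map, ← val_map, hab]
  glue a ha := by
    obtain ⟨t, ht, -⟩ := glue_sfib f y (ι := PUnit.{u + 1}) (fun _ => g) hg.fam (fun _ => a)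
      (fun _ _ Z p q h => ha Z p q h)
    exact ⟨t, ht PUnit.unit⟩

theorem isZarSheaf_sfib : IsZarSheaf (sfib f y) := by
  intro T 𝒰 x hx
  refine glue_sfib f y 𝒰.j ⟨fun i => ?_, fun i => ?_, 𝒰.covers⟩ x hx
  · exact inferInstanceAs (Flat (𝒰.j i).left)
  · exact inferInstanceAs (LocallyOfFinitePresentation (𝒰.j i).left)

variable {f y}


/-- a representing object of the pullback of `f` along `y|U'` represents the restriction of `sfib` -/
theorem rep_restr {U' V' : Over S} (t : U' ⟶ U) {v : V' ⟶ U'} {ξ : F.obj.obj (op V')}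
    (h : IsRep f (G.obj.map t.op y) v ξ) :
    Nonempty ((restr t.left (sfib f y)).RepresentableBy (Over.mk v.left)) := by
  have eV : push ((Over.map t.left).obj (Over.mk v.left)) = Over.mk ((v.left ≫ t.left) ≫ U.hom) := rfl
  let e : push ((Over.map t.left).obj (Over.mk v.left)) ⟶ V' := Over.homMk (𝟙 V'.left) (by
    change 𝟙 V'.left ≫ V'.hom = (v.left ≫ t.left) ≫ U.hom
    rw [Category.id_comp, Category.assoc, Over.w t, Over.w v])
  have he : e ≫ v ≫ t = str ((Over.map t.left).obj (Over.mk v.left)) := by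
    ext
    change 𝟙 _ ≫ v.left ≫ t.left = v.left ≫ t.left
    rw [Category.id_comp]
  obtain ⟨Z₀, hZ₀⟩ := exists_val f y (T := (Over.map t.left).obj (Over.mk v.left))
    (F.obj.map e.op ξ) (by
      rw [app_map, h.w, ← map_comp_apply, ← map_comp_apply, Category.assoc, he])
  refine ⟨Groth.Agent.Desc.ZarGlue.repOfUniversal (F := restr t.left (sfib f y))
    (H := Over.mk v.left) Z₀ ?_⟩
  intro T x
  let x' : F.obj.obj (op (push ((Over.map t.left).obj T))) := val f y x
  -- `push (map t T) ⟶ U'`
  let t' : push ((Over.map t.left).obj T) ⟶ U' := Over.homMk T.hom (by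
    change T.hom ≫ U'.hom = (T.hom ≫ t.left) ≫ U.hom
    rw [Category.assoc, Over.w t])
  have ht' : t' ≫ t = str ((Over.map t.left).obj T) := by
    ext
    rfl
  obtain ⟨k, hk1, hk2⟩ := h.lift t' x' (by
    rw [← map_comp_apply, ht']
    exact val_prop f y x)
  have hmap : ∀ k' : T ⟶ Over.mk v.left, ∃ (k'' : push ((Over.map t.left).obj T) ⟶ V'),
      k''.left = k'.left ∧ k'' ≫ v = t' ∧ val f y ((restr t.left (sfib f y)).map k'.op Z₀) =
        F.obj.map k''.op ξ := by
    intro k'
    refine ⟨pushMap ((Over.map t.left).map k') ≫ e, ?_, ?_, ?_⟩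
    · change k'.left ≫ 𝟙 _ = k'.left
      rw [Category.comp_id]
    · ext
      change (k'.left ≫ 𝟙 _) ≫ v.left = T.hom
      rw [Category.comp_id]
      exact Over.w k'
    · rw [map_comp_apply, ← hZ₀]
      exact val_map f y _ _
  refine ⟨Over.homMk k.left (congrArg (fun z => z.left) hk1), ?_, ?_⟩
  · apply val_inj
    obtain ⟨k'', h1, h2, h3⟩ := hmap (Over.homMk k.left (congrArg (fun z => z.left) hk1))
    dsimp only
    rw [h3]
    have : k'' = k := by ext; exact h1
    rw [this, hk2]
  · intro l hl
    obtain ⟨k'', h1, h2, h3⟩ := hmap l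
    dsimp only at hl
    rw [hl] at h3
    have : k = k'' := by
      apply h.inj
      · rw [hk1, h2]
      · rw [hk2]; exact h3
    ext
    refine h1.symm.trans ?_
    exact congrArg (fun z => z.left) this.symm

/-- a representation of `sfib` gives a representing object -/
theorem isRep_of_rep {E : Over U.left} (r : (sfib f y).RepresentableBy E) :
    ∃ ξ : F.obj.obj (op (push E)), IsRep f y (str E) ξ := by
  let z := r.homEquiv (𝟙 E)
  have hz : ∀ {T : Over U.left} (k : T ⟶ E), r.homEquiv k = (sfib f y).map k.op z := by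
    intro T k
    rw [← r.homEquiv_comp, Category.comp_id]
  refine ⟨val f y z, val_prop f y z, fun {T} a b hab h => ?_, fun {T} t x hx => ?_⟩
  · -- view `T` over `U`
    let T' : Over U.left := Over.mk (a.left ≫ E.hom)
    have hab' : b.left ≫ E.hom = a.left ≫ E.hom := (congrArg (fun k => k.left) hab).symm
    let a' : T' ⟶ E := Over.homMk a.left rfl
    let b' : T' ⟶ E := Over.homMk b.left hab'
    let e : push T' ⟶ T := Over.homMk (𝟙 _) (by
      change 𝟙 _ ≫ T.hom = (a.left ≫ E.hom) ≫ U.hom
      rw [Category.id_comp, Category.assoc]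
      exact (Over.w a).symm)
    have ha : pushMap a' = e ≫ a := by ext; exact (Category.id_comp _).symm
    have hb : pushMap b' = e ≫ b := by ext; exact (Category.id_comp _).symm
    have : a' = b' := by
      apply r.homEquiv.injective
      rw [hz, hz]
      apply val_inj
      rw [val_map, val_map, ha, hb, map_comp_apply, map_comp_apply, h]
    ext
    exact congrArg (fun k => k.left) this
  · let T' : Over U.left := Over.mk t.left
    let e : push T' ⟶ T := Over.homMk (𝟙 _) (by
      change 𝟙 _ ≫ T.hom = t.left ≫ U.hom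
      rw [Category.id_comp, Over.w t])
    let e' : T ⟶ push T' := Over.homMk (𝟙 _) (by
      change 𝟙 _ ≫ t.left ≫ U.hom = T.hom
      rw [Category.id_comp, Over.w t])
    have he : e' ≫ e = 𝟙 _ := by ext; exact Category.id_comp _
    obtain ⟨x', hx'⟩ := exists_val f y (T := T') (F.obj.map e.op x) (by
      rw [app_map, hx, ← map_comp_apply]
      apply map_eq_of_eq
      ext
      exact Category.id_comp _)
    let k : T' ⟶ E := r.homEquiv.symm x'
    have hk : (sfib f y).map k.op z = x' := by
      rw [← hz, Equiv.apply_symm_apply]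
    refine ⟨e' ≫ pushMap k, ?_, ?_⟩
    · ext
      change (𝟙 _ ≫ k.left) ≫ E.hom = t.left
      rw [Category.id_comp]
      exact Over.w k
    · rw [map_comp_apply, ← val_map, hk, hx', ← map_comp_apply, he, map_id_apply]

omit [FunctorToTypes.Small.{u} (fib f y)] in
/-- smallness -/
theorem small_fib {U' V' : Over S} {t : U' ⟶ U} (ht : Cov t) {v : V' ⟶ U'} {ξ : F.obj.obj (op V')}
    (h : IsRep f (G.obj.map t.op y) v ξ) : FunctorToTypes.Small.{u} (fib f y) := by
  rintro ⟨T⟩
  obtain ⟨T', g', h', sq, hg'⟩ := ht.exists_baseChange (str T)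
  have key : ∀ x : (fib f y).obj (op T), ∃ k : T' ⟶ V', F.obj.map k.op ξ =
      F.obj.map g'.op x.1 := by
    intro x
    obtain ⟨k, hk1, hk2⟩ := h.lift h' (F.obj.map g'.op x.1) (by
      rw [app_map, x.2, ← map_comp_apply, ← map_comp_apply, sq.w])
    exact ⟨k, hk2⟩
  choose φ hφ using key
  refine small_of_injective (f := φ) ?_
  intro a b hab
  apply Subtype.ext
  apply hg'.ext
  rw [← hφ, ← hφ, hab]

end K594.FibSh

namespace K594.FppfRep

open K594.Elem K594.Cover K594.FibSh K594.Basic

variable {S : Scheme.{u}} {F G : Sp S} {f : F ⟶ G}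

/-- fppf descent of representing objects: separated and locally quasi-finite case. -/
theorem exists_isRep_of_cov {U : Over S} {y : G.obj.obj (op U)} {U' V' : Over S} {t : U' ⟶ U}
    (ht : Cov t) {v : V' ⟶ U'} {ξ : F.obj.obj (op V')} (h : IsRep f (G.obj.map t.op y) v ξ)
    (h1 : IsSeparated v.left) (h2 : LocallyQuasiFinite v.left) (h3 : LocallyOfFiniteType v.left) :
    ∃ (V : Over S) (v : V ⟶ U) (ξ : F.obj.obj (op V)), IsRep f y v ξ := by
  have := small_fib ht h
  obtain ⟨r⟩ := rep_restr t h
  obtain ⟨E, ⟨hE⟩⟩ := K594.RepDesc.exists_rep_of_fppf_local (sfib f y) (isZarSheaf_sfib f y)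
    (fun {T' T} g g1 g2 g3 => isDesc_sfib f y g ⟨g1, g2, g3⟩) (by
      intro s
      obtain ⟨s', hs'⟩ := ht.surj.surj s
      exact ⟨Over.mk t.left, ht.flat, ht.lfp, s', hs', Over.mk v.left, h1, h2, h3, ⟨r⟩⟩)
  obtain ⟨ξ', hξ'⟩ := isRep_of_rep hE
  exact ⟨_, _, ξ', hξ'⟩

/-- The class of separated, locally quasi-finite morphisms locally of finite type. -/
def Slqf : MorphismProperty Scheme.{u} :=
  fun _ _ g => IsSeparated g ∧ LocallyQuasiFinite g ∧ LocallyOfFiniteType g

theorem repWith_of_forall_cov (P : MorphismProperty Scheme.{u}) [P.IsStableUnderBaseChange]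
    [P.IsLocalAtTarget Scheme.fppfPrecoverage] (hP : P ≤ Slqf)
    (h : ∀ {U : Over S} (y : G.obj.obj (op U)), ∃ (U' : Over S) (t : U' ⟶ U) (_ : Cov t)
      (V' : Over S) (v' : V' ⟶ U') (ξ : F.obj.obj (op V')), IsRep f (G.obj.map t.op y) v' ξ ∧
        P v'.left) : RepWith P f := by
  have : P.RespectsIso := MorphismProperty.IsStableUnderBaseChange.respectsIso
  apply repWith_of_exists
  intro U y
  obtain ⟨U', t, ht, V', v', ξ', h', hv'⟩ := h y
  obtain ⟨h1, h2, h3⟩ := hP _ hv'
  obtain ⟨V, v, ξ, hξ⟩ := exists_isRep_of_cov ht h' h1 h2 h3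
  refine ⟨V, v, ξ, hξ, ?_⟩
  have sq := IsPullback.of_hasPullback v t
  obtain ⟨e, he, -⟩ := (hξ.baseChange sq).exists_iso h'
  have h4 : P (pullback.snd v t).left := by
    rw [← he, Over.comp_left]
    exact (P.cancel_left_of_respectsIso _ _).mpr hv'
  have i1 := ht.flat
  have i2 := ht.lfp
  have i3 := ht.surj
  have sq' : IsPullback (pullback.fst v t).left (pullback.snd v t).left v.left t.left :=
    sq.map (Over.forget S)
  exact of_isPullback_cov P sq' h4

/-- representing objects along pullback squares -/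
theorem isRep_of_isPullback_sq {F G H Q : Sp S} {a : F ⟶ G} {b : H ⟶ G} {b' : Q ⟶ F}
    {a' : Q ⟶ H} (sq : IsPullback b' a' a b) {U V : Over S} {x : H.obj.obj (op U)} {v : V ⟶ U}
    {ξ : Q.obj.obj (op V)} (h : IsRep a' x v ξ) :
    IsRep a (b.hom.app _ x) v (b'.hom.app _ ξ) := by
  obtain ⟨hw, hinj, hlift⟩ := (isPullback_iff _ _ _ _).1 sq
  refine ⟨?_, fun {T} k l e1 e2 => ?_, fun {T} t z hz => ?_⟩
  · rw [← comp_app, hw, comp_app, h.w, app_map]
  · apply h.inj k l e1
    apply hinj
    · rw [app_map, app_map, e2]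
    · rw [app_map, app_map, h.w, ← map_comp_apply, ← map_comp_apply, e1]
  · obtain ⟨q, hq1, hq2⟩ := hlift T z (H.obj.map t.op x) (by rw [hz, app_map])
    obtain ⟨k, hk1, hk2⟩ := h.lift t q hq2
    exact ⟨k, hk1, by rw [← app_map, hk2, hq1]⟩

/-- Descent of representability and of the property `P` along a locally surjective base change,
for `P` implying separated, locally quasi-finite and locally of finite type. -/
theorem repWith_of_isPullback (P : MorphismProperty Scheme.{u}) [P.IsStableUnderBaseChange]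
    [P.IsLocalAtTarget Scheme.fppfPrecoverage] (hP : P ≤ Slqf) {F G H : Sp S} (a : F ⟶ G)
    (b : H ⟶ G) [Sheaf.IsLocallySurjective b] {Q : Sp S} {b' : Q ⟶ F}
    {a' : Q ⟶ H} (sq : IsPullback b' a' a b) (h : RepWith P a') : RepWith P a := by
  apply repWith_of_forall_cov P hP
  intro U y
  obtain ⟨U', g, x, hg, hx⟩ := (isLocallySurjective_iff b).1 ‹_› U y
  obtain ⟨V', v', ξ, hξ, hv'⟩ := RepWith.exists_isRep h x
  refine ⟨U', g, hg, V', v', b'.hom.app _ ξ, ?_, hv'⟩
  rw [← hx]
  exact isRep_of_isPullback_sq sq hξ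

end K594.FppfRep
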