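import Groth.Agent.AlgSp.K594.IsoCrit

/-!
# Algebraization of morphisms of algebraic spaces

`exists_hom`: S10673 from the algebraization of closed subspaces, through the graph.
-/

set_option autoImplicit false
universe u
open CategoryTheory CategoryTheory.Limits AlgebraicGeometry Opposite TensorProduct
open AlgSp K598.Site K598.RepKit K598.ClFam K598.Charts
open K594.FamOps K594.AlgSch K594.AlgChart K594.AlgStep K597.ProperSub K594.ThickCl K594.AlgWrap

namespace K594.GraphAlg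

variable {A : Type u} [CommRing A] (I : Ideal A)

/-- The ideals of a transition map. -/
theorem ofClosed_t {X Xn Xm : Sp (Spec (CommRingCat.of A))} {s : X ⟶ (yon (Spec (CommRingCat.of A))).obj (Over.mk (𝟙 _))}
    {n : ℕ} {p : Xn ⟶ X} {sn : Xn ⟶ (yon _).obj (Sn I n)}
    (h : IsPullback p sn s ((yon _).map (snι I n))) {p' : Xm ⟶ X} (hp' : RepWith @IsClosedImmersion p')
    {t : Xn ⟶ Xm} (ht : t ≫ p' = p) : ∃ hc : RepWith @IsClosedImmersion t, ofClosed t hc = En I Xm n := by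
  have hp := closed_p I h
  have hm := mono_of_repWith_isClosedImmersion hp'
  have sq : IsPullback (𝟙 _) t p p' := by
    refine ⟨⟨by simp [ht]⟩, ⟨PullbackCone.IsLimit.mk _ (fun s => s.fst) (fun s => by simp) (fun s => ?_)
      (fun s m h1 _ => ?_)⟩⟩
    · rw [← cancel_mono p', Category.assoc, ht]
      exact s.condition
    · rw [← h1, Category.comp_id]
  have hc : RepWith @IsClosedImmersion t := repWith_of_isPullback sq hp
  refine ⟨hc, ?_⟩
  rw [ofClosed_pullback hp sq hc, ofClosed_p I h, pull_base]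

theorem pull_self {S : Scheme.{u}} {Y Z : Sp S} {c : Z ⟶ Y} (hc : RepWith @IsClosedImmersion c) (E : Fam Y) :
    pull c (sup (ofClosed c hc) E) = pull c E := by
  ext T g : 3
  change (ofClosed c hc).I (g ≫ c) ⊔ E.I (g ≫ c) = E.I (g ≫ c)
  rw [ofClosed_self, bot_sup_eq]

variable (A) [IsNoetherianRing A] [IsAdicComplete I A]

theorem exists_hom (H : SchHyp A I) (K : K594.AlgInd.CoverHyp A)
    {X Y : AlgSp.Space (Spec (CommRingCat.of A))} (sX : X.obj ⟶ (AlgSp.yon (Spec (CommRingCat.of A))).obj (Over.mk (𝟙 _)))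
    (sY : Y.obj ⟶ (AlgSp.yon (Spec (CommRingCat.of A))).obj (Over.mk (𝟙 _)))
    (hX : AlgSp.IsProperMor sX) (hY1 : AlgSp.IsSeparatedMor sY) (hY2 : AlgSp.IsFiniteTypeMor sY)
    (Xn : ℕ → AlgSp.Space (Spec (CommRingCat.of A))) (pX : ∀ n, Xn n ⟶ X)
    (snX : ∀ n, (Xn n).obj ⟶ (AlgSp.yon (Spec (CommRingCat.of A))).obj (Over.mk (Spec.map (CommRingCat.ofHom (Ideal.Quotient.mk (I ^ (n + 1)))))))
    (hXn : ∀ n, IsPullback (pX n).hom (snX n) sX
      ((AlgSp.yon (Spec (CommRingCat.of A))).map (Over.homMk (Spec.map (CommRingCat.ofHom (Ideal.Quotient.mk (I ^ (n + 1))))) (Category.comp_id _) :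
        (Over.mk (Spec.map (CommRingCat.ofHom (Ideal.Quotient.mk (I ^ (n + 1)))))) ⟶ Over.mk (𝟙 _))))
    (tX : ∀ n, Xn n ⟶ Xn (n + 1)) (htX : ∀ n, tX n ≫ pX (n + 1) = pX n)
    (Yn : ℕ → AlgSp.Space (Spec (CommRingCat.of A))) (pY : ∀ n, Yn n ⟶ Y)
    (snY : ∀ n, (Yn n).obj ⟶ (AlgSp.yon (Spec (CommRingCat.of A))).obj (Over.mk (Spec.map (CommRingCat.ofHom (Ideal.Quotient.mk (I ^ (n + 1)))))))
    (hYn : ∀ n, IsPullback (pY n).hom (snY n) sY
      ((AlgSp.yon (Spec (CommRingCat.of A))).map (Over.homMk (Spec.map (CommRingCat.ofHom (Ideal.Quotient.mk (I ^ (n + 1))))) (Category.comp_id _) :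
        (Over.mk (Spec.map (CommRingCat.ofHom (Ideal.Quotient.mk (I ^ (n + 1)))))) ⟶ Over.mk (𝟙 _))))
    (tY : ∀ n, Yn n ⟶ Yn (n + 1)) (htY : ∀ n, tY n ≫ pY (n + 1) = pY n)
    (g : ∀ n, Xn n ⟶ Yn n) (hg1 : ∀ n, (g n).hom ≫ snY n = snX n)
    (hg2 : ∀ n, tX n ≫ g (n + 1) = g n ≫ tY n) :
    ∃ gg : X ⟶ Y, gg.hom ≫ sY = sX ∧ ∀ n, pX n ≫ gg = g n ≫ pY n := by
  have hT : IsAlgSpace ((yon (Spec (CommRingCat.of A))).obj (Over.mk (𝟙 _))) := IsAlgSpace.yon_obj _
  have sqP := IsPullback.of_hasPullback sX sY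
  set P := pullback sX sY with hP
  have hPs : IsAlgSpace P := K613.Chart.isAlgSpace_pullback X.property Y.property hT _ _
  have f1 : IsSeparatedMor (pullback.fst sX sY) :=
    K595.DiagRel.isSeparatedMor_isStableUnderBaseChange.of_isPullback sqP.flip hY1
  have f2 : IsFiniteTypeMor (pullback.fst sX sY) :=
    ⟨K597.locP_bc K597.etLoc_lft sqP.flip Y.property.hasAtlas hT.hasAtlas X.property.hasAtlas hY2.1,
      K596.QC.isQuasiCompactMor_of_isPullback sqP.flip hY2.2⟩
  let sP : P ⟶ (yon (Spec (CommRingCat.of A))).obj (Over.mk (𝟙 _)) := pullback.fst sX sY ≫ sX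
  have hsP1 : IsSeparatedMor sP := K594.AlgInd.isSeparatedMor_comp f1 hX.1
  have hsP2 : IsFiniteTypeMor sP := K594.AlgInd.isFiniteTypeMor_comp hPs X.property hT f2 hX.2.1
  have hp : ∀ n, RepWith @IsClosedImmersion (pX n).hom := fun n => closed_p I (hXn n)
  -- the graphs
  have hw : ∀ n, (pX n).hom ≫ sX = ((g n).hom ≫ (pY n).hom) ≫ sY := fun n => by
    rw [(hXn n).w, Category.assoc, (hYn n).w, ← Category.assoc, hg1]
  let c : ∀ n, (Xn n).obj ⟶ P := fun n => pullback.lift _ _ (hw n)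
  have hc1 : ∀ n, c n ≫ pullback.fst sX sY = (pX n).hom := fun n => pullback.lift_fst _ _ _
  have hc2 : ∀ n, c n ≫ pullback.snd sX sY = (g n).hom ≫ (pY n).hom := fun n => pullback.lift_snd _ _ _
  have hc : ∀ n, RepWith @IsClosedImmersion (c n) := fun n =>
    K613.Diag.repWith_of_comp (g := pullback.fst sX sY) (by rw [hc1]; exact hp n) f1
  have htp : ∀ n, (tX n).hom ≫ (pX (n + 1)).hom = (pX n).hom := fun n => congrArg (·.hom) (htX n)
  have htc : ∀ n, (tX n).hom ≫ c (n + 1) = c n := fun n => by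
    apply pullback.hom_ext
    · rw [Category.assoc, hc1, hc1, htp]
    · rw [Category.assoc, hc2, hc2, ← Category.assoc]
      have e1 : (tX n).hom ≫ (g (n + 1)).hom = (g n).hom ≫ (tY n).hom := congrArg (·.hom) (hg2 n)
      have e2 : (tY n).hom ≫ (pY (n + 1)).hom = (pY n).hom := congrArg (·.hom) (htY n)
      rw [e1, Category.assoc, e2]
  have ha : ∀ n, ofClosed _ (hc n) = sup (ofClosed _ (hc (n + 1))) (En I P n) := by
    intro n
    obtain ⟨k1, k2⟩ := ofClosed_t I (hXn n) (hp (n + 1)) (htp n)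
    have hm := mono_of_repWith_isClosedImmersion (hc (n + 1))
    apply eq_of_pull_eq (hc (n + 1))
    · rw [pull_self, pull_base]
      refine Eq.trans ?_ k2
      have sq : IsPullback (𝟙 _) (tX n).hom (c n) (c (n + 1)) := by
        refine ⟨⟨by rw [htc, Category.id_comp]⟩, ⟨PullbackCone.IsLimit.mk _ (fun s => s.fst) (fun s => by simp) (fun s => ?_)
          (fun s m h1 _ => ?_)⟩⟩
        · rw [← cancel_mono (c (n + 1)), Category.assoc, htc]
          exact s.condition
        · rw [← h1, Category.comp_id]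
      exact (ofClosed_pullback (hc n) sq k1).symm
    · exact (exists_hom_iff_le (hc n) (hc (n + 1))).1 ⟨_, htc n⟩
    · exact FamOps.le_sup_left _ _
  have hpr : IsProperMor ((ofClosed _ (hc 0)).ι ≫ sP) := by
    obtain ⟨e, he, -⟩ := exists_iso_of_eq (ofClosed _ (hc 0)).repWith_ι (hc 0) (by rw [ofClosed_ι])
    have h3 : (ofClosed _ (hc 0)).ι ≫ sP = (e.hom ≫ (pX 0).hom) ≫ sX := by
      rw [← he, ← hc1 0]
      simp only [Category.assoc]
      rfl
    rw [h3]
    have hA := (ofClosed _ (hc 0)).isAlgSpace_sheaf hPs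
    exact isProperMor_comp hA X.property hT (isProperMor_of_closed X.property
      (MorphismProperty.comp_mem _ _ _ (repWith_of_isIso e.hom) (hp 0))) hX
  obtain ⟨z, hz, hzp⟩ := K594.AlgInd.main I H K hPs sP hsP1 hsP2 (fun n => ofClosed _ (hc n)) ha hpr
  have hZs := z.isAlgSpace_sheaf hPs
  have hmz := mono_of_repWith_isClosedImmersion z.repWith_ι
  -- the maps `X_n ⟶ Z`
  have hq : ∀ n, ∃ q : (Xn n).obj ⟶ z.sheaf, q ≫ z.ι = c n ∧ IsPullback q (𝟙 _) (z.ι ≫ pullback.fst sX sY) (pX n).hom := by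
    intro n
    have sqn := IsPullback.of_hasPullback (pullback.fst sX sY) (pX n).hom
    have hd : RepWith @IsClosedImmersion (pullback.fst (pullback.fst sX sY) (pX n).hom) :=
      repWith_of_isPullback sqn.flip (hp n)
    have hdE : ofClosed _ hd = En I P n := by
      rw [ofClosed_pullback (hp n) sqn.flip hd, ofClosed_p I (hXn n), pull_base]
    let v : (Xn n).obj ⟶ pullback (pullback.fst sX sY) (pX n).hom := pullback.lift (c n) (𝟙 _) (by
      rw [hc1, Category.id_comp])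
    have hv1 : v ≫ pullback.fst _ _ = c n := pullback.lift_fst _ _ _
    have hv2 : v ≫ pullback.snd _ _ = 𝟙 _ := pullback.lift_snd _ _ _
    obtain ⟨q, sq1⟩ := isPullback_of_fam z.repWith_ι hd (z := v) (by rw [hv1]; exact hc n) (by
      rw [ofClosed_ι, hdE, hz n]
      congr 1)
    have sq2 := sq1.paste_vert sqn
    rw [hv2] at sq2
    exact ⟨q, by rw [sq1.w, hv1], sq2⟩
  choose q hq1 hq2 using hq
  have hπ : IsProperMor (z.ι ≫ pullback.fst sX sY) :=
    K597.ProperCancel.isProperMor_of_comp hZs X.property hT (g := sX) (by rw [Category.assoc]; exact hzp) hX.1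
  have hiso := K594.IsoCrit.isIso_of_formal I X.property hZs (fun n => (Xn n).property) hX hπ hXn hq2
  refine ⟨⟨inv (z.ι ≫ pullback.fst sX sY) ≫ z.ι ≫ pullback.snd sX sY⟩, ?_, fun n => ?_⟩
  · change (inv (z.ι ≫ pullback.fst sX sY) ≫ z.ι ≫ pullback.snd sX sY) ≫ sY = sX
    rw [Category.assoc, Category.assoc, ← pullback.condition, ← Category.assoc z.ι, IsIso.inv_hom_id_assoc]
  · apply ObjectProperty.hom_ext
    change (pX n).hom ≫ inv (z.ι ≫ pullback.fst sX sY) ≫ z.ι ≫ pullback.snd sX sY = (g n).hom ≫ (pY n).hom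
    have e : (pX n).hom = q n ≫ z.ι ≫ pullback.fst sX sY := by rw [(hq2 n).w, Category.id_comp]
    rw [e, Category.assoc, IsIso.hom_inv_id_assoc, ← Category.assoc, hq1, hc2]

end K594.GraphAlg
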