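import Groth.Agent.AlgSp.K594.FinSch
import Groth.Agent.AlgSp.K594.GraphAlg

/-!
# Formal finite spaces: base change, algebraizability

* `isV_En_of`: characterization of `V(I ^ (n + 1))` by factorizations.
* `FSys.bc`: base change; `FSys.Alg`: algebraizability; `alg_scheme`: the scheme case.
-/

set_option autoImplicit false
universe u
open CategoryTheory CategoryTheory.Limits AlgebraicGeometry Opposite
open AlgSp K598.Site K598.RepKit K598.ClFam K598.Charts
open K594.FamOps K594.AlgSch K594.AlgChart K594.AlgStep K594.VKit K594.FinSch K597.ProperSub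

namespace K594.FinBC

variable {A : Type u} [CommRing A] {I : Ideal A}

section V

variable {G H Z : Sp (Spec (CommRingCat.of A))} {n : ℕ}

theorem bot_of_hom (f : Z ⟶ G) (h : En I G n = base G ⊥) : En I Z n = base Z ⊥ := by
  rw [← pull_En I f, h]
  rfl

theorem isV_lift {k : G ⟶ H} (hk : IsV k (En I H n)) (f : Z ⟶ H) (h : En I Z n = base Z ⊥) : ∃ l, l ≫ k = f :=
  (hk.factors f).2 h

theorem isV_En_of {k : G ⟶ H} [Mono k] (hbot : En I G n = base G ⊥)
    (h : ∀ (Z : Sp (Spec (CommRingCat.of A))) (f : Z ⟶ H), En I Z n = base Z ⊥ → ∃ l, l ≫ k = f) : IsV k (En I H n) := by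
  have h1 := isV_ι (En I H n)
  obtain ⟨l, hl⟩ := isV_lift h1 k hbot
  obtain ⟨l', hl'⟩ := h _ (En I H n).ι (En_bot I h1)
  have := h1.mono
  let e : G ≅ (En I H n).sheaf := ⟨l, l', by rw [← cancel_mono k, Category.assoc, hl', hl, Category.id_comp],
    by rw [← cancel_mono (En I H n).ι, Category.assoc, hl, hl', Category.id_comp]⟩
  have h2 := h1.iso_comp e
  have h3 : e.hom ≫ (En I H n).ι = k := hl
  rwa [h3] at h2

theorem ofClosed_of_isV {k : G ⟶ H} {r : H ⟶ Z} (hr : RepWith @IsClosedImmersion r) (hk : IsV k (En I H n))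
    (hkr : RepWith @IsClosedImmersion (k ≫ r)) : ofClosed (k ≫ r) hkr = sup (ofClosed r hr) (En I Z n) := by
  obtain ⟨a, sq⟩ := (isV_ι (En I Z n)).sq (f := r) (k' := k) hk
  have h1 := K594.AlgWrap.ofClosed_comp_pullback hr (En I Z n).repWith_ι sq.flip hkr
  rw [ofClosed_ι] at h1
  exact h1

/-- Closed subspaces cut out in a closed subspace. -/
theorem isV_of_sup {r : G ⟶ Z} {hr : RepWith @IsClosedImmersion r} {z : Fam Z} (h : sup z (En I Z n) = ofClosed r hr) :
    ∃ κ : G ⟶ z.sheaf, κ ≫ z.ι = r ∧ IsV κ (En I z.sheaf n) := by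
  obtain ⟨κ, hκ⟩ := (exists_hom_iff_le hr z.repWith_ι).2 (by rw [ofClosed_ι, ← h]; exact FamOps.le_sup_left _ _)
  refine ⟨κ, hκ, ?_⟩
  have h1 : IsV (κ ≫ z.ι) (ofClosed r hr) := by
    rw [hκ]
    exact ⟨hr, rfl⟩
  have h2 := h1.of_comp
  rw [← h] at h2
  have h3 : pull z.ι (sup z (En I Z n)) = En I z.sheaf n := by
    have := K594.GraphAlg.pull_self z.repWith_ι (En I Z n)
    rw [ofClosed_ι] at this
    exact this
  rwa [h3] at h2

end V

namespace FSys

variable {X X' : Sp (Spec (CommRingCat.of A))} (F : FSys I X)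

theorem bot (n : ℕ) : En I (F.Y n) n = base (F.Y n) ⊥ := En_bot I (F.isV n)

/-- Base change of formal finite spaces. -/
noncomputable def bc (v : X' ⟶ X) : FSys I X' where
  Y n := pullback (F.j n) v
  j n := pullback.snd _ _
  fin n := repWith_of_isPullback (IsPullback.of_hasPullback (F.j n) v) (F.fin n)
  y n := pullback.lift (pullback.fst _ _ ≫ F.y n) (pullback.snd _ _) (by
    rw [Category.assoc, F.w, pullback.condition])
  w n := pullback.lift_snd _ _ _
  isV n := by
    have hm := (F.isV n).mono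
    have hmono : Mono (pullback.lift (f := F.j (n + 1)) (g := v) (pullback.fst (F.j n) v ≫ F.y n) (pullback.snd _ _) (by
        rw [Category.assoc, F.w, pullback.condition])) := ⟨fun a b hab => by
      apply pullback.hom_ext
      · have := congrArg (fun t => t ≫ pullback.fst _ _) hab
        simp only [Category.assoc, pullback.lift_fst] at this
        rw [← Category.assoc, ← Category.assoc, cancel_mono] at this
        exact this
      · have := congrArg (fun t => t ≫ pullback.snd _ _) hab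
        simp only [Category.assoc, pullback.lift_snd] at this
        exact this⟩
    refine isV_En_of (bot_of_hom (pullback.fst _ _) (bot F n)) fun Z f hZ => ?_
    obtain ⟨l, hl⟩ := isV_lift (F.isV n) (f ≫ pullback.fst _ _) hZ
    refine ⟨pullback.lift l (f ≫ pullback.snd _ _) ?_, ?_⟩
    · rw [← F.w n, ← Category.assoc, hl, Category.assoc, Category.assoc, pullback.condition]
    · apply pullback.hom_ext
      · rw [Category.assoc, pullback.lift_fst, ← Category.assoc, pullback.lift_fst, hl]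
      · rw [Category.assoc, pullback.lift_snd, pullback.lift_snd]

/-- Algebraizability. -/
def Alg (s : X ⟶ (yon (Spec (CommRingCat.of A))).obj (Over.mk (𝟙 _))) : Prop :=
  ∃ (Z : Sp (Spec (CommRingCat.of A))) (f : Z ⟶ X) (q : ∀ n, F.Y n ⟶ Z), RepWith @IsFinite f ∧ IsProperMor (f ≫ s) ∧
    (∀ n, q n ≫ f = F.j n) ∧ (∀ n, F.y n ≫ q (n + 1) = q n) ∧ ∀ n, IsV (q n) (En I Z n)

end FSys

/-- The scheme case. -/
theorem alg_scheme (H : FinHyp A I) {V : Over (Spec (CommRingCat.of A))} (F : FSys I ((yon _).obj V))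
    (s : (yon _).obj V ⟶ (yon (Spec (CommRingCat.of A))).obj (Over.mk (𝟙 _)))
    (hs1 : IsSeparatedMor s) (hs2 : IsFiniteTypeMor s) (hp : IsProperMor (F.j 0 ≫ s)) : FSys.Alg F s := by
  have hV : IsAlgSpace ((yon (Spec (CommRingCat.of A))).obj V) := IsAlgSpace.yon_obj _
  obtain ⟨k, hk, e⟩ := exists_structure s (𝟙 ((yon _).obj V))
  rw [Category.id_comp] at hk
  have f1 : IsSeparated V.hom := by
    rw [← e]
    rw [hk] at hs1
    exact (isSeparatedMor_yon_map_iff k).1 hs1
  have f2 : LocallyOfFiniteType V.hom := by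
    rw [← e]
    rw [hk] at hs2
    exact locP_yon_map hs2.1
  have f3 : QuasiCompact V.hom := by
    rw [← e]
    rw [hk] at hs2
    exact (repWith_yon_map_iff _ k).1 (K596.QC.repWith_of_isQuasiCompactMor (representable_yon_map k) hs2.2)
  -- the schemes
  let P : ℕ → Over (Spec (CommRingCat.of A)) := fun n => (F.fin n).1.pullback (𝟙 _)
  let π : ∀ n, P n ⟶ V := fun n => (F.fin n).1.snd (𝟙 _)
  let ι : ∀ n, (yon _).obj (P n) ⟶ F.Y n := fun n => (F.fin n).1.fst (𝟙 _)
  have sq : ∀ n, IsPullback (ι n) ((yon _).map (π n)) (F.j n) (𝟙 _) := fun n => (F.fin n).1.isPullback (𝟙 _)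
  have hι : ∀ n, IsIso (ι n) := fun n => (sq n).isIso_fst_of_isIso
  let t : ∀ n, P n ⟶ P (n + 1) := fun n => (yon _).preimage (ι n ≫ F.y n ≫ inv (ι (n + 1)))
  have ht : ∀ n, (yon _).map (t n) = ι n ≫ F.y n ≫ inv (ι (n + 1)) := fun n => (yon _).map_preimage _
  have hπ' : ∀ n, (yon _).map (π n) = ι n ≫ F.j n := fun n => by
    rw [(sq n).w, Category.comp_id]
  have htV : ∀ n, IsV ((yon _).map (t n)) (En I ((yon _).obj (P (n + 1))) n) := fun n => by
    have hm : Mono ((yon _).map (t n)) := by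
      rw [ht]
      have := (F.isV n).mono
      infer_instance
    refine isV_En_of (bot_of_hom (ι n) (FSys.bot F n)) fun Z f hZ => ?_
    obtain ⟨l, hl⟩ := isV_lift (F.isV n) (f ≫ ι (n + 1)) hZ
    refine ⟨l ≫ inv (ι n), ?_⟩
    rw [ht, Category.assoc, IsIso.inv_hom_id_assoc, ← Category.assoc, hl, Category.assoc, IsIso.hom_inv_id,
      Category.comp_id]
  obtain ⟨W, i, ω, g1, g2, g3, g4, g5, g6⟩ := exists_fin I H P π (fun n => (F.fin n).2 _ _ _ (sq n)) t (fun n => by
      apply (yon _).map_injective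
      rw [Functor.map_comp, ht, hπ', hπ', Category.assoc, Category.assoc, IsIso.inv_hom_id_assoc, F.w])
    (fun n => (isV_yon.1 (htV n)).1) (fun n => (isV_yon.1 (htV n)).2) (by
      apply isProper_of_mor (g := ι 0 ≫ F.j 0) s
      rw [Category.assoc]
      exact isProperMor_comp (IsAlgSpace.yon_obj _) (F.alg hV 0) (IsAlgSpace.yon_obj _)
        (isProperMor_of_closed (F.alg hV 0) (repWith_of_isIso (ι 0))) hp)
  refine ⟨(yon _).obj W, (yon _).map i, fun n => inv (ι n) ≫ (yon _).map (ω n), (repWith_yon_map_iff _ i).2 g1,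
    isProperMor_of_isProper s g2, fun n => ?_, fun n => ?_, fun n => ?_⟩
  · rw [Category.assoc, ← Functor.map_comp, g3, hπ', IsIso.inv_hom_id_assoc]
  · change F.y n ≫ inv (ι (n + 1)) ≫ (yon _).map (ω (n + 1)) = inv (ι n) ≫ (yon _).map (ω n)
    rw [← g4 n, Functor.map_comp, ht]
    simp
  · have h1 : IsV ((yon _).map (ω n)) (En I ((yon _).obj W) n) := isV_yon.2 ⟨g5 n, g6 n⟩
    exact h1.iso_comp (asIso (ι n)).symm

end K594.FinBC
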