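import Groth.Agent.AlgSp.K594.FinR
import Groth.Agent.AlgSp.K602.FacLim

/-!
# Algebraization of morphisms in terms of `IsV`; uniqueness
-/

set_option autoImplicit false
universe u
open CategoryTheory CategoryTheory.Limits AlgebraicGeometry Opposite
open AlgSp K598.Site K598.RepKit K598.ClFam K598.Charts
open K594.FamOps K594.AlgSch K594.AlgChart K594.AlgStep K594.VKit K594.FinSch K594.FinBC K597.ProperSub

namespace K594.FinHom

variable {A : Type u} [CommRing A] {I : Ideal A}

theorem hom_yon_ext {Z : Sp (Spec (CommRingCat.of A))} (a b : Z ⟶ (yon (Spec (CommRingCat.of A))).obj (Over.mk (𝟙 _))) :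
    a = b := by
  apply hom_ext_yon
  intro T g
  obtain ⟨x, hx⟩ := (yon _).map_surjective (g ≫ a)
  obtain ⟨y, hy⟩ := (yon _).map_surjective (g ≫ b)
  rw [← hx, ← hy]
  congr 1
  ext1
  have h1 : x.left ≫ 𝟙 _ = T.hom := Over.w x
  have h2 : y.left ≫ 𝟙 _ = T.hom := Over.w y
  exact (Category.comp_id _).symm.trans (h1.trans (h2.symm.trans (Category.comp_id _)))

theorem isV_snι (n : ℕ) : IsV ((yon _).map (K594.AlgWrap.snι I n)) (En I _ n) := by
  refine ⟨K594.AlgWrap.closed_snι I n, ?_⟩
  ext T g : 3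
  exact K594.AlgWrap.ofClosed_snι I n g

/-- The cartesian square of `X_n`. -/
theorem exists_sq {X Xn : Sp (Spec (CommRingCat.of A))} (s : X ⟶ (yon (Spec (CommRingCat.of A))).obj (Over.mk (𝟙 _)))
    {n : ℕ} {p : Xn ⟶ X} (hp : IsV p (En I X n)) :
    ∃ sn : Xn ⟶ (yon _).obj (K594.AlgWrap.Sn I n), IsPullback p sn s ((yon _).map (K594.AlgWrap.snι I n)) := by
  obtain ⟨a, sq⟩ := (isV_snι (I := I) n).sq (f := s) (k' := p) hp
  exact ⟨a, sq.flip⟩

variable (A I) in
theorem exists_hom [IsNoetherianRing A] [IsAdicComplete I A] (H : SchHyp A I) (K : K594.AlgInd.CoverHyp A)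
    {X Y : Sp (Spec (CommRingCat.of A))} (hX : IsAlgSpace X) (hY : IsAlgSpace Y)
    (sX : X ⟶ (yon (Spec (CommRingCat.of A))).obj (Over.mk (𝟙 _)))
    (sY : Y ⟶ (yon (Spec (CommRingCat.of A))).obj (Over.mk (𝟙 _))) (hXp : IsProperMor sX) (hY1 : IsSeparatedMor sY)
    (hY2 : IsFiniteTypeMor sY) (Xn : ℕ → Sp (Spec (CommRingCat.of A))) (p : ∀ n, Xn n ⟶ X)
    (hp : ∀ n, IsV (p n) (En I X n)) (t : ∀ n, Xn n ⟶ Xn (n + 1)) (ht : ∀ n, t n ≫ p (n + 1) = p n)
    (f : ∀ n, Xn n ⟶ Y) (hf : ∀ n, t n ≫ f (n + 1) = f n) : ∃ g : X ⟶ Y, ∀ n, p n ≫ g = f n := by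
  choose snX hXn using fun n => exists_sq sX (hp n)
  have hE : ∀ n, IsV (En I Y n).ι (En I Y n) := fun n => isV_ι _
  choose snY hYn using fun n => exists_sq sY (hE n)
  choose gg hgg using fun n => isV_lift (hE n) (f n) (En_bot I (hp n))
  choose tY htY using fun n => isV_lift (hE (n + 1)) (En I Y n).ι (by
    have h1 := En_bot I (hE n)
    refine le_antisymm ?_ ?_
    · exact (En_antitone I _ n).trans h1.le
    · intro T g
      change (⊥ : (Spec (CommRingCat.of A)).IdealSheafData).comap T.hom ≤ _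
      rw [Scheme.IdealSheafData.comap_bot]
      exact bot_le)
  have hm : ∀ n, Mono (En I Y n).ι := fun n => (hE n).mono
  obtain ⟨g, -, hg⟩ := K594.GraphAlg.exists_hom A I H K (X := ⟨X, hX⟩) (Y := ⟨Y, hY⟩) sX sY hXp hY1 hY2
    (fun n => ⟨Xn n, (hp n).alg hX⟩) (fun n => ⟨p n⟩) snX hXn (fun n => ⟨t n⟩)
    (fun n => ObjectProperty.hom_ext _ (ht n))
    (fun n => ⟨(En I Y n).sheaf, (hE n).alg hY⟩) (fun n => ⟨(En I Y n).ι⟩) snY hYn (fun n => ⟨tY n⟩)
    (fun n => ObjectProperty.hom_ext _ (htY n)) (fun n => ⟨gg n⟩) (fun n => by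
      have hm' : Mono ((yon (Spec (CommRingCat.of A))).map (K594.AlgWrap.snι I n)) := (isV_snι (I := I) n).mono
      rw [← cancel_mono ((yon (Spec (CommRingCat.of A))).map (K594.AlgWrap.snι I n))]
      exact hom_yon_ext _ _) (fun n => by
      apply ObjectProperty.hom_ext
      change t n ≫ gg (n + 1) = gg n ≫ tY n
      rw [← cancel_mono (En I Y (n + 1)).ι, Category.assoc, Category.assoc, hgg, htY, hgg, hf])
  refine ⟨g.hom, fun n => ?_⟩
  have h1 := congrArg (·.hom) (hg n)
  change p n ≫ g.hom = gg n ≫ (En I Y n).ι at h1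
  rw [h1, hgg]

variable (A I) in
theorem hom_ext [IsNoetherianRing A] [IsAdicComplete I A]
    {X Y : Sp (Spec (CommRingCat.of A))} (hX : IsAlgSpace X)
    (sX : X ⟶ (yon (Spec (CommRingCat.of A))).obj (Over.mk (𝟙 _)))
    (sY : Y ⟶ (yon (Spec (CommRingCat.of A))).obj (Over.mk (𝟙 _))) (hXp : IsProperMor sX) (hY1 : IsSeparatedMor sY)
    (Xn : ℕ → Sp (Spec (CommRingCat.of A))) (p : ∀ n, Xn n ⟶ X)
    (hp : ∀ n, IsV (p n) (En I X n)) {g g' : X ⟶ Y} (h : ∀ n, p n ≫ g = p n ≫ g') : g = g' := by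
  choose snX hXn using fun n => exists_sq sX (hp n)
  have hi : RepWith @IsClosedImmersion (equalizer.ι g g') := by
    have h1 : RepWith @IsClosedImmersion (pullback.diagonal sY) := hY1
    have sq : IsPullback (equalizer.ι g g' ≫ g) (equalizer.ι g g') (pullback.diagonal sY)
        (pullback.lift g g' (hom_yon_ext _ _)) := by
      refine ⟨⟨?_⟩, ⟨PullbackCone.IsLimit.mk _ (fun c => equalizer.lift c.snd ?_) (fun c => ?_) (fun c => ?_)
        (fun c m _ h2 => ?_)⟩⟩
      · apply pullback.hom_ext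
        · rw [Category.assoc, pullback.diagonal_fst, Category.comp_id, Category.assoc, pullback.lift_fst]
        · rw [Category.assoc, pullback.diagonal_snd, Category.comp_id, Category.assoc, pullback.lift_snd,
            equalizer.condition]
      · have e1 := congrArg (fun k => k ≫ pullback.fst _ _) c.condition
        have e2 := congrArg (fun k => k ≫ pullback.snd _ _) c.condition
        simp only [Category.assoc, pullback.diagonal_fst, pullback.diagonal_snd, pullback.lift_fst, pullback.lift_snd,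
          Category.comp_id] at e1 e2
        rw [← e1, ← e2]
      · have e1 := congrArg (fun k => k ≫ pullback.fst _ _) c.condition
        simp only [Category.assoc, pullback.diagonal_fst, pullback.lift_fst, Category.comp_id] at e1
        rw [← Category.assoc, equalizer.lift_ι, e1]
      · rw [equalizer.lift_ι]
      · apply equalizer.hom_ext
        rw [h2, equalizer.lift_ι]
    exact repWith_of_isPullback sq h1
  have hZ := isAlgSpace_of_repWith_isClosedImmersion hi hX
  have hiso : IsIso (equalizer.ι g g') := by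
    refine K594.IsoCrit.isIso_of_formal I hX hZ (fun n => (hp n).alg hX) hXp (isProperMor_of_closed hX hi) hXn
      (q := fun n => equalizer.lift (p n) (h n)) (fun n => ?_)
    refine ⟨⟨by rw [equalizer.lift_ι, Category.id_comp]⟩, ⟨PullbackCone.IsLimit.mk _ (fun c => c.snd) (fun c => ?_)
      (fun c => Category.comp_id _) (fun c m _ h2 => by rw [← h2, Category.comp_id])⟩⟩
    apply equalizer.hom_ext
    rw [Category.assoc, equalizer.lift_ι]
    exact c.condition.symm
  rw [← cancel_epi (equalizer.ι g g'), equalizer.condition]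

end K594.FinHom
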