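import Groth.Agent.AlgSp.K594.ChRing
import Groth.Agent.AlgSp.K594.FinHom

/-!
# Chart rings: Noetherian, finite, faithfully flat; the ideal of `X_n`
-/

set_option autoImplicit false
universe u
open CategoryTheory CategoryTheory.Limits AlgebraicGeometry Opposite TensorProduct
open AlgSp K598.Site K598.RepKit K598.ClFam K598.Charts
open K594.FamOps K594.AlgSch K594.AlgChart K594.AlgStep K594.VKit K594.ChRing
open K602 K602.Ch

namespace K594.FinChart

section iso

variable {R : CommRingCat.{u}}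

/-- The structure map of the ring of functions. -/
noncomputable def φ (V : Over (Spec R)) [IsAffine V.left] : R ⟶ Γ(V.left, ⊤) :=
  Spec.preimage (V.left.isoSpec.inv ≫ V.hom)

theorem map_φ (V : Over (Spec R)) [IsAffine V.left] : Spec.map (φ V) = V.left.isoSpec.inv ≫ V.hom := Spec.map_preimage _

noncomputable def e (V : Over (Spec R)) [IsAffine V.left] : sp (φ V) ≅ V := Over.isoMk V.left.isoSpec.symm (by
  change V.left.isoSpec.inv ≫ V.hom = Spec.map (φ V)
  rw [map_φ])

theorem e_left (V : Over (Spec R)) [IsAffine V.left] : (e V).hom.left = V.left.isoSpec.inv := rfl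

theorem isoSpec_inv_appTop (V : Scheme.{u}) [IsAffine V] : V.isoSpec.inv.appTop = (Scheme.ΓSpecIso Γ(V, ⊤)).inv := by
  have h2 : V.isoSpec.hom.appTop = (Scheme.ΓSpecIso Γ(V, ⊤)).hom := Scheme.toSpecΓ_appTop _
  have h3 : V.isoSpec.hom.appTop ≫ V.isoSpec.inv.appTop = 𝟙 _ := by
    rw [← Scheme.Hom.comp_appTop, Iso.inv_hom_id, Scheme.Hom.id_appTop]
  rw [h2] at h3
  rw [← cancel_epi (Scheme.ΓSpecIso Γ(V, ⊤)).hom, Iso.hom_inv_id]
  exact h3

variable {X : Sp (Spec R)}

/-- The ideal on a chart through `idl`. -/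
theorem tI_eq (a : Ch X) [IsAffine a.V.left] (d : Fam X) : tI a d = idl (d.I ((yon _).map (e a.V).hom ≫ a.v)) := by
  rw [d.comap, idl_eq_map, Groth.Agent.Divis.IdealComap.ideal_comap_top, e_left, isoSpec_inv_appTop, Ideal.map_map,
    ← CommRingCat.hom_comp, Iso.inv_hom_id, CommRingCat.hom_id, Ideal.map_id]
  rfl

/-- The comparison square for an affine space over `X`. -/
theorem exists_sq {G : Sp (Spec R)} {g : G ⟶ X} (hg : RepWith @IsAffineHom g) (a : Ch X) [IsAffine a.V.left] :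
    ∃ f : (yon _).obj (sp (φ a.V ≫ β hg a)) ⟶ G,
      IsPullback f ((yon _).map (spm (φ a.V) (β hg a))) g ((yon _).map (e a.V).hom ≫ a.v) := by
  have hW := isAffine_W hg a
  have h1 : Spec.map (β hg a) ≫ a.V.left.isoSpec.inv = (W hg a).left.isoSpec.inv ≫ (π hg a).left :=
    Scheme.isoSpec_inv_naturality _
  let e' : sp (φ a.V ≫ β hg a) ≅ W hg a := Over.isoMk (W hg a).left.isoSpec.symm (by
    change (W hg a).left.isoSpec.inv ≫ (W hg a).hom = Spec.map (φ a.V ≫ β hg a)
    rw [Spec.map_comp, map_φ, ← Category.assoc, h1, Category.assoc, Over.w])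
  have h2 : e'.hom ≫ π hg a = spm (φ a.V) (β hg a) ≫ (e a.V).hom := by
    ext1
    exact h1.symm
  refine ⟨(yon _).map e'.hom ≫ ι hg a, ?_⟩
  have h3 : IsPullback ((yon _).map e'.hom) ((yon _).map (spm (φ a.V) (β hg a))) ((yon _).map (π hg a))
      ((yon _).map (e a.V).hom) :=
    IsPullback.of_horiz_isIso ⟨by rw [← Functor.map_comp, ← Functor.map_comp, h2]⟩
  exact h3.flip.paste_vert (sq hg a).flip |>.flip

theorem finite_β {G : Sp (Spec R)} {g : G ⟶ X} (hg : RepWith @IsAffineHom g) (hf : RepWith @IsFinite g) (a : Ch X)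
    [IsAffine a.V.left] : (β hg a).hom.Finite := by
  have : IsFinite (π hg a).left := hf.2 _ _ _ (sq hg a)
  exact Scheme.Hom.finite_appTop _

end iso

variable {A : Type u} [CommRing A] {I : Ideal A} {X : Sp (Spec (CommRingCat.of A))}

/-- The ideal `I` on a chart. -/
noncomputable def aI (I : Ideal A) (a : Ch X) [IsAffine a.V.left] : Ideal (O a) := I.map (φ a.V).hom

theorem tI_En (a : Ch X) [IsAffine a.V.left] (n : ℕ) : tI a (En I X n) = aI I a ^ (n + 1) := by
  rw [tI_eq, idl_En]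
  rfl

theorem ker_En {G H : Sp (Spec (CommRingCat.of A))} {g : G ⟶ X} {h : H ⟶ X} (hg : RepWith @IsAffineHom g)
    (hh : RepWith @IsAffineHom h) {k : G ⟶ H} (hk : k ≫ h = g) {n : ℕ} (hc : IsV k (En I H n)) (a : Ch X)
    [IsAffine a.V.left] : RingHom.ker (ρ hg hh k hk a).hom = (aI I a ^ (n + 1)).map (β hh a).hom := by
  rw [← tI_En]
  exact ker_ρ hg hh hk (d := En I X n) hc a

theorem isNoetherianRing_O [IsNoetherianRing A] (s : X ⟶ (yon (Spec (CommRingCat.of A))).obj (Over.mk (𝟙 _)))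
    (hs : IsFiniteTypeMor s) (a : Ch X) [IsAffine a.V.left] (ha : RepWith @Etale a.v) : IsNoetherianRing (O a) := by
  refine isNoetherianRing_chart s hs (φ := φ a.V) (p := (yon _).map (e a.V).hom ≫ a.v) ?_
  exact MorphismProperty.comp_mem _ _ _ (repWith_of_isIso _) ha

theorem faithfullyFlat_β [IsNoetherianRing A] {G U P : Sp (Spec (CommRingCat.of A))} {g : G ⟶ X} (hg : RepWith @IsAffineHom g)
    {j : U ⟶ X} (hj : RepWith @IsOpenImmersion j)
    {fst : P ⟶ G} {snd : P ⟶ U} (sqU : IsPullback fst snd g j)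
    (hU1 : RepWith @Flat snd) (hU2 : RepWith @Surjective snd)
    (J : Fam X) (hJ : ∀ x, x ∉ Set.range (Points.map J.ι) → x ∈ Set.range (Points.map j))
    (a : Ch X) [IsAffine a.V.left] [Algebra (O a) (B hg a)] (halg : algebraMap (O a) (B hg a) = (β hg a).hom)
    (f : O a) (hf : f ∈ tI a J) :
    Module.FaithfullyFlat (Localization.Away f) (Localization.Away f ⊗[O a] (B hg a)) := by
  obtain ⟨f', sq'⟩ := exists_sq hg a
  rw [tI_eq] at hf
  obtain ⟨d, hd⟩ := exists_lift_away hj J hJ (φ := φ a.V) ((yon _).map (e a.V).hom ≫ a.v) f hf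
  exact faithfullyFlat sq' sqU hU1 hU2 (Localization.Away f) halg d hd

end K594.FinChart
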