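import Mathlib.RingTheory.Filtration
import Mathlib.RingTheory.Finiteness.Prod
import Mathlib.RingTheory.Ideal.Operations

/-!
# Chart level algebra for the algebraization of finite morphisms

From the formal statement over the completion (`hAR`, `hE`) to ring maps from the algebra
`{(b, c) | U b = V b, ζ b = τ c}` to the formal algebra `C n`; they are surjective.
-/

set_option autoImplicit false
universe u

namespace K594.FinGen

theorem exists_compat_aux (j : ℕ) : ∀ {C : ℕ → Type u} [∀ n, CommRing (C n)] {c : ∀ n, C (n + 1) →+* C n}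
    (_ : ∀ n, Function.Surjective (c n)) (t : C j),
    ∃ x : ∀ n, C n, (∀ n, c n (x (n + 1)) = x n) ∧ x j = t := by
  induction j with
  | zero =>
    intro C _ c hc t
    choose nxt hnxt using hc
    exact ⟨fun n => Nat.rec (motive := C) t (fun k y => nxt k y) n, fun n => hnxt n _, rfl⟩
  | succ j ih =>
    intro C _ c hc t
    obtain ⟨x, hx, hxj⟩ := ih (C := fun n => C (n + 1)) (c := fun n => c (n + 1)) (fun n => hc (n + 1)) t
    refine ⟨fun n => Nat.casesOn (motive := C) n (c 0 (x 0)) x, fun n => ?_, hxj⟩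
    cases n with
    | zero => rfl
    | succ n => exact hx n

theorem exists_compat {C : ℕ → Type u} [∀ n, CommRing (C n)] {c : ∀ n, C (n + 1) →+* C n}
    (hc : ∀ n, Function.Surjective (c n)) (j : ℕ) (t : C j) :
    ∃ x : ∀ n, C n, (∀ n, c n (x (n + 1)) = x n) ∧ x j = t := exists_compat_aux j hc t

theorem artinRees {B : Type u} [CommRing B] [IsNoetherianRing B] (I : Ideal B) {M N : Type u} [AddCommGroup M] [Module B M]
    [AddCommGroup N] [Module B N] [Module.Finite B N] (Φ : M →ₗ[B] N) (n : ℕ) :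
    ∃ k, n ≤ k ∧ ∀ x, Φ x ∈ I ^ k • (⊤ : Submodule B N) → ∃ y ∈ I ^ n • (⊤ : Submodule B M), Φ y = Φ x := by
  obtain ⟨c, hc⟩ := Ideal.exists_pow_inf_eq_pow_smul I (LinearMap.range Φ)
  refine ⟨n + c, by omega, fun x hx => ?_⟩
  have h1 : Φ x ∈ I ^ (n + c) • (⊤ : Submodule B N) ⊓ LinearMap.range Φ := ⟨hx, ⟨x, rfl⟩⟩
  rw [hc (n + c) (by omega)] at h1
  have h2 : I ^ (n + c - c) • (I ^ c • ⊤ ⊓ LinearMap.range Φ) ≤ I ^ n • (LinearMap.range Φ) := by
    rw [Nat.add_sub_cancel]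
    exact Submodule.smul_mono le_rfl inf_le_right
  have h3 := h2 h1
  rw [LinearMap.range_eq_map, ← Submodule.map_smul''] at h3
  exact h3

theorem map_mem {B : Type u} [CommRing B] {I : Ideal B} {M N : Type u} [AddCommGroup M] [Module B M]
    [AddCommGroup N] [Module B N] (f : M →ₗ[B] N) {x : M} (hx : x ∈ I • (⊤ : Submodule B M)) :
    f x ∈ I • (⊤ : Submodule B N) := by
  have h1 : f x ∈ Submodule.map f (I • ⊤) := ⟨x, hx, rfl⟩
  rw [Submodule.map_smul''] at h1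
  exact Submodule.smul_mono le_rfl le_top h1

/-- The algebra version for two ring maps from a product. -/
theorem artinRees_ring {O DW DT DR DK : Type u} [CommRing O] [IsNoetherianRing O] [CommRing DW] [CommRing DT] [CommRing DR]
    [CommRing DK] (I : Ideal O) (δW : O →+* DW) (δT : O →+* DT) (δR : O →+* DR) (δK : O →+* DK)
    (hR : δR.Finite) (hK : δK.Finite) (U V : DW →+* DR) (ζ : DW →+* DK) (τ : DT →+* DK)
    (hU : U.comp δW = δR) (hV : V.comp δW = δR) (hζ : ζ.comp δW = δK) (hτ : τ.comp δT = δK) (n : ℕ) :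
    ∃ k, n ≤ k ∧ ∀ (b : DW) (c : DT), U b - V b ∈ (I ^ k).map δR → ζ b - τ c ∈ (I ^ k).map δK →
      ∃ b' ∈ (I ^ n).map δW, ∃ c' ∈ (I ^ n).map δT, U (b - b') = V (b - b') ∧ ζ (b - b') = τ (c - c') := by
  let _ := δW.toAlgebra
  let _ := δT.toAlgebra
  let _ := δR.toAlgebra
  let _ := δK.toAlgebra
  have _ : Module.Finite O DR := hR
  have _ : Module.Finite O DK := hK
  let Ua : DW →ₐ[O] DR := ⟨U, fun o => congrArg (fun f : O →+* DR => f o) hU⟩
  let Va : DW →ₐ[O] DR := ⟨V, fun o => congrArg (fun f : O →+* DR => f o) hV⟩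
  let ζa : DW →ₐ[O] DK := ⟨ζ, fun o => congrArg (fun f : O →+* DK => f o) hζ⟩
  let τa : DT →ₐ[O] DK := ⟨τ, fun o => congrArg (fun f : O →+* DK => f o) hτ⟩
  let Φ : (DW × DT) →ₗ[O] (DR × DK) :=
    ((Ua.toLinearMap - Va.toLinearMap) ∘ₗ LinearMap.fst O DW DT).prod
      (ζa.toLinearMap ∘ₗ LinearMap.fst O DW DT - τa.toLinearMap ∘ₗ LinearMap.snd O DW DT)
  have hΦ : ∀ x, Φ x = (U x.1 - V x.1, ζ x.1 - τ x.2) := fun x => rfl
  obtain ⟨k, hk, h⟩ := artinRees I Φ n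
  refine ⟨k, hk, fun b c h1 h2 => ?_⟩
  obtain ⟨⟨b', c'⟩, hy, he⟩ := h (b, c) (by
    rw [hΦ]
    have e1 : U b - V b ∈ I ^ k • (⊤ : Submodule O DR) := by
      rw [Ideal.smul_top_eq_map]
      exact h1
    have e2 : ζ b - τ c ∈ I ^ k • (⊤ : Submodule O DK) := by
      rw [Ideal.smul_top_eq_map]
      exact h2
    have := add_mem (map_mem (LinearMap.inl O DR DK) e1) (map_mem (LinearMap.inr O DR DK) e2)
    simpa using this)
  rw [hΦ, hΦ] at he
  have e1 := congrArg Prod.fst he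
  have e2 := congrArg Prod.snd he
  dsimp only at e1 e2
  refine ⟨b', ?_, c', ?_, ?_, ?_⟩
  · have := map_mem (LinearMap.fst O DW DT) hy
    rw [Ideal.smul_top_eq_map] at this
    exact this
  · have := map_mem (LinearMap.snd O DW DT) hy
    rw [Ideal.smul_top_eq_map] at this
    exact this
  · rw [map_sub, map_sub, sub_eq_sub_iff_sub_eq_sub, ← e1]
  · rw [map_sub, map_sub, sub_eq_sub_iff_sub_eq_sub, ← e2]

section main

variable {O : Type u} [CommRing O] (I J : Ideal O)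
  {C : ℕ → Type u} [∀ n, CommRing (C n)] (β : ∀ n, O →+* C n) (c : ∀ n, C (n + 1) →+* C n)
  {W : ℕ → Type u} [∀ n, CommRing (W n)] (βW : ∀ n, O →+* W n) (w : ∀ n, C n →+* W n) (e : ∀ n, W (n + 1) →+* W n)
  {R : ℕ → Type u} [∀ n, CommRing (R n)] (u v : ∀ n, W n →+* R n)
  {CK : ℕ → Type u} [∀ n, CommRing (CK n)] (γ : ∀ n, C n →+* CK n) (ck : ∀ n, CK (n + 1) →+* CK n)
  {WK : ℕ → Type u} [∀ n, CommRing (WK n)] (ζn : ∀ n, W n →+* WK n) (wk : ∀ n, CK n →+* WK n)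
  {DW DR DT DK : Type u} [CommRing DW] [CommRing DR] [CommRing DT] [CommRing DK]
  (δW : O →+* DW) (δR : O →+* DR) (δT : O →+* DT) (δK : O →+* DK)
  (ω : ∀ n, DW →+* W n) (κ : ∀ n, DR →+* R n) (θ : ∀ n, DT →+* CK n) (ωk : ∀ n, DK →+* WK n)
  (U V : DW →+* DR) (ζ : DW →+* DK) (τ : DT →+* DK)

/-- The relations between the rings on a chart. -/
structure Rel (k : ℕ) : Prop where
  c_surj : ∀ n, Function.Surjective (c n)
  wβ : ∀ n, (w n).comp (β n) = βW n
  ew : ∀ n x, e n (w (n + 1) x) = w n (c n x)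
  uvw : ∀ n x, u n (w n x) = v n (w n x)
  γ_surj : ∀ n, Function.Surjective (γ n)
  γ_ker : ∀ n, RingHom.ker (γ n) = (J ^ k).map (β n)
  ckγ : ∀ n x, ck n (γ (n + 1) x) = γ n (c n x)
  ζn_ker : ∀ n, RingHom.ker (ζn n) = (J ^ k).map (βW n)
  wkγ : ∀ n x, wk n (γ n x) = ζn n (w n x)
  ω_surj : ∀ n, Function.Surjective (ω n)
  ω_ker : ∀ n, RingHom.ker (ω n) = (I ^ (n + 1)).map δW
  eω : ∀ n x, e n (ω (n + 1) x) = ω n x
  κ_ker : ∀ n, RingHom.ker (κ n) = (I ^ (n + 1)).map δR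
  κU : ∀ n x, κ n (U x) = u n (ω n x)
  κV : ∀ n x, κ n (V x) = v n (ω n x)
  θ_surj : ∀ n, Function.Surjective (θ n)
  θ_ker : ∀ n, RingHom.ker (θ n) = (I ^ (n + 1)).map δT
  ckθ : ∀ n x, ck n (θ (n + 1) x) = θ n x
  ωk_ker : ∀ n, RingHom.ker (ωk n) = (I ^ (n + 1)).map δK
  ωkζ : ∀ n x, ωk n (ζ x) = ζn n (ω n x)
  ωkτ : ∀ n x, ωk n (τ x) = wk n (θ n x)

/-- `t` is the formal section given by `(b, y)`. -/
def IsSec (m : ℕ) (b : DW) (y : DT) (t : ∀ n, C n) : Prop :=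
  (∀ n, c n (t (n + 1)) = t n) ∧ (∀ n, w n (t n) = ω n b) ∧
    ∀ n, ∃ z : C n, γ n z = θ n y ∧ t n - z ∈ (J ^ m).map (β n)

/-- Uniqueness hypothesis (Artin-Rees). -/
def HAR (m : ℕ) : Prop := ∀ j, ∃ n, j ≤ n ∧ ∀ x : ∀ n, C n, (∀ n, c n (x (n + 1)) = x n) → w n (x n) = 0 →
  x n ∈ (J ^ m).map (β n) → x j = 0

/-- Existence hypothesis. -/
def HE (m k : ℕ) : Prop := ∀ (b : ∀ n, W n), (∀ n, e n (b (n + 1)) = b n) → (∀ n, u n (b n) = v n (b n)) →
  ∀ y : ∀ n, C n, (∀ n, c n (y (n + 1)) - y n ∈ (J ^ k).map (β n)) →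
    (∀ n, b n - w n (y n) ∈ (J ^ k).map (βW n)) →
    ∃ x : ∀ n, C n, (∀ n, c n (x (n + 1)) = x n) ∧ (∀ n, w n (x n) = b n) ∧ ∀ n, x n - y n ∈ (J ^ m).map (β n)

variable {I J β c βW w e u v γ ck ζn wk δW δR δT δK ω κ θ ωk U V ζ τ}
variable {m k : ℕ} (H : Rel I J β c βW w e u v γ ck ζn wk δW δR δT δK ω κ θ ωk U V ζ τ k)

include H in
theorem exists_isSec (hE : HE J β c βW w e u v m k) {b : DW} {y : DT} (h1 : U b = V b) (h2 : ζ b = τ y) :
    ∃ t, IsSec J β c w γ ω θ m b y t := by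
  choose z hz using fun n => H.γ_surj n (θ n y)
  obtain ⟨x, hx1, hx2, hx3⟩ := hE (fun n => ω n b) (fun n => H.eω n b)
    (fun n => by rw [← H.κU, ← H.κV, h1]) z (fun n => by
      rw [← H.γ_ker, RingHom.mem_ker, map_sub, ← H.ckγ, hz, hz, H.ckθ, sub_self])
    (fun n => by
      rw [← H.ζn_ker, RingHom.mem_ker, map_sub, ← H.ωkζ, ← H.wkγ, hz, h2, H.ωkτ, sub_self])
  exact ⟨x, hx1, hx2, fun n => ⟨z n, hz n, hx3 n⟩⟩

include H in
theorem isSec_unique (hk : m ≤ k) (hA : HAR J β c w m) {b : DW} {y : DT} {t t' : ∀ n, C n}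
    (h : IsSec J β c w γ ω θ m b y t) (h' : IsSec J β c w γ ω θ m b y t') : t = t' := by
  funext j
  obtain ⟨n, -, hn⟩ := hA j
  have h1 := hn (fun i => t i - t' i) (fun i => by rw [map_sub, h.1, h'.1]) (by rw [map_sub, h.2.1, h'.2.1, sub_self])
    (by
      obtain ⟨z, hz1, hz2⟩ := h.2.2 n
      obtain ⟨z', hz1', hz2'⟩ := h'.2.2 n
      have e1 : t n - t' n = (t n - z) - (t' n - z') + (z - z') := by ring
      rw [e1]
      refine add_mem (sub_mem hz2 hz2') ?_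
      have h3 : z - z' ∈ (J ^ k).map (β n) := by
        rw [← H.γ_ker, RingHom.mem_ker, map_sub, hz1, hz1', sub_self]
      exact Ideal.map_mono (Ideal.pow_le_pow_right hk) h3)
  exact sub_eq_zero.1 h1

theorem IsSec.add {b b' : DW} {y y' : DT} {t t' : ∀ n, C n} (h : IsSec J β c w γ ω θ m b y t)
    (h' : IsSec J β c w γ ω θ m b' y' t') : IsSec J β c w γ ω θ m (b + b') (y + y') (fun n => t n + t' n) := by
  refine ⟨fun n => by rw [map_add, h.1, h'.1], fun n => by rw [map_add, h.2.1, h'.2.1, map_add], fun n => ?_⟩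
  obtain ⟨z, hz1, hz2⟩ := h.2.2 n
  obtain ⟨z', hz1', hz2'⟩ := h'.2.2 n
  refine ⟨z + z', by rw [map_add, hz1, hz1', map_add], ?_⟩
  have e1 : t n + t' n - (z + z') = (t n - z) + (t' n - z') := by ring
  rw [e1]
  exact add_mem hz2 hz2'

theorem IsSec.mul {b b' : DW} {y y' : DT} {t t' : ∀ n, C n} (h : IsSec J β c w γ ω θ m b y t)
    (h' : IsSec J β c w γ ω θ m b' y' t') : IsSec J β c w γ ω θ m (b * b') (y * y') (fun n => t n * t' n) := by
  refine ⟨fun n => by rw [map_mul, h.1, h'.1], fun n => by rw [map_mul, h.2.1, h'.2.1, map_mul], fun n => ?_⟩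
  obtain ⟨z, hz1, hz2⟩ := h.2.2 n
  obtain ⟨z', hz1', hz2'⟩ := h'.2.2 n
  refine ⟨z * z', by rw [map_mul, hz1, hz1', map_mul], ?_⟩
  have e1 : t n * t' n - z * z' = t' n * (t n - z) + z * (t' n - z') := by ring
  rw [e1]
  exact add_mem (Ideal.mul_mem_left _ _ hz2) (Ideal.mul_mem_left _ _ hz2')

theorem IsSec.one : IsSec J β c w γ ω θ m 1 1 (fun _ => 1) :=
  ⟨fun n => map_one _, fun n => by rw [map_one, map_one], fun n => ⟨1, by rw [map_one, map_one], by simp⟩⟩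

theorem IsSec.zero : IsSec J β c w γ ω θ m 0 0 (fun _ => 0) :=
  ⟨fun n => map_zero _, fun n => by rw [map_zero, map_zero], fun n => ⟨0, by rw [map_zero, map_zero], by simp⟩⟩

include H in
/-- The ring maps from the equalizer to the formal algebra. -/
theorem exists_α (hk : m ≤ k) (hA : HAR J β c w m) (hE : HE J β c βW w e u v m k)
    (E : Subring (DW × DT)) (hEm : ∀ x, x ∈ E ↔ U x.1 = V x.1 ∧ ζ x.1 = τ x.2) :
    ∃ α : ∀ n, E →+* C n, ∀ x : E, IsSec J β c w γ ω θ m x.1.1 x.1.2 (fun n => α n x) := by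
  have key : ∀ x : E, ∃ t, IsSec J β c w γ ω θ m x.1.1 x.1.2 t := fun x =>
    exists_isSec H hE ((hEm x.1).1 x.2).1 ((hEm x.1).1 x.2).2
  choose t ht using key
  refine ⟨fun n =>
    { toFun := fun x => t x n
      map_one' := congrFun (isSec_unique H hk hA (ht 1) IsSec.one) n
      map_mul' := fun x y => congrFun (isSec_unique H hk hA (ht (x * y)) ((ht x).mul (ht y))) n
      map_zero' := congrFun (isSec_unique H hk hA (ht 0) IsSec.zero) n
      map_add' := fun x y => congrFun (isSec_unique H hk hA (ht (x + y)) ((ht x).add (ht y))) n }, fun x => ht x⟩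

include H in
/-- Surjectivity. -/
theorem surjective_α [IsNoetherianRing O] (hk : m ≤ k) (hA : HAR J β c w m) (hE : HE J β c βW w e u v m k)
    (hR : δR.Finite) (hK : δK.Finite)
    (hU : U.comp δW = δR) (hV : V.comp δW = δR) (hζ : ζ.comp δW = δK) (hτ : τ.comp δT = δK)
    {E : Subring (DW × DT)} (hEm : ∀ x, x ∈ E ↔ U x.1 = V x.1 ∧ ζ x.1 = τ x.2)
    {α : ∀ n, E →+* C n} (hα : ∀ x : E, IsSec J β c w γ ω θ m x.1.1 x.1.2 (fun n => α n x)) (j : ℕ) :
    Function.Surjective (α j) := by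
  intro s
  obtain ⟨x, hx, hxj⟩ := exists_compat H.c_surj j s
  obtain ⟨n, hjn, hn⟩ := hA j
  obtain ⟨N, hN, hAR⟩ := artinRees_ring I δW δT δR δK hR hK U V ζ τ hU hV hζ hτ (n + 1)
  obtain ⟨N', rfl⟩ : ∃ N', N = N' + 1 := ⟨N - 1, by omega⟩
  obtain ⟨b, hb⟩ := H.ω_surj N' (w N' (x N'))
  obtain ⟨y, hy⟩ := H.θ_surj N' (γ N' (x N'))
  obtain ⟨b', hb', y', hy', h1, h2⟩ := hAR b y (by
    rw [← H.κ_ker, RingHom.mem_ker, map_sub, H.κU, H.κV, hb, H.uvw, sub_self]) (by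
    rw [← H.ωk_ker, RingHom.mem_ker, map_sub, H.ωkζ, H.ωkτ, hb, hy, H.wkγ, sub_self])
  let z : E := ⟨(b - b', y - y'), (hEm _).2 ⟨h1, h2⟩⟩
  have hz := hα z
  have hcomp : ∀ i, i ≤ N' → ω i b = w i (x i) ∧ θ i y = γ i (x i) := by
    intro i hi
    obtain ⟨d, hd⟩ := Nat.exists_eq_add_of_le hi
    have : ∀ d i, N' = i + d → ω i b = w i (x i) ∧ θ i y = γ i (x i) := by
      intro d
      induction d with
      | zero =>
        rintro i rfl
        exact ⟨hb, hy⟩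
      | succ d ih =>
        intro i hi
        obtain ⟨g1, g2⟩ := ih (i + 1) (by omega)
        exact ⟨by rw [← H.eω, g1, H.ew, hx], by rw [← H.ckθ, g2, H.ckγ, hx]⟩
    exact this d i hd
  obtain ⟨g1, g2⟩ := hcomp n (by omega)
  have k1 : ω n b' = 0 := by
    have : b' ∈ RingHom.ker (ω n) := by rw [H.ω_ker]; exact hb'
    exact this
  have k2 : θ n y' = 0 := by
    have : y' ∈ RingHom.ker (θ n) := by rw [H.θ_ker]; exact hy'
    exact this
  have h3 := hn (fun i => α i z - x i) (fun i => by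
    have := hz.1 i
    rw [map_sub, hx, this]) (by
    have h4 : w n (α n z) = ω n (b - b') := hz.2.1 n
    rw [map_sub, h4, map_sub, k1, sub_zero, g1, sub_self]) (by
    obtain ⟨q, hq1, hq2⟩ := hz.2.2 n
    have h5 : γ n q = θ n (y - y') := hq1
    have e1 : α n z - x n = (α n z - q) + (q - x n) := by ring
    rw [e1]
    refine add_mem hq2 ?_
    have h6 : q - x n ∈ (J ^ k).map (β n) := by
      rw [← H.γ_ker, RingHom.mem_ker, map_sub, h5, map_sub, k2, sub_zero, g2, sub_self]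
    exact Ideal.map_mono (Ideal.pow_le_pow_right hk) h6)
  exact ⟨z, by rw [← hxj]; exact sub_eq_zero.1 h3⟩

end main

end K594.FinGen
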