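import Groth.Agent.AlgSp.K594.FinStep2
import Groth.Agent.AlgSp.K594.FinHom

/-!
# Algebraization of formal finite spaces: Noetherian induction
-/

set_option autoImplicit false
universe u
open CategoryTheory CategoryTheory.Limits AlgebraicGeometry Opposite TensorProduct TopologicalSpace
open AlgSp K598.Site K598.RepKit K598.ClFam K598.Charts
open K594.FamOps K594.AlgSch K594.AlgChart K594.AlgStep K594.VKit K594.ChRing K594.FinBC K594.FinR K594.FinChart
open K602 K602.Ch K594.FinSch K594.FinRel K594.FinRel2 K594.FinQAlg K597.ProperSub K594.FinStep K594.FinStep2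

namespace K594.FinInd

section charts

variable {S : Scheme.{u}} {X : Sp S}

/-- The double chart of a separated space over an affine scheme is affine. -/
theorem exists_double [IsAffine S] {s : X ⟶ (yon S).obj (Over.mk (𝟙 _))} (hs : IsSeparatedMor s) {V : Over S}
    [IsAffine V.left] {p : (yon S).obj V ⟶ X} (hp : RepWith @Etale p) :
    ∃ (V2 : Over S) (κ κ' : V2 ⟶ V), IsAffine V2.left ∧ IsPullback ((yon S).map κ) ((yon S).map κ') p p := by
  obtain ⟨V2, n, t1, hV2⟩ := hp.1 p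
  obtain ⟨κ, rfl⟩ := (yon S).map_surjective t1
  refine ⟨V2, κ, n, ?_, hV2⟩
  have h1 : RepWith @IsClosedImmersion (pullback.map p p (p ≫ s) (p ≫ s) (𝟙 _) (𝟙 _) s
      (Category.id_comp _).symm (Category.id_comp _).symm) :=
    repWith_of_isPullback (pullback_map_diagonal_isPullback p p s) hs
  obtain ⟨q, hq⟩ := (yon S).map_surjective (p ≫ s)
  have h2 : RepWith @IsAffineHom (p ≫ s) := by
    rw [← hq]
    refine (repWith_yon_map_iff _ q).2 ?_
    have hS : IsAffine (Over.mk (𝟙 S)).left := inferInstanceAs (IsAffine S)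
    infer_instance
  have h3 : RepWith @IsAffineHom (pullback.snd (p ≫ s) (p ≫ s)) :=
    repWith_of_isPullback (IsPullback.of_hasPullback (p ≫ s) (p ≫ s)) h2
  have h4 : RepWith @IsAffineHom (pullback.snd p p) := by
    have e : pullback.snd p p = pullback.map p p (p ≫ s) (p ≫ s) (𝟙 _) (𝟙 _) s
      (Category.id_comp _).symm (Category.id_comp _).symm ≫ pullback.snd (p ≫ s) (p ≫ s) :=
      ((pullback.lift_snd _ _ _).trans (Category.comp_id _)).symm
    rw [e]
    exact MorphismProperty.comp_mem _ _ _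
      (repWith_mono (fun _ _ f (_ : IsClosedImmersion f) => (inferInstance : IsAffineHom f)) h1) h3
  have h5 : RepWith @IsAffineHom ((yon S).map n) := by
    have e : (yon S).map n = hV2.isoPullback.hom ≫ pullback.snd p p := hV2.isoPullback_hom_snd.symm
    rw [e]
    exact MorphismProperty.comp_mem _ _ _ (repWith_of_isIso _) h4
  have h6 : IsAffineHom n.left := (repWith_yon_map_iff _ n).1 h5
  exact isAffine_of_isAffineHom n.left

end charts

variable {A : Type u} [CommRing A] {I : Ideal A} {X : Sp (Spec (CommRingCat.of A))}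

/-- The formal cover coming from a finite scheme over `X`. -/
noncomputable def mkCov (F : FSys I X) {V : Sp (Spec (CommRingCat.of A))} (g : V ⟶ X) (hg : RepWith @IsFinite g)
    {Z : Sp (Spec (CommRingCat.of A))} (f : Z ⟶ V) (hf : RepWith @IsFinite f) (q : ∀ n, (FSys.bc F g).Y n ⟶ Z)
    (h1 : ∀ n, q n ≫ f = (FSys.bc F g).j n) (h2 : ∀ n, (FSys.bc F g).y n ≫ q (n + 1) = q n)
    (h3 : ∀ n, IsV (q n) (En I Z n)) : Cov F where
  W := Z
  g := f ≫ g
  gfin := MorphismProperty.comp_mem _ _ _ hf hg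
  P n := pullback (F.j n) g
  pr n := pullback.fst _ _
  prfin n := repWith_of_isPullback (IsPullback.of_hasPullback (F.j n) g).flip hg
  Ω := q
  w n := by
    have e : q n ≫ f ≫ g = (FSys.bc F g).j n ≫ g := by rw [← Category.assoc, h1]
    exact e.trans pullback.condition.symm
  isV := h3
  t n := (FSys.bc F g).y n
  tΩ := h2
  tpr n := pullback.lift_fst _ _ _
  V := V
  gV := g
  gVfin := hg
  prV n := pullback.snd _ _
  sqV n := IsPullback.of_hasPullback _ _
  tprV n := pullback.lift_snd _ _ _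

theorem exists_cov (H : FinHyp A I) (hX : IsAlgSpace X)
    (s : X ⟶ (yon (Spec (CommRingCat.of A))).obj (Over.mk (𝟙 _))) (hs1 : IsSeparatedMor s) (hs2 : IsFiniteTypeMor s)
    (F : FSys I X) (hp : IsProperMor (F.j 0 ≫ s)) {V : Over (Spec (CommRingCat.of A))} (g : (yon _).obj V ⟶ X)
    (hg : RepWith @IsFinite g) :
    ∃ C : Cov F, IsProperMor (C.g ≫ s) ∧ ∀ {U P : Sp (Spec (CommRingCat.of A))} (j : U ⟶ X) (fst : P ⟶ (yon _).obj V)
      (snd : P ⟶ U), IsPullback fst snd g j → ∃ fst' : P ⟶ C.V, IsPullback fst' snd C.gV j := by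
  have hT : IsAlgSpace ((yon (Spec (CommRingCat.of A))).obj (Over.mk (𝟙 _))) := IsAlgSpace.yon_obj _
  have hV : IsAlgSpace ((yon (Spec (CommRingCat.of A))).obj V) := IsAlgSpace.yon_obj _
  have h1 := isProperMor_of_finite hX hg
  have hpr : IsProperMor ((FSys.bc F g).j 0 ≫ g ≫ s) := by
    have e : (FSys.bc F g).j 0 ≫ g ≫ s = pullback.fst (F.j 0) g ≫ F.j 0 ≫ s := by
      change pullback.snd (F.j 0) g ≫ g ≫ s = _
      rw [← Category.assoc, ← pullback.condition, Category.assoc]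
    rw [e]
    have h2 : RepWith @IsFinite (pullback.fst (F.j 0) g) :=
      repWith_of_isPullback (IsPullback.of_hasPullback (F.j 0) g).flip hg
    exact isProperMor_comp (K594.RepAlg.isAlgSpace_of_representable (F.alg hX 0) _ h2.1) (F.alg hX 0) hT
      (isProperMor_of_finite (F.alg hX 0) h2) hp
  obtain ⟨Z, f, q, hf, hfp, h4, h5, h6⟩ := alg_scheme H (FSys.bc F g) (g ≫ s) (K594.AlgInd.isSeparatedMor_comp h1.1 hs1)
    (K594.AlgInd.isFiniteTypeMor_comp hV hX hT h1.2.1 hs2) hpr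
  refine ⟨mkCov F g hg f hf q h4 h5 h6, ?_, fun j fst snd sq => ⟨fst, sq⟩⟩
  change IsProperMor ((f ≫ g) ≫ s)
  rw [Category.assoc]
  exact hfp

variable (I) in
theorem exists_TD [IsNoetherianRing A] [IsAdicComplete I A] (H : SchHyp A I) (K : K594.AlgInd.CoverHyp A)
    (hX : IsAlgSpace X) (s : X ⟶ (yon (Spec (CommRingCat.of A))).obj (Over.mk (𝟙 _))) (hs1 : IsSeparatedMor s)
    (hs2 : IsFiniteTypeMor s) (F : FSys I X) (hp : IsProperMor (F.j 0 ≫ s)) (C : Cov F)
    (hC : IsProperMor (C.g ≫ s)) (cK : Fam X) (hT : FSys.Alg (FSys.bc F cK.ι) (cK.ι ≫ s)) : Nonempty (TD C cK) := by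
  have hB : IsAlgSpace ((yon (Spec (CommRingCat.of A))).obj (Over.mk (𝟙 _))) := IsAlgSpace.yon_obj _
  obtain ⟨z, κ, hκ, hκV⟩ := C.exists_R H K hX s hs1 hs2 hp
  obtain ⟨T, f, θ, hf, hfp, h4, h5, h6⟩ := hT
  have hgT : RepWith @IsFinite (f ≫ cK.ι) := MorphismProperty.comp_mem _ _ _ hf (finι cK)
  have hTa : IsAlgSpace T := K594.RepAlg.isAlgSpace_of_representable hX _ hgT.1
  have hW : IsAlgSpace C.W := K594.RepAlg.isAlgSpace_of_representable hX C.g C.gfin.1
  have h7 : RepWith @IsFinite (pullback.fst C.g cK.ι) :=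
    repWith_of_isPullback (IsPullback.of_hasPullback C.g cK.ι).flip (finι cK)
  have hK : IsAlgSpace (pullback C.g cK.ι) := K594.RepAlg.isAlgSpace_of_representable hW _ h7.1
  have hKp : IsProperMor (pullback.fst C.g cK.ι ≫ C.g ≫ s) :=
    isProperMor_comp hK hW hB (isProperMor_of_finite hW h7) hC
  let t : ∀ n, pullback (C.pr n ≫ F.j n) cK.ι ⟶ pullback (C.pr (n + 1) ≫ F.j (n + 1)) cK.ι := fun n =>
    pullback.lift (pullback.fst _ _ ≫ C.t n) (pullback.snd _ _) (by
      rw [Category.assoc, ← Category.assoc (C.t n), C.tpr, Category.assoc, F.w, pullback.condition])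
  have ht : ∀ n, t n ≫ ωK C cK (n + 1) = ωK C cK n := fun n => by
    apply pullback.hom_ext
    · rw [Category.assoc, ωK_fst, ← Category.assoc, pullback.lift_fst, Category.assoc, C.tΩ, ωK_fst]
    · rw [Category.assoc, ωK_snd, pullback.lift_snd, ωK_snd]
  have htw : ∀ n, t n ≫ wK C cK (n + 1) = wK C cK n ≫ (FSys.bc F cK.ι).y n := fun n => by
    apply pullback.hom_ext
    · rw [Category.assoc, wK_fst, ← Category.assoc, pullback.lift_fst, Category.assoc, C.tpr]
      change _ = (wK C cK n ≫ pullback.lift _ _ _) ≫ pullback.fst _ _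
      rw [Category.assoc, pullback.lift_fst, ← Category.assoc (wK C cK n), wK_fst, Category.assoc]
    · rw [Category.assoc, wK_snd, pullback.lift_snd]
      change _ = (wK C cK n ≫ pullback.lift _ _ _) ≫ pullback.snd _ _
      rw [Category.assoc, pullback.lift_snd, wK_snd]
  obtain ⟨τ, hτ⟩ := K594.FinHom.exists_hom A I H K hK hTa (pullback.fst C.g cK.ι ≫ C.g ≫ s) (f ≫ cK.ι ≫ s) hKp
    hfp.1 hfp.2.1 (fun n => pullback (C.pr n ≫ F.j n) cK.ι) (fun n => ωK C cK n) (fun n => isV_ωK n) t ht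
    (fun n => wK C cK n ≫ θ n) (fun n => (Category.assoc _ _ _).symm.trans
      ((congrArg (fun k => k ≫ θ (n + 1)) (htw n)).trans ((Category.assoc _ _ _).trans
        (congrArg (fun k => wK C cK n ≫ k) (h5 n)))))
  have h8 : ∀ n, θ n ≫ f ≫ cK.ι = (FSys.bc F cK.ι).j n ≫ cK.ι := fun n => by rw [← Category.assoc, h4]
  refine ⟨⟨z, κ, hκ, hκV, T, f ≫ cK.ι, hgT, θ, h8, h6, h5, τ, ?_, fun n => hτ n⟩⟩
  · refine K594.FinHom.hom_ext A I hK (pullback.fst C.g cK.ι ≫ C.g ≫ s) s hKp hs1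
      (fun n => pullback (C.pr n ≫ F.j n) cK.ι) (fun n => ωK C cK n) (fun n => isV_ωK n) (fun n => ?_)
    have e1 : ωK C cK n ≫ τ ≫ f ≫ cK.ι = (wK C cK n ≫ θ n) ≫ f ≫ cK.ι := by rw [← Category.assoc, hτ]
    have e2 : wK C cK n ≫ θ n ≫ f ≫ cK.ι = wK C cK n ≫ pullback.snd (F.j n) cK.ι ≫ cK.ι :=
      congrArg (fun k => wK C cK n ≫ k) (h8 n)
    refine e1.trans ((Category.assoc _ _ _).trans (e2.trans ?_))
    rw [← Category.assoc, wK_snd, ← Category.assoc, ωK_snd]

/-- The induction step. -/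
theorem step [IsNoetherianRing A] [IsAdicComplete I A] (H : SchHyp A I) (H' : FinHyp A I) (K : K594.AlgInd.CoverHyp A)
    (hX : IsAlgSpace X) (s : X ⟶ (yon (Spec (CommRingCat.of A))).obj (Over.mk (𝟙 _))) (hs1 : IsSeparatedMor s)
    (hs2 : IsFiniteTypeMor s) (F : FSys I X) (hp : IsProperMor (F.j 0 ≫ s))
    {V : Over (Spec (CommRingCat.of A))} (g : (yon _).obj V ⟶ X) (hg : RepWith @IsFinite g)
    {U P : Sp (Spec (CommRingCat.of A))} {j : U ⟶ X} (hj : RepWith @IsOpenImmersion j)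
    {fst : P ⟶ (yon _).obj V} {snd : P ⟶ U} (sqU : IsPullback fst snd g j)
    (hU1 : RepWith @Flat snd) (hU2 : RepWith @Surjective snd)
    (J : Fam X) (hJ : ∀ x, x ∉ Set.range (Points.map J.ι) → x ∈ Set.range (Points.map j))
    (ih : ∀ m, FSys.Alg (FSys.bc F (pow J m).ι) ((pow J m).ι ≫ s)) : FSys.Alg F s := by
  obtain ⟨C, hC, hCV⟩ := exists_cov H' hX s hs1 hs2 F hp g hg
  obtain ⟨fst', sqU'⟩ := hCV _ _ _ sqU
  obtain ⟨B, φ, p, hp1, hp2⟩ := exists_spec_chart (isQuasiCompactSp_of_mor s hs2.2)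
  have hVa : IsAffine (sp φ).left := inferInstanceAs (IsAffine (Spec B))
  obtain ⟨V2, κ, κ', hV2, sq⟩ := exists_double hs1 hp1
  let a : Ch X := ⟨sp φ, p⟩
  let b : Ch X := ⟨V2, (yon _).map κ ≫ p⟩
  have _ : IsAffine a.V.left := hVa
  have _ : IsAffine b.V.left := hV2
  let κs : b ⟶ a := ⟨κ, rfl⟩
  let κt : b ⟶ a := ⟨κ', sq.w.symm⟩
  have hb1 : RepWith @Etale b.v := MorphismProperty.comp_mem _ _ _ (repWith_of_isPullback sq.flip hp1) hp1
  obtain ⟨m₀, h⟩ := exists_nodeA C a s hs2 hp1 hj sqU' hU1 hU2 J hJ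
  obtain ⟨m₁, h'⟩ := exists_nodeA C b s hs2 hb1 hj sqU' hU1 hU2 J hJ
  obtain ⟨hA, k₀, hE⟩ := h (max m₀ m₁) (le_max_left _ _)
  obtain ⟨hA', k₁, hE'⟩ := h' (max m₀ m₁) (le_max_right _ _)
  obtain ⟨D⟩ := exists_TD I H K hX s hs1 hs2 F hp C hC (pow J (max (max m₀ m₁) (max k₀ k₁))) (ih _)
  exact alg_of_TD D H K hX s hs1 hs2 hp hp1 hp2 κs κt sq (le_max_left _ _) hA
    (hE _ ((le_max_left _ _).trans (le_max_right _ _))) hA' (hE' _ ((le_max_right _ _).trans (le_max_right _ _)))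

/-- The empty case. -/
theorem alg_of_isEmpty [IsEmpty (Points X)] (s : X ⟶ (yon (Spec (CommRingCat.of A))).obj (Over.mk (𝟙 _)))
    (F : FSys I X) (hp : IsProperMor (F.j 0 ≫ s)) : FSys.Alg F s := by
  have hE : ∀ n, IsEmpty (Points (F.Y n)) := fun n => ⟨fun x => IsEmpty.false (Points.map (F.j n) x)⟩
  have hy : ∀ n, IsIso (F.y n) := fun n => by
    have := hE (n + 1)
    have h1 : IsV (𝟙 (F.Y (n + 1))) (En I (F.Y (n + 1)) n) := ⟨repWith_of_isIso _, K594.AlgInd.fam_eq_of_isEmpty _ _⟩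
    obtain ⟨e, he, -⟩ := (F.isV n).ext h1
    rw [Category.comp_id] at he
    rw [← he]
    infer_instance
  let q : ∀ n, F.Y n ⟶ F.Y 0 := fun n => Nat.rec (motive := fun n => F.Y n ⟶ F.Y 0) (𝟙 _) (fun n r => inv (F.y n) ≫ r) n
  have hq : ∀ n, q (n + 1) = inv (F.y n) ≫ q n := fun n => rfl
  have hqi : ∀ n, IsIso (q n) := fun n => by
    induction n with
    | zero => exact inferInstanceAs (IsIso (𝟙 _))
    | succ n ih =>
      rw [hq]
      infer_instance
  refine ⟨F.Y 0, F.j 0, q, F.fin 0, hp, fun n => ?_, fun n => ?_, fun n => ?_⟩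
  · induction n with
    | zero => exact Category.id_comp _
    | succ n ih => rw [hq, Category.assoc, ih, IsIso.inv_comp_eq, F.w]
  · rw [hq, IsIso.hom_inv_id_assoc]
  · have := hE 0
    exact ⟨repWith_of_isIso _, K594.AlgInd.fam_eq_of_isEmpty _ _⟩

variable (I) in
theorem main_aux [IsNoetherianRing A] [IsAdicComplete I A] (H : SchHyp A I) (H' : FinHyp A I)
    (K : K594.AlgInd.CoverHyp A) {X₀ : Sp (Spec (CommRingCat.of A))}
    (hX₀ : IsAlgSpace X₀) (s₀ : X₀ ⟶ (yon (Spec (CommRingCat.of A))).obj (Over.mk (𝟙 _)))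
    (hs1 : IsSeparatedMor s₀) (hs2 : IsFiniteTypeMor s₀) (T : Closeds (Points X₀)) :
    ∀ (X : Sp (Spec (CommRingCat.of A))) (_ : IsAlgSpace X) (i : X ⟶ X₀) (_ : RepWith @IsClosedImmersion i)
      (_ : Set.range (Points.map i) = T) (F : FSys I X) (_ : IsProperMor (F.j 0 ≫ i ≫ s₀)), FSys.Alg F (i ≫ s₀) := by
  have hN := K594.AlgInd.noetherianSpace_points s₀ hs2
  have hT : IsAlgSpace ((yon (Spec (CommRingCat.of A))).obj (Over.mk (𝟙 _))) := IsAlgSpace.yon_obj _
  induction T using WellFoundedLT.induction with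
  | ind T ih =>
  intro X hX i hi hr F hp
  rcases isEmpty_or_nonempty (Points X) with hE | hE
  · exact alg_of_isEmpty _ F hp
  have hi1 : IsProperMor i := isProperMor_of_closed hX₀ hi
  have k1 : IsSeparatedMor (i ≫ s₀) := K594.AlgInd.isSeparatedMor_comp hi1.1 hs1
  have k2 : IsFiniteTypeMor (i ≫ s₀) := K594.AlgInd.isFiniteTypeMor_comp hX hX₀ hT hi1.2.1 hs2
  obtain ⟨Y, g, U, P, j, fst, snd, hg, -, hj, sq, hf1, hf2, hd⟩ := K X (i ≫ s₀) hX k1 k2 hE
  have hopen : IsOpen (Set.range (Points.map j)) := (K610.OpenImm.isOpenEmbedding_points hX hj).isOpen_range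
  obtain ⟨J, hJ⟩ := K598.Red.exists_redFam hX ⟨(Set.range (Points.map j))ᶜ, hopen.isClosed_compl⟩
  have hJr : Set.range (Points.map J.ι) = (Set.range (Points.map j))ᶜ :=
    (K598.Red.isRedInduced_of_fam hX _ J hJ).2.1
  refine step H H' K hX (i ≫ s₀) k1 k2 F hp g hg hj sq (repWith_flat_of_etale hf1) hf2 J (fun x hx => ?_) fun m => ?_
  · rw [hJr] at hx
    exact not_not.1 hx
  · have hX'' := (pow J m).isAlgSpace_sheaf hX
    have hc : RepWith @IsClosedImmersion ((pow J m).ι ≫ i) := MorphismProperty.comp_mem _ _ _ (pow J m).repWith_ι hi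
    have h1 : (⟨Set.range (Points.map ((pow J m).ι ≫ i)), K598.Red.isClosed_range hc⟩ : Closeds (Points X₀)) < T := by
      refine lt_of_le_of_ne ?_ ?_
      · intro x hx
        obtain ⟨y, rfl⟩ := hx
        rw [Points.map_comp]
        change _ ∈ (T : Set (Points X₀))
        rw [← hr]
        exact ⟨_, rfl⟩
      · intro h
        obtain ⟨x, hx⟩ := hd.nonempty
        have h2 : Points.map i x ∈ (T : Set (Points X₀)) := by
          rw [← hr]
          exact ⟨x, rfl⟩
        rw [← h] at h2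
        obtain ⟨y, hy⟩ := h2
        rw [Points.map_comp] at hy
        have h3 := K594.AlgInd.injective_of_closed hi hy
        have h4 := K594.AlgInd.range_pow_subset hX J m ⟨y, rfl⟩
        rw [h3, hJr] at h4
        exact h4 hx
    have h5 := ih _ h1 (pow J m).sheaf hX'' ((pow J m).ι ≫ i) hc rfl (FSys.bc F (pow J m).ι) (by
        have e : (FSys.bc F (pow J m).ι).j 0 ≫ ((pow J m).ι ≫ i) ≫ s₀ = pullback.fst (F.j 0) (pow J m).ι ≫ F.j 0 ≫ i ≫ s₀ := by
          change pullback.snd (F.j 0) (pow J m).ι ≫ ((pow J m).ι ≫ i) ≫ s₀ = _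
          rw [Category.assoc, ← Category.assoc, ← pullback.condition, Category.assoc]
        rw [e]
        have h2 : RepWith @IsFinite (pullback.fst (F.j 0) (pow J m).ι) :=
          repWith_of_isPullback (IsPullback.of_hasPullback (F.j 0) (pow J m).ι).flip (finι _)
        exact isProperMor_comp (K594.RepAlg.isAlgSpace_of_representable (F.alg hX 0) _ h2.1) (F.alg hX 0) hT
          (isProperMor_of_finite (F.alg hX 0) h2) hp)
    rw [Category.assoc] at h5
    exact h5

variable (I) in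
/-- Algebraization of formal finite spaces. -/
theorem main [IsNoetherianRing A] [IsAdicComplete I A] (H : SchHyp A I) (H' : FinHyp A I)
    (K : K594.AlgInd.CoverHyp A) {X : Sp (Spec (CommRingCat.of A))}
    (hX : IsAlgSpace X) (s : X ⟶ (yon (Spec (CommRingCat.of A))).obj (Over.mk (𝟙 _)))
    (hs1 : IsSeparatedMor s) (hs2 : IsFiniteTypeMor s) (F : FSys I X) (hp : IsProperMor (F.j 0 ≫ s)) :
    FSys.Alg F s := by
  have hc : RepWith @IsClosedImmersion (𝟙 X) := repWith_of_isIso _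
  have h := main_aux I H H' K hX s hs1 hs2 ⟨Set.range (Points.map (𝟙 X)), K598.Red.isClosed_range hc⟩ X hX (𝟙 X) hc
    rfl F (by rw [Category.id_comp]; exact hp)
  rw [Category.id_comp] at h
  exact h

end K594.FinInd
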