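import Groth.Agent.AlgSp.K594.ChRing
import Groth.Agent.AlgSp.K666.RelSpec
import Groth.Agent.AlgSp.K639.EqFlat

/-!
# The quasi-coherent algebra `{(b, c) ∈ O_W × O_T | u b = v b, ζ b = τ c}`
-/

set_option autoImplicit false
universe u
open CategoryTheory CategoryTheory.Limits AlgebraicGeometry Opposite
open AlgSp K598.Site K598.RepKit K598.ClFam K598.Charts
open K594.ChRing K594.EqFlat K602 K602.Ch K594.RelSpec

namespace K594.FinQAlg

variable {S : Scheme.{u}} {X W R T K : Sp S} {gW : W ⟶ X} {gR : R ⟶ X} {gT : T ⟶ X} {gK : K ⟶ X}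
  (hW : RepWith @IsAffineHom gW) (hR : RepWith @IsAffineHom gR) (hT : RepWith @IsAffineHom gT)
  (hK : RepWith @IsAffineHom gK) {u v : R ⟶ W} {ζ : K ⟶ W} {τ : K ⟶ T}
  (eu : u ≫ gW = gR) (ev : v ≫ gW = gR) (eζ : ζ ≫ gW = gK) (eτ : τ ≫ gT = gK)

/-- The subring on a chart. -/
noncomputable abbrev EE (a : Ch X) : Subring (B hW a × B hT a) :=
  E (ρ hR hW u eu a) (ρ hR hW v ev a) (ρ hK hW ζ eζ a) (ρ hK hT τ eτ a)

/-- The quasi-coherent algebra. -/
noncomputable def Q : QAlg X where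
  A a := CommRingCat.of (EE hW hR hT hK eu ev eζ eτ a)
  η a := η (β hW a) (β hT a) (by rw [β_ρ, β_ρ]) (by rw [β_ρ, β_ρ])
  r {a b} φ := r (res hW φ) (res hT φ) (res hR φ) (res hK φ) (ρ_res hR hW u eu φ).symm (ρ_res hR hW v ev φ).symm
    (ρ_res hK hW ζ eζ φ).symm (ρ_res hK hT τ eτ φ).symm
  r_id a := by
    have h1 : ∀ y, (res hW (𝟙 a)).hom y = y := fun y => by rw [res_id]; rfl
    have h2 : ∀ y, (res hT (𝟙 a)).hom y = y := fun y => by rw [res_id]; rfl
    ext x
    · exact h1 _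
    · exact h2 _
  r_comp {a b c} f g := by
    have h1 : ∀ y, (res hW (f ≫ g)).hom y = (res hW f).hom ((res hW g).hom y) := fun y => by rw [res_comp]; rfl
    have h2 : ∀ y, (res hT (f ≫ g)).hom y = (res hT f).hom ((res hT g).hom y) := fun y => by rw [res_comp]; rfl
    ext x
    · exact h1 _
    · exact h2 _
  η_r {a b} g := by
    have h1 : ∀ y, (res hW g).hom ((β hW b).hom y) = (β hW a).hom ((ores g).hom y) := fun y =>
      congrArg (fun k : O b ⟶ B hW a => k.hom y) (β_res hW g)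
    have h2 : ∀ y, (res hT g).hom ((β hT b).hom y) = (β hT a).hom ((ores g).hom y) := fun y =>
      congrArg (fun k : O b ⟶ B hT a => k.hom y) (β_res hT g)
    ext x
    · exact h1 _
    · exact h2 _
  isPushout {a b} g ha hb hg := by
    have := ha
    have := hb
    exact isPushout_E (ores g) hg (β hW b) (β hT b) (β hR b) (β hK b) (β hW a) (β hT a) (β hR a) (β hK a)
      (β_ρ hR hW u eu b) (β_ρ hR hW v ev b) (β_ρ hK hW ζ eζ b) (β_ρ hK hT τ eτ b)
      (β_ρ hR hW u eu a) (β_ρ hR hW v ev a) (β_ρ hK hW ζ eζ a) (β_ρ hK hT τ eτ a)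
      (res hW g) (res hT g) (res hR g) (res hK g) (ρ_res hR hW u eu g).symm (ρ_res hR hW v ev g).symm
      (ρ_res hK hW ζ eζ g).symm (ρ_res hK hT τ eτ g).symm
      (Ch.isPushout hW g) (Ch.isPushout hT g) (Ch.isPushout hR g) (Ch.isPushout hK g)

/-- Finiteness. -/
theorem finite_η (a : Ch X) [IsNoetherianRing (O a)] (h1 : (β hW a).hom.Finite) (h2 : (β hT a).hom.Finite) :
    ((Q hW hR hT hK eu ev eζ eτ).η a).hom.Finite := by
  let _ := (β hW a).hom.toAlgebra
  let _ := (β hT a).hom.toAlgebra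
  have _ : Module.Finite (O a) (B hW a) := h1
  have _ : Module.Finite (O a) (B hT a) := h2
  let _ := ((Q hW hR hT hK eu ev eζ eτ).η a).hom.toAlgebra
  let f : (Q hW hR hT hK eu ev eζ eτ).A a →ₗ[O a] (B hW a × B hT a) :=
    { toFun := fun x => x.1
      map_add' := fun _ _ => rfl
      map_smul' := fun _ _ => rfl }
  exact Module.Finite.of_injective f Subtype.val_injective

end K594.FinQAlg
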