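import Groth.Agent.AlgSp.K594.FinBC

/-!
# The algebraization of the kernel pair of a formal cover

`Cov`: a formal cover of the formal finite space `F` coming from a finite space `W` over `X`.
`exists_R`: the fibre products `P_n ×_{Y_n} P_n` come from a closed subspace of `W ×_X W`.
-/

set_option autoImplicit false
universe u
open CategoryTheory CategoryTheory.Limits AlgebraicGeometry Opposite
open AlgSp K598.Site K598.RepKit K598.ClFam K598.Charts
open K594.FamOps K594.AlgSch K594.AlgChart K594.AlgStep K594.VKit K594.FinSch K594.FinBC K597.ProperSub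

namespace K594.FinR

variable {A : Type u} [CommRing A] {I : Ideal A} {X : Sp (Spec (CommRingCat.of A))}

/-- A formal cover of `F` coming from `W ⟶ X`. -/
structure Cov (F : FSys I X) where
  W : Sp (Spec (CommRingCat.of A))
  g : W ⟶ X
  gfin : RepWith @IsFinite g
  P : ℕ → Sp (Spec (CommRingCat.of A))
  pr : ∀ n, P n ⟶ F.Y n
  prfin : ∀ n, RepWith @IsFinite (pr n)
  Ω : ∀ n, P n ⟶ W
  w : ∀ n, Ω n ≫ g = pr n ≫ F.j n
  isV : ∀ n, IsV (Ω n) (En I W n)
  t : ∀ n, P n ⟶ P (n + 1)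
  tΩ : ∀ n, t n ≫ Ω (n + 1) = Ω n
  tpr : ∀ n, t n ≫ pr (n + 1) = pr n ≫ F.y n
  V : Sp (Spec (CommRingCat.of A))
  gV : V ⟶ X
  gVfin : RepWith @IsFinite gV
  prV : ∀ n, P n ⟶ V
  sqV : ∀ n, IsPullback (pr n) (prV n) (F.j n) gV
  tprV : ∀ n, t n ≫ prV (n + 1) = prV n

theorem isSeparatedMor_of_finite {G H : Sp (Spec (CommRingCat.of A))} (hH : IsAlgSpace H) {f : G ⟶ H}
    (hf : RepWith @IsFinite f) : IsSeparatedMor f := (isProperMor_of_finite hH hf).1

namespace Cov

variable {F : FSys I X} (C : Cov F)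

/-- The map to `W ×_X W`. -/
noncomputable def r (n : ℕ) : pullback (C.pr n) (C.pr n) ⟶ pullback C.g C.g :=
  pullback.lift (pullback.fst _ _ ≫ C.Ω n) (pullback.snd _ _ ≫ C.Ω n) (by
    rw [Category.assoc, Category.assoc, C.w, ← Category.assoc, ← Category.assoc, pullback.condition])

theorem r_fst (n : ℕ) : C.r n ≫ pullback.fst _ _ = pullback.fst _ _ ≫ C.Ω n := pullback.lift_fst _ _ _
theorem r_snd (n : ℕ) : C.r n ≫ pullback.snd _ _ = pullback.snd _ _ ≫ C.Ω n := pullback.lift_snd _ _ _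

theorem closed_r (hX : IsAlgSpace X) (n : ℕ) : RepWith @IsClosedImmersion (C.r n) := by
  have h1 : RepWith @IsClosedImmersion (pullback.map (C.pr n) (C.pr n) (C.pr n ≫ F.j n) (C.pr n ≫ F.j n) (𝟙 _) (𝟙 _) (F.j n)
      (Category.id_comp _).symm (Category.id_comp _).symm) :=
    repWith_of_isPullback (pullback_map_diagonal_isPullback (C.pr n) (C.pr n) (F.j n)) (isSeparatedMor_of_finite hX (F.fin n))
  have h2 : RepWith @IsClosedImmersion (pullback.map (C.pr n ≫ F.j n) (C.pr n ≫ F.j n) C.g C.g (C.Ω n) (C.Ω n) (𝟙 _)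
      ((Category.comp_id _).trans (C.w n).symm) ((Category.comp_id _).trans (C.w n).symm)) :=
    MorphismProperty.pullbackMap (P := RepWith @IsClosedImmersion) (C.isV n).rep (C.isV n).rep
      (C.w n).symm (C.w n).symm
  have h3 : C.r n = pullback.map (C.pr n) (C.pr n) (C.pr n ≫ F.j n) (C.pr n ≫ F.j n) (𝟙 _) (𝟙 _) (F.j n)
      (Category.id_comp _).symm (Category.id_comp _).symm ≫
    pullback.map (C.pr n ≫ F.j n) (C.pr n ≫ F.j n) C.g C.g (C.Ω n) (C.Ω n) (𝟙 _)
      ((Category.comp_id _).trans (C.w n).symm) ((Category.comp_id _).trans (C.w n).symm) := by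
    apply pullback.hom_ext
    · rw [r_fst, Category.assoc]
      refine Eq.symm (Eq.trans (congrArg (fun k => _ ≫ k) (pullback.lift_fst _ _ _)) ?_)
      rw [← Category.assoc]
      refine congrArg (fun k => k ≫ C.Ω n) ((pullback.lift_fst _ _ _).trans (Category.comp_id _))
    · rw [r_snd, Category.assoc]
      refine Eq.symm (Eq.trans (congrArg (fun k => _ ≫ k) (pullback.lift_snd _ _ _)) ?_)
      rw [← Category.assoc]
      refine congrArg (fun k => k ≫ C.Ω n) ((pullback.lift_snd _ _ _).trans (Category.comp_id _))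
  rw [h3]
  exact MorphismProperty.comp_mem _ _ _ h1 h2

/-- The transition map of the fibre products. -/
noncomputable def tt (n : ℕ) : pullback (C.pr n) (C.pr n) ⟶ pullback (C.pr (n + 1)) (C.pr (n + 1)) :=
  pullback.lift (pullback.fst _ _ ≫ C.t n) (pullback.snd _ _ ≫ C.t n) (by
    rw [Category.assoc, Category.assoc, C.tpr, ← Category.assoc, ← Category.assoc, pullback.condition])

theorem tt_r (n : ℕ) : C.tt n ≫ C.r (n + 1) = C.r n := by
  apply pullback.hom_ext
  · rw [Category.assoc, r_fst, ← Category.assoc, tt, pullback.lift_fst, Category.assoc, C.tΩ, r_fst]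
  · rw [Category.assoc, r_snd, ← Category.assoc, tt, pullback.lift_snd, Category.assoc, C.tΩ, r_snd]

theorem isV_tt (hX : IsAlgSpace X) (n : ℕ) : IsV (C.tt n) (En I _ n) := by
  have hm : Mono (C.r n) := mono_of_repWith_isClosedImmersion (C.closed_r hX n)
  have hm' : Mono (C.tt n) := mono_of_mono_fac (C.tt_r n)
  have hΩ := (C.isV n).mono
  have hΩ' := (C.isV (n + 1)).mono
  have hy := (F.isV n).mono
  refine isV_En_of (bot_of_hom (pullback.fst _ _ ≫ C.pr n) (FSys.bot F n)) fun Z f hZ => ?_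
  obtain ⟨a, ha⟩ := isV_lift (C.isV n) (f ≫ pullback.fst _ _ ≫ C.Ω (n + 1)) hZ
  obtain ⟨b, hb⟩ := isV_lift (C.isV n) (f ≫ pullback.snd _ _ ≫ C.Ω (n + 1)) hZ
  have ha' : a ≫ C.t n = f ≫ pullback.fst _ _ := by
    rw [← cancel_mono (C.Ω (n + 1)), Category.assoc, C.tΩ, ha, Category.assoc]
  have hb' : b ≫ C.t n = f ≫ pullback.snd _ _ := by
    rw [← cancel_mono (C.Ω (n + 1)), Category.assoc, C.tΩ, hb, Category.assoc]
  refine ⟨pullback.lift a b ?_, ?_⟩
  · rw [← cancel_mono (F.y n), Category.assoc, ← C.tpr, ← Category.assoc, ha', Category.assoc, pullback.condition,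
      Category.assoc b, ← C.tpr, ← Category.assoc b, hb', Category.assoc]
  · apply pullback.hom_ext
    · rw [tt, Category.assoc, pullback.lift_fst, ← Category.assoc, pullback.lift_fst, ha']
    · rw [tt, Category.assoc, pullback.lift_snd, ← Category.assoc, pullback.lift_snd, hb']

/-- The algebraization of the fibre products. -/
theorem exists_R [IsNoetherianRing A] (H : SchHyp A I) (K : K594.AlgInd.CoverHyp A) (hX : IsAlgSpace X)
    (s : X ⟶ (yon (Spec (CommRingCat.of A))).obj (Over.mk (𝟙 _))) (hs1 : IsSeparatedMor s) (hs2 : IsFiniteTypeMor s)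
    (hp : IsProperMor (F.j 0 ≫ s)) :
    ∃ (z : Fam (pullback C.g C.g)) (κ : ∀ n, pullback (C.pr n) (C.pr n) ⟶ z.sheaf),
      (∀ n, κ n ≫ z.ι = C.r n) ∧ ∀ n, IsV (κ n) (En I z.sheaf n) := by
  have hT : IsAlgSpace ((yon (Spec (CommRingCat.of A))).obj (Over.mk (𝟙 _))) := IsAlgSpace.yon_obj _
  have hW : IsAlgSpace C.W := K594.RepAlg.isAlgSpace_of_representable hX C.g C.gfin.1
  have h1 : RepWith @IsFinite (pullback.fst C.g C.g) := repWith_of_isPullback (IsPullback.of_hasPullback C.g C.g).flip C.gfin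
  have h2 : RepWith @IsFinite (pullback.fst C.g C.g ≫ C.g) := MorphismProperty.comp_mem _ _ _ h1 C.gfin
  have hWW : IsAlgSpace (pullback C.g C.g) := K594.RepAlg.isAlgSpace_of_representable hX _ h2.1
  have h3 := isProperMor_of_finite hX h2
  have k1 : IsSeparatedMor ((pullback.fst C.g C.g ≫ C.g) ≫ s) := K594.AlgInd.isSeparatedMor_comp h3.1 hs1
  have k2 : IsFiniteTypeMor ((pullback.fst C.g C.g ≫ C.g) ≫ s) := K594.AlgInd.isFiniteTypeMor_comp hWW hX hT h3.2.1 hs2
  have ha : ∀ n, ofClosed _ (C.closed_r hX n) = sup (ofClosed _ (C.closed_r hX (n + 1))) (En I _ n) := fun n => by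
    have h4 := ofClosed_of_isV (C.closed_r hX (n + 1)) (C.isV_tt hX n) (by rw [tt_r]; exact C.closed_r hX n)
    rw [← h4]
    congr 1
    exact (C.tt_r n).symm
  have hP0 : IsAlgSpace (C.P 0) := K594.RepAlg.isAlgSpace_of_representable (F.alg hX 0) _ (C.prfin 0).1
  have h5 : RepWith @IsFinite (pullback.fst (C.pr 0) (C.pr 0) ≫ C.pr 0) := MorphismProperty.comp_mem _ _ _
    (repWith_of_isPullback (IsPullback.of_hasPullback (C.pr 0) (C.pr 0)).flip (C.prfin 0)) (C.prfin 0)
  have hRR : IsAlgSpace (pullback (C.pr 0) (C.pr 0)) := K594.RepAlg.isAlgSpace_of_representable (F.alg hX 0) _ h5.1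
  have hpr : IsProperMor ((ofClosed _ (C.closed_r hX 0)).ι ≫ (pullback.fst C.g C.g ≫ C.g) ≫ s) := by
    obtain ⟨e, he, -⟩ := exists_iso_of_eq (ofClosed _ (C.closed_r hX 0)).repWith_ι (C.closed_r hX 0) (by rw [ofClosed_ι])
    have h6 : (ofClosed _ (C.closed_r hX 0)).ι ≫ (pullback.fst C.g C.g ≫ C.g) ≫ s =
        e.hom ≫ (pullback.fst (C.pr 0) (C.pr 0) ≫ C.pr 0) ≫ F.j 0 ≫ s := by
      rw [← he, Category.assoc, Category.assoc, ← Category.assoc (C.r 0), r_fst, Category.assoc, ← Category.assoc (C.Ω 0),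
        C.w, Category.assoc, Category.assoc]
    rw [h6]
    have hA := (ofClosed _ (C.closed_r hX 0)).isAlgSpace_sheaf hWW
    exact isProperMor_comp hA hRR hT (isProperMor_of_closed hRR (repWith_of_isIso e.hom))
      (isProperMor_comp hRR (F.alg hX 0) hT (isProperMor_of_finite (F.alg hX 0) h5) hp)
  obtain ⟨z, hz, -⟩ := K594.AlgInd.main I H K hWW _ k1 k2 (fun n => ofClosed _ (C.closed_r hX n)) ha hpr
  choose κ h1 h2 using fun n => isV_of_sup (hz n)
  exact ⟨z, κ, h1, h2⟩

end Cov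

end K594.FinR
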