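import Groth.Agent.AlgSp.K594.FinChart
import Groth.Agent.AlgSp.K594.FinGen
import Groth.Agent.AlgSp.K405.FinAlg

/-!
# The rings of a formal cover on a chart

* `exists_nodeA`: the formal algebra (K405.FinAlg) on a chart.
* `TD`: the data over an infinitesimal neighbourhood of `V(J)`; `rel`: the relations `FinGen.Rel` on a chart.
-/

set_option autoImplicit false
universe u
open CategoryTheory CategoryTheory.Limits AlgebraicGeometry Opposite TensorProduct
open AlgSp K598.Site K598.RepKit K598.ClFam K598.Charts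
open K594.FamOps K594.AlgSch K594.AlgChart K594.AlgStep K594.VKit K594.ChRing K594.FinBC K594.FinR K594.FinChart
open K602 K602.Ch

namespace K594.FinRel

section general

variable {S : Scheme.{u}} {T G H L P : Sp S} {g : G ⟶ T} {h : H ⟶ T} {l : L ⟶ T} {q : P ⟶ T}
  (hg : RepWith @IsAffineHom g) (hh : RepWith @IsAffineHom h) (hl : RepWith @IsAffineHom l)
  (hq : RepWith @IsAffineHom q)

theorem ρ_sq {k : P ⟶ G} {k' : G ⟶ L} {m : P ⟶ H} {m' : H ⟶ L} (e : k ≫ k' = m ≫ m')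
    (hk : k ≫ g = q) (hk' : k' ≫ l = g) (hm : m ≫ h = q) (hm' : m' ≫ l = h) (a : Ch T) (x : B hl a) :
    ρ hq hg k hk a (ρ hg hl k' hk' a x) = ρ hq hh m hm a (ρ hh hl m' hm' a x) := by
  have h1 := ρ_comp hq hg hl k hk k' hk' (by rw [Category.assoc, hk', hk]) a
  have h2 := ρ_comp hq hh hl m hm m' hm' (by rw [Category.assoc, hm', hm]) a
  rw [ρ_congr hq hl e _ (by rw [Category.assoc, hm', hm]), h2] at h1
  exact (congrArg (fun t : B hl a ⟶ B hq a => t.hom x) h1).symm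

theorem ρ_tri {k : P ⟶ G} {k' : G ⟶ L} {m : P ⟶ L} (e : k ≫ k' = m)
    (hk : k ≫ g = q) (hk' : k' ≫ l = g) (hm : m ≫ l = q) (a : Ch T) (x : B hl a) :
    ρ hq hg k hk a (ρ hg hl k' hk' a x) = ρ hq hl m hm a x := by
  have h1 := ρ_comp hq hg hl k hk k' hk' (by rw [Category.assoc, hk', hk]) a
  rw [ρ_congr hq hl e _ hm] at h1
  exact (congrArg (fun t : B hl a ⟶ B hq a => t.hom x) h1).symm

theorem β_ρ_hom {k : G ⟶ H} (hk : k ≫ h = g) (a : Ch T) : (ρ hg hh k hk a).hom.comp (β hh a).hom = (β hg a).hom :=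
  congrArg CommRingCat.Hom.hom (β_ρ hg hh k hk a)

end general

theorem aff_of_fin {S : Scheme.{u}} {G H : Sp S} {f : G ⟶ H} (hf : RepWith @IsFinite f) : RepWith @IsAffineHom f :=
  repWith_mono (fun _ _ f (_ : IsFinite f) => (inferInstance : IsAffineHom f)) hf

variable {A : Type u} [CommRing A] {I : Ideal A} {X : Sp (Spec (CommRingCat.of A))} {F : FSys I X} (C : Cov F)

theorem hY (F : FSys I X) (n : ℕ) : RepWith @IsAffineHom (F.j n) := aff_of_fin (F.fin n)

theorem finP (n : ℕ) : RepWith @IsFinite (C.pr n ≫ F.j n) := MorphismProperty.comp_mem _ _ _ (C.prfin n) (F.fin n)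

theorem hP (n : ℕ) : RepWith @IsAffineHom (C.pr n ≫ F.j n) := aff_of_fin (finP C n)

theorem finRR (n : ℕ) : RepWith @IsFinite (pullback.fst (C.pr n) (C.pr n) ≫ C.pr n ≫ F.j n) :=
  MorphismProperty.comp_mem _ _ _ (repWith_of_isPullback (IsPullback.of_hasPullback (C.pr n) (C.pr n)).flip (C.prfin n))
    (finP C n)

theorem hRR (n : ℕ) : RepWith @IsAffineHom (pullback.fst (C.pr n) (C.pr n) ≫ C.pr n ≫ F.j n) := aff_of_fin (finRR C n)

section rings

variable (a : Ch X) [IsAffine a.V.left]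

/-- The rings of the formal space. -/
noncomputable abbrev RC (F : FSys I X) (a : Ch X) (n : ℕ) : Type u := B (hY F n) a
noncomputable abbrev RW (n : ℕ) : Type u := B (hP C n) a
noncomputable abbrev RRn (n : ℕ) : Type u := B (hRR C n) a

noncomputable abbrev rβ (F : FSys I X) (a : Ch X) (n : ℕ) : O a →+* RC F a n := (β (hY F n) a).hom
noncomputable abbrev rc (F : FSys I X) (a : Ch X) (n : ℕ) : RC F a (n + 1) →+* RC F a n :=
  (ρ (hY F n) (hY F (n + 1)) (F.y n) (F.w n) a).hom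
noncomputable abbrev rβW (n : ℕ) : O a →+* RW C a n := (β (hP C n) a).hom
noncomputable abbrev rw' (n : ℕ) : RC F a n →+* RW C a n := (ρ (hP C n) (hY F n) (C.pr n) rfl a).hom
noncomputable abbrev re (n : ℕ) : RW C a (n + 1) →+* RW C a n :=
  (ρ (hP C n) (hP C (n + 1)) (C.t n) (by rw [← Category.assoc, C.tpr, Category.assoc, F.w]) a).hom
noncomputable abbrev ru (n : ℕ) : RW C a n →+* RRn C a n :=
  (ρ (hRR C n) (hP C n) (pullback.fst _ _) rfl a).hom
noncomputable abbrev rv (n : ℕ) : RW C a n →+* RRn C a n :=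
  (ρ (hRR C n) (hP C n) (pullback.snd _ _) (by rw [← Category.assoc, ← Category.assoc, pullback.condition]) a).hom

/-- The formal algebra on a chart. -/
theorem exists_nodeA [IsNoetherianRing A] (s : X ⟶ (yon (Spec (CommRingCat.of A))).obj (Over.mk (𝟙 _)))
    (hs2 : IsFiniteTypeMor s) (ha : RepWith @Etale a.v)
    {U P : Sp (Spec (CommRingCat.of A))} {j : U ⟶ X} (hj : RepWith @IsOpenImmersion j)
    {fst : P ⟶ C.V} {snd : P ⟶ U} (sqU : IsPullback fst snd C.gV j)
    (hU1 : RepWith @Flat snd) (hU2 : RepWith @Surjective snd)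
    (J : Fam X) (hJ : ∀ x, x ∉ Set.range (Points.map J.ι) → x ∈ Set.range (Points.map j)) :
    ∃ m₀, ∀ m, m₀ ≤ m → K594.FinGen.HAR (tI a J) (rβ F a) (rc F a) (rw' C a) m ∧
      ∃ k₀, ∀ k, k₀ ≤ k → K594.FinGen.HE (tI a J) (rβ F a) (rc F a) (rβW C a) (rw' C a) (re C a) (ru C a) (rv C a) m k := by
  have hN : IsNoetherianRing (O a) := isNoetherianRing_O s hs2 a ha
  have hV : RepWith @IsAffineHom C.gV := aff_of_fin C.gVfin
  let _ := (β hV a).hom.toAlgebra
  have _ : Module.Finite (O a) (B hV a) := finite_β hV C.gVfin a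
  have hsq : ∀ n, C.prV n ≫ C.gV = C.pr n ≫ F.j n := fun n => (C.sqV n).w.symm
  obtain ⟨m₀, h⟩ := K594.FinAlg.exists_const (aI I a) (tI a J : Set (O a)) (RC F a) (rβ F a) (finite_β (hY F 0) (F.fin 0) a)
    (rc F a) (fun n => β_ρ_hom _ _ _ a) (fun n => surjective_ρ _ _ _ (F.isV n) a) (fun n => ker_En _ _ _ (F.isV n) a)
    (B hV a) (fun f hf => faithfullyFlat_β hV hj sqU hU1 hU2 J hJ a rfl f hf)
    (RW C a) (rw' C a) (fun n => (ρ (hP C n) hV (C.prV n) (hsq n) a).hom)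
    (fun n => isPushout_β (hY F n) hV (hP C n) (C.sqV n) rfl (hsq n) a)
    (re C a) (fun n => by
      ext x
      exact ρ_sq (hP C (n + 1)) (hY F n) (hY F (n + 1)) (hP C n) (C.tpr n) _ _ _ _ a x)
    (fun n => by
      ext x
      exact ρ_tri (hP C (n + 1)) hV (hP C n) (C.tprV n) _ _ _ a x)
    (RRn C a) (ru C a) (rv C a) (fun n => isPushout_ρ (hP C n) (hP C n) (hY F n) (hRR C n)
      (IsPullback.of_hasPullback (C.pr n) (C.pr n)) rfl _ rfl rfl a)
  refine ⟨m₀, fun m hm => ?_⟩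
  obtain ⟨h1, k₀, h2⟩ := h m hm
  rw [Ideal.span_eq] at h1 h2
  refine ⟨h1, k₀, fun k hk b hb hb' y hy hy' => ?_⟩
  exact h2 k hk b hb hb' y hy (fun n => by
    rw [β_ρ_hom]
    exact hy' n)

end rings

section TD

/-- The data over the closed subspace `cK` of `X`, with the algebraized kernel pair `z`. -/
structure TD (C : Cov F) (cK : Fam X) where
  z : Fam (pullback C.g C.g)
  κ : ∀ n, pullback (C.pr n) (C.pr n) ⟶ z.sheaf
  κr : ∀ n, κ n ≫ z.ι = C.r n
  κV : ∀ n, IsV (κ n) (En I z.sheaf n)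
  T : Sp (Spec (CommRingCat.of A))
  gT : T ⟶ X
  gTfin : RepWith @IsFinite gT
  θ : ∀ n, pullback (F.j n) cK.ι ⟶ T
  θg : ∀ n, θ n ≫ gT = pullback.snd _ _ ≫ cK.ι
  θV : ∀ n, IsV (θ n) (En I T n)
  yθ : ∀ n, (FSys.bc F cK.ι).y n ≫ θ (n + 1) = θ n
  τ : pullback C.g cK.ι ⟶ T
  τg : τ ≫ gT = pullback.snd _ _ ≫ cK.ι
  τθ : ∀ n, pullback.lift (f := C.g) (g := cK.ι) (pullback.fst (C.pr n ≫ F.j n) cK.ι ≫ C.Ω n) (pullback.snd _ _)
      (by rw [Category.assoc, C.w, pullback.condition]) ≫ τ =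
    pullback.lift (f := F.j n) (g := cK.ι) (pullback.fst (C.pr n ≫ F.j n) cK.ι ≫ C.pr n) (pullback.snd _ _)
      (by rw [Category.assoc, pullback.condition]) ≫ θ n

variable {C} {cK : Fam X} (D : TD C cK)

theorem finι (cK : Fam X) : RepWith @IsFinite cK.ι :=
  repWith_mono (fun _ _ f (_ : IsClosedImmersion f) => (inferInstance : IsFinite f)) cK.repWith_ι

theorem finCK (F : FSys I X) (cK : Fam X) (n : ℕ) : RepWith @IsFinite (pullback.snd (F.j n) cK.ι ≫ cK.ι) :=
  MorphismProperty.comp_mem _ _ _ (repWith_of_isPullback (IsPullback.of_hasPullback (F.j n) cK.ι) (F.fin n)) (finι cK)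

theorem finKK (C : Cov F) (cK : Fam X) (n : ℕ) : RepWith @IsFinite (pullback.snd (C.pr n ≫ F.j n) cK.ι ≫ cK.ι) :=
  MorphismProperty.comp_mem _ _ _ (repWith_of_isPullback (IsPullback.of_hasPullback (C.pr n ≫ F.j n) cK.ι) (finP C n))
    (finι cK)

theorem finK (C : Cov F) (cK : Fam X) : RepWith @IsFinite (pullback.snd C.g cK.ι ≫ cK.ι) :=
  MorphismProperty.comp_mem _ _ _ (repWith_of_isPullback (IsPullback.of_hasPullback C.g cK.ι) C.gfin) (finι cK)

theorem finR : RepWith @IsFinite (D.z.ι ≫ pullback.fst C.g C.g ≫ C.g) :=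
  MorphismProperty.comp_mem _ _ _ (finι D.z) (MorphismProperty.comp_mem _ _ _
    (repWith_of_isPullback (IsPullback.of_hasPullback C.g C.g).flip C.gfin) C.gfin)

theorem hCK (F : FSys I X) (cK : Fam X) (n : ℕ) : RepWith @IsAffineHom (pullback.snd (F.j n) cK.ι ≫ cK.ι) :=
  aff_of_fin (finCK F cK n)

theorem hKK (C : Cov F) (cK : Fam X) (n : ℕ) : RepWith @IsAffineHom (pullback.snd (C.pr n ≫ F.j n) cK.ι ≫ cK.ι) :=
  aff_of_fin (finKK C cK n)

theorem hK (C : Cov F) (cK : Fam X) : RepWith @IsAffineHom (pullback.snd C.g cK.ι ≫ cK.ι) := aff_of_fin (finK C cK)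

theorem hR : RepWith @IsAffineHom (D.z.ι ≫ pullback.fst C.g C.g ≫ C.g) := aff_of_fin (finR D)

theorem hW (C : Cov F) : RepWith @IsAffineHom C.g := aff_of_fin C.gfin

theorem hT : RepWith @IsAffineHom D.gT := aff_of_fin D.gTfin

theorem eu : (D.z.ι ≫ pullback.fst C.g C.g) ≫ C.g = D.z.ι ≫ pullback.fst C.g C.g ≫ C.g := Category.assoc _ _ _

theorem ev : (D.z.ι ≫ pullback.snd C.g C.g) ≫ C.g = D.z.ι ≫ pullback.fst C.g C.g ≫ C.g := by
  rw [Category.assoc, pullback.condition]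

theorem eζ (C : Cov F) (cK : Fam X) : pullback.fst C.g cK.ι ≫ C.g = pullback.snd C.g cK.ι ≫ cK.ι := pullback.condition

variable (C cK) in
/-- The map from the formal neighbourhoods. -/
noncomputable def ωK (n : ℕ) : pullback (C.pr n ≫ F.j n) cK.ι ⟶ pullback C.g cK.ι :=
  pullback.lift (f := C.g) (g := cK.ι) (pullback.fst (C.pr n ≫ F.j n) cK.ι ≫ C.Ω n) (pullback.snd _ _)
      (by rw [Category.assoc, C.w, pullback.condition])

variable (C cK) in
noncomputable def wK (n : ℕ) : pullback (C.pr n ≫ F.j n) cK.ι ⟶ pullback (F.j n) cK.ι :=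
  pullback.lift (f := F.j n) (g := cK.ι) (pullback.fst (C.pr n ≫ F.j n) cK.ι ≫ C.pr n) (pullback.snd _ _)
      (by rw [Category.assoc, pullback.condition])

theorem ωK_fst (n : ℕ) : ωK C cK n ≫ pullback.fst _ _ = pullback.fst _ _ ≫ C.Ω n := pullback.lift_fst _ _ _
theorem ωK_snd (n : ℕ) : ωK C cK n ≫ pullback.snd _ _ = pullback.snd _ _ := pullback.lift_snd _ _ _
theorem wK_fst (n : ℕ) : wK C cK n ≫ pullback.fst _ _ = pullback.fst _ _ ≫ C.pr n := pullback.lift_fst _ _ _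
theorem wK_snd (n : ℕ) : wK C cK n ≫ pullback.snd _ _ = pullback.snd _ _ := pullback.lift_snd _ _ _

theorem ωK_τ (n : ℕ) : ωK C cK n ≫ D.τ = wK C cK n ≫ D.θ n := D.τθ n

theorem isV_ωK (n : ℕ) : IsV (ωK C cK n) (En I (pullback C.g cK.ι) n) := by
  have hΩ := (C.isV n).mono
  have hm : Mono (ωK C cK n) := ⟨fun a b hab => by
    apply pullback.hom_ext
    · have := congrArg (fun t => t ≫ pullback.fst _ _) hab
      simp only [Category.assoc, ωK_fst] at this
      rw [← Category.assoc, ← Category.assoc, cancel_mono] at this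
      exact this
    · have := congrArg (fun t => t ≫ pullback.snd _ _) hab
      simp only [Category.assoc, ωK_snd] at this
      exact this⟩
  refine isV_En_of (bot_of_hom (pullback.fst _ _ ≫ C.pr n) (FSys.bot F n)) fun Z f hZ => ?_
  obtain ⟨l, hl⟩ := isV_lift (C.isV n) (f ≫ pullback.fst _ _) hZ
  refine ⟨pullback.lift l (f ≫ pullback.snd _ _) ?_, ?_⟩
  · rw [← C.w n, ← Category.assoc, hl, Category.assoc, Category.assoc, pullback.condition]
  · apply pullback.hom_ext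
    · rw [Category.assoc, ωK_fst, ← Category.assoc, pullback.lift_fst, hl]
    · rw [Category.assoc, ωK_snd, pullback.lift_snd]

end TD

end K594.FinRel
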