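import Groth.Agent.AlgSp.K594.FinRel
import Groth.Agent.AlgSp.K594.FinQAlg

/-!
# The relations `FinGen.Rel` on a chart
-/

set_option autoImplicit false
universe u
open CategoryTheory CategoryTheory.Limits AlgebraicGeometry Opposite TensorProduct
open AlgSp K598.Site K598.RepKit K598.ClFam K598.Charts
open K594.FamOps K594.AlgSch K594.AlgChart K594.AlgStep K594.VKit K594.ChRing K594.FinBC K594.FinR K594.FinChart
open K602 K602.Ch K594.FinRel

namespace K594.FinRel2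

variable {A : Type u} [CommRing A] {I : Ideal A} {X : Sp (Spec (CommRingCat.of A))} {F : FSys I X} {C : Cov F}
  {J : Fam X} {k : ℕ} (D : TD C (pow J k)) (a : Ch X) [IsAffine a.V.left]

/-- The relations between the rings on a chart. -/
theorem rel : K594.FinGen.Rel (aI I a) (tI a J) (rβ F a) (rc F a) (rβW C a) (rw' C a) (re C a) (ru C a) (rv C a)
    (fun n => (ρ (hCK F (pow J k) n) (hY F n) (pullback.fst _ _) pullback.condition a).hom)
    (fun n => (ρ (hCK F (pow J k) n) (hCK F (pow J k) (n + 1)) ((FSys.bc F (pow J k).ι).y n) (by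
      rw [← Category.assoc]
      exact congrArg (fun t => t ≫ (pow J k).ι) ((FSys.bc F (pow J k).ι).w n)) a).hom)
    (fun n => (ρ (hKK C (pow J k) n) (hP C n) (pullback.fst _ _) pullback.condition a).hom)
    (fun n => (ρ (hKK C (pow J k) n) (hCK F (pow J k) n) (wK C (pow J k) n) (by
      rw [← Category.assoc, wK_snd]) a).hom)
    (β (hW C) a).hom (β (hR D) a).hom (β (hT D) a).hom (β (hK C (pow J k)) a).hom
    (fun n => (ρ (hP C n) (hW C) (C.Ω n) (C.w n) a).hom)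
    (fun n => (ρ (hRR C n) (hR D) (D.κ n) (by
      rw [← Category.assoc (D.κ n), D.κr, ← Category.assoc, C.r_fst, Category.assoc, C.w]) a).hom)
    (fun n => (ρ (hCK F (pow J k) n) (hT D) (D.θ n) (D.θg n) a).hom)
    (fun n => (ρ (hKK C (pow J k) n) (hK C (pow J k)) (ωK C (pow J k) n) (by
      rw [← Category.assoc, ωK_snd]) a).hom)
    (ρ (hR D) (hW C) _ (eu D) a).hom (ρ (hR D) (hW C) _ (ev D) a).hom
    (ρ (hK C (pow J k)) (hW C) _ (eζ C _) a).hom (ρ (hK C (pow J k)) (hT D) D.τ D.τg a).hom k where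
  c_surj n := surjective_ρ _ _ _ (F.isV n) a
  wβ n := β_ρ_hom _ _ _ a
  ew n x := ρ_sq (hP C (n + 1)) (hY F n) (hY F (n + 1)) (hP C n) (C.tpr n) _ _ _ _ a x
  uvw n x := ρ_sq (hP C n) (hP C n) (hY F n) (hRR C n) pullback.condition _ _ _ _ a x
  γ_surj n := surjective_ρ _ _ _ ((isV_ι (pow J k)).pull (IsPullback.of_hasPullback (F.j n) (pow J k).ι).flip) a
  γ_ker n := by
    rw [← tI_pow]
    exact ker_ρ _ _ _ ((isV_ι (pow J k)).pull (IsPullback.of_hasPullback (F.j n) (pow J k).ι).flip) a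
  ckγ n x := ρ_sq (hCK F (pow J k) (n + 1)) (hY F n) (hY F (n + 1)) (hCK F (pow J k) n)
    (pullback.lift_fst _ _ _) _ _ _ _ a x
  ζn_ker n := by
    rw [← tI_pow]
    exact ker_ρ _ _ _ ((isV_ι (pow J k)).pull (IsPullback.of_hasPullback (C.pr n ≫ F.j n) (pow J k).ι).flip) a
  wkγ n x := ρ_sq (hCK F (pow J k) n) (hP C n) (hY F n) (hKK C (pow J k) n) (wK_fst n) _ _ _ _ a x
  ω_surj n := surjective_ρ _ _ _ (C.isV n) a
  ω_ker n := ker_En _ _ _ (C.isV n) a
  eω n x := ρ_tri (hP C (n + 1)) (hW C) (hP C n) (C.tΩ n) _ _ _ a x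
  κ_ker n := ker_En _ _ _ (D.κV n) a
  κU n x := ρ_sq (hR D) (hP C n) (hW C) (hRR C n) (by rw [← Category.assoc, D.κr, C.r_fst]) _ _ _ _ a x
  κV n x := ρ_sq (hR D) (hP C n) (hW C) (hRR C n) (by rw [← Category.assoc, D.κr, C.r_snd]) _ _ _ _ a x
  θ_surj n := surjective_ρ _ _ _ (D.θV n) a
  θ_ker n := ker_En _ _ _ (D.θV n) a
  ckθ n x := ρ_tri (hCK F (pow J k) (n + 1)) (hT D) (hCK F (pow J k) n) (D.yθ n) _ _ _ a x
  ωk_ker n := ker_En _ _ _ (isV_ωK n) a
  ωkζ n x := ρ_sq (hK C (pow J k)) (hP C n) (hW C) (hKK C (pow J k) n) (ωK_fst n) _ _ _ _ a x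
  ωkτ n x := ρ_sq (hK C (pow J k)) (hCK F (pow J k) n) (hT D) (hKK C (pow J k) n) (ωK_τ D n) _ _ _ _ a x

/-- Formal sections on a chart. -/
def Sec (m : ℕ) (b : B (hW C) a) (y : B (hT D) a) (t : ∀ n, RC F a n) : Prop :=
  K594.FinGen.IsSec (tI a J) (rβ F a) (rc F a) (rw' C a)
    (fun n => (ρ (hCK F (pow J k) n) (hY F n) (pullback.fst _ _) pullback.condition a).hom)
    (fun n => (ρ (hP C n) (hW C) (C.Ω n) (C.w n) a).hom)
    (fun n => (ρ (hCK F (pow J k) n) (hT D) (D.θ n) (D.θg n) a).hom) m b y t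

section res

variable {S : Scheme.{u}} {T G H : Sp S} {g : G ⟶ T} {h : H ⟶ T}
  (hg : RepWith @IsAffineHom g) (hh : RepWith @IsAffineHom h)

theorem ρ_res_apply (q : G ⟶ H) (hq : q ≫ h = g) {a b : Ch T} (φ : a ⟶ b) (x : B hh b) :
    ρ hg hh q hq a (res hh φ x) = res hg φ (ρ hg hh q hq b x) :=
  (congrArg (fun t : B hh b ⟶ B hg a => t.hom x) (ρ_res hg hh q hq φ)).symm

theorem ores_mem_tI {a b : Ch T} [IsAffine a.V.left] [IsAffine b.V.left] (φ : a ⟶ b) (d : Fam T) :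
    (tI b d).map (ores φ).hom = tI a d := by
  have h1 : d.I a.v = (d.I b.v).comap φ.g.left := by rw [← d.comap, φ.w]
  rw [tI, tI, h1, Groth.Agent.Divis.IdealComap.ideal_comap_top]
  rfl

theorem res_mem_map {a b : Ch T} [IsAffine a.V.left] [IsAffine b.V.left] (φ : a ⟶ b) (d : Fam T) (m : ℕ) {x : B hg b}
    (hx : x ∈ (tI b d ^ m).map (β hg b).hom) : res hg φ x ∈ (tI a d ^ m).map (β hg a).hom := by
  have h1 := Ideal.mem_map_of_mem (res hg φ).hom hx
  rw [Ideal.map_map] at h1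
  have h2 : (res hg φ).hom.comp (β hg b).hom = (β hg a).hom.comp (ores φ).hom :=
    congrArg CommRingCat.Hom.hom (β_res hg φ)
  rw [h2, ← Ideal.map_map, Ideal.map_pow, ores_mem_tI] at h1
  exact h1

end res

theorem sec_res {m : ℕ} {a b : Ch X} [IsAffine a.V.left] [IsAffine b.V.left] (φ : a ⟶ b) {x : B (hW C) b}
    {y : B (hT D) b} {t : ∀ n, RC F b n} (h : Sec D b m x y t) :
    Sec D a m (res (hW C) φ x) (res (hT D) φ y) (fun n => res (hY F n) φ (t n)) := by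
  refine ⟨fun n => ?_, fun n => ?_, fun n => ?_⟩
  · refine (ρ_res_apply (hY F n) (hY F (n + 1)) (F.y n) (F.w n) φ (t (n + 1))).trans ?_
    exact congrArg (fun z => res (hY F n) φ z) (h.1 n)
  · refine (ρ_res_apply (hP C n) (hY F n) (C.pr n) rfl φ (t n)).trans ?_
    refine (congrArg (fun z => res (hP C n) φ z) (h.2.1 n)).trans ?_
    exact (ρ_res_apply (hP C n) (hW C) (C.Ω n) (C.w n) φ x).symm
  · obtain ⟨z, hz1, hz2⟩ := h.2.2 n
    refine ⟨res (hY F n) φ z, ?_, ?_⟩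
    · refine (ρ_res_apply (hCK F (pow J k) n) (hY F n) (pullback.fst _ _) pullback.condition φ z).trans ?_
      refine (congrArg (fun z => res (hCK F (pow J k) n) φ z) hz1).trans ?_
      exact (ρ_res_apply (hCK F (pow J k) n) (hT D) (D.θ n) (D.θg n) φ y).symm
    · rw [← map_sub]
      exact res_mem_map (hY F n) φ J m hz2

end K594.FinRel2
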