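import Groth.Agent.AlgSp.K594.VKit

/-!
# The algebraization theorem for finite morphisms of schemes (S0041), in terms of ideals
-/

set_option autoImplicit false
universe u
open CategoryTheory CategoryTheory.Limits AlgebraicGeometry Opposite
open AlgSp K598.Site K598.RepKit K598.ClFam K598.Charts
open K594.FamOps K594.AlgSch

namespace K594.FinSch

theorem isPullback_closed {P P' Z Y : Scheme.{u}} {t : P ⟶ P'} {y : P ⟶ Z} {π : P' ⟶ Y} {c : Z ⟶ Y}
    [IsClosedImmersion c] [IsClosedImmersion t] (w : t ≫ π = y ≫ c) (h : t.ker = c.ker.comap π) :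
    IsPullback t y π c := by
  let e : P ⟶ pullback π c := pullback.lift t y w
  have h1 : IsIso e := IsClosedImmersion.isIso_of_ker_eq t (pullback.fst π c) e (pullback.lift_fst _ _ _) (by
    rw [h, Scheme.IdealSheafData.ker_fst_of_isClosedImmersion])
  exact IsPullback.of_iso_pullback ⟨w⟩ (asIso e) (pullback.lift_fst _ _ _) (pullback.lift_snd _ _ _)

variable {A : Type u} [CommRing A] (I : Ideal A)

/-- The statement of S0041. -/
def FinHyp (A : Type u) [CommRing A] (I : Ideal A) : Prop :=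
  ∀ {X : Scheme.{u}} (f : X ⟶ Spec (CommRingCat.of A))
    [IsSeparated f] [LocallyOfFiniteType f] [QuasiCompact f]
    (Y : ℕ → Scheme.{u}) (y : (n : ℕ) → (Y n ⟶ CohB1.thick f I n)) (t : (n : ℕ) → (Y n ⟶ Y (n + 1)))
    (_ : ∀ n, IsFinite (y n))
    (_ : ∀ n, IsPullback (t n) (y n) (y (n + 1)) (CohB1.thickTrans f I n))
    (_ : IsProper (y 0 ≫ CohB1.thickToBase f I 0)),
    ∃ (W : Scheme.{u}) (i : W ⟶ X) (w : (n : ℕ) → (Y n ⟶ W)), IsFinite i ∧
      IsProper (i ≫ f) ∧ (∀ n, w n = t n ≫ w (n + 1)) ∧ ∀ n, IsPullback (w n) (y n) i (CohB1.thickι f I n)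

theorem exists_fin (H : FinHyp A I) {V : Over (Spec (CommRingCat.of A))} [IsSeparated V.hom]
    [LocallyOfFiniteType V.hom] [QuasiCompact V.hom] (P : ℕ → Over (Spec (CommRingCat.of A)))
    (π : ∀ n, P n ⟶ V) (hπ : ∀ n, IsFinite (π n).left) (t : ∀ n, P n ⟶ P (n + 1)) (htπ : ∀ n, t n ≫ π (n + 1) = π n)
    (ht : ∀ n, IsClosedImmersion (t n).left) (hk : ∀ n, (t n).left.ker = (specKer I n).comap (P (n + 1)).hom)
    (hp : IsProper (P 0).hom) :
    ∃ (W : Over (Spec (CommRingCat.of A))) (i : W ⟶ V) (ω : ∀ n, P n ⟶ W), IsFinite i.left ∧ IsProper W.hom ∧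
      (∀ n, ω n ≫ i = π n) ∧ (∀ n, t n ≫ ω (n + 1) = ω n) ∧ (∀ n, IsClosedImmersion (ω n).left) ∧
      ∀ n, (ω n).left.ker = (specKer I n).comap W.hom := by
  have hbot : ∀ n, (specKer I n).comap (P n).hom = ⊥ := fun n => by
    have e := comap_ker_self (t n).left
    rw [hk, ← Scheme.IdealSheafData.comap_comp, Over.w] at e
    exact e
  have hle : ∀ n, (CohB1.thickι V.hom I n).ker ≤ (π n).left.ker := fun n => by
    rw [ker_thickι, le_ker_iff, ← Scheme.IdealSheafData.comap_comp, Over.w]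
    exact hbot n
  let y : ∀ n, (P n).left ⟶ CohB1.thick V.hom I n := fun n =>
    IsClosedImmersion.lift (CohB1.thickι V.hom I n) (π n).left (hle n)
  have hy : ∀ n, y n ≫ CohB1.thickι V.hom I n = (π n).left := fun n => IsClosedImmersion.lift_fac _ _ _
  obtain ⟨W, i, w, h1, h2, h3, h4⟩ := H V.hom (fun n => (P n).left) y (fun n => (t n).left) (fun n => by
      have : IsFinite (y n ≫ CohB1.thickι V.hom I n) := by rw [hy]; exact hπ n
      exact MorphismProperty.of_postcomp (W := @IsFinite) (W' := @IsSeparated) (y n) (CohB1.thickι V.hom I n) inferInstance this)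
    (fun n => by
      apply isPullback_of_comp_mono (m := CohB1.thickι V.hom I (n + 1))
      rw [thickTrans_thickι, hy]
      have := ht n
      apply isPullback_closed
      · rw [hy, ← Over.comp_left, htπ]
      · rw [ker_thickι, hk, ← Scheme.IdealSheafData.comap_comp, Over.w])
    (by
      have h5 : (y 0 ≫ CohB1.thickToBase V.hom I 0) ≫ CohB1.specQuot I 0 = (P 0).hom := by
        rw [Category.assoc, thickToBase_specQuot, ← Category.assoc, hy 0, Over.w]
      have h6 : IsProper ((y 0 ≫ CohB1.thickToBase V.hom I 0) ≫ CohB1.specQuot I 0) := by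
        rw [h5]
        exact hp
      exact IsProper.of_comp (y 0 ≫ CohB1.thickToBase V.hom I 0) (CohB1.specQuot I 0))
  have hwi : ∀ n, w n ≫ i = (π n).left := fun n => by rw [(h4 n).w, hy]
  refine ⟨Over.mk (i ≫ V.hom), Over.homMk i rfl, fun n => Over.homMk (w n) (by
    change w n ≫ i ≫ V.hom = _
    rw [← Category.assoc, hwi, Over.w]), h1, h2, fun n => ?_, fun n => ?_, fun n => ?_, fun n => ?_⟩
  · ext1
    exact hwi n
  · ext1
    exact (h3 n).symm
  · exact MorphismProperty.of_isPullback (P := @IsClosedImmersion) (h4 n).flip (inferInstanceAs (IsClosedImmersion (CohB1.thickι V.hom I n)))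
  · change (w n).ker = (specKer I n).comap (i ≫ V.hom)
    rw [ker_eq_comap_of_isPullback (h4 n).flip, ker_thickι, Scheme.IdealSheafData.comap_comp]

end K594.FinSch
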