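import Groth.Agent.AlgSp.K594.FinRel2
import Groth.Agent.AlgSp.K612.Chart
import Groth.Agent.AlgSp.K595.DescInst

/-!
# Algebraization of a formal finite space from the data over `V(J ^ k)`
-/

set_option autoImplicit false
universe u
open CategoryTheory CategoryTheory.Limits AlgebraicGeometry Opposite TensorProduct
open AlgSp K598.Site K598.RepKit K598.ClFam K598.Charts
open K594.FamOps K594.AlgSch K594.AlgChart K594.AlgStep K594.VKit K594.ChRing K594.FinBC K594.FinR K594.FinChart
open K602 K602.Ch K594.FinRel K594.FinRel2 K594.FinQAlg K597.ProperSub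

namespace K594.FinStep

section descent

variable {S : Scheme.{u}}

/-- Descent along an étale surjective map. -/
theorem repWith_of_sq (P : MorphismProperty Scheme.{u}) (hP : P ≤ @IsAffineHom) [P.IsStableUnderBaseChange]
    [IsZariskiLocalAtTarget P] [P.DescendsAlong K597.EffDesc.Fppf.{u}] {F G F' G' : Sp S} {f : F ⟶ G} {j : G' ⟶ G}
    (hj : RepWith @Etale j) (hs : RepWith @Surjective j) {p : F' ⟶ F} {q : F' ⟶ G'} (sq : IsPullback p q f j)
    (hq : RepWith P q) : RepWith P f :=
  K617.FinLoc.repWith_of_family P hP (ι := Unit) (j := fun _ => j) (fun _ => hj)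
    (fun x => ⟨(), K609.Points.surjective_map_of_repWith_surjective hs x⟩) (fun _ => sq) (fun _ => hq)

end descent

variable {A : Type u} [CommRing A] {I : Ideal A} {X : Sp (Spec (CommRingCat.of A))} {F : FSys I X} {C : Cov F}
  {J : Fam X} {k : ℕ} (D : TD C (pow J k))

/-- The algebra of the data. -/
noncomputable abbrev QQ : K594.RelSpec.QAlg X := Q (hW C) (hR D) (hT D) (hK C (pow J k)) (eu D) (ev D) (eζ C _) D.τg

section maps

variable {m : ℕ} (hmk : m ≤ k)

abbrev HAR' (F : FSys I X) (C : Cov F) (J : Fam X) (m : ℕ) (a : Ch X) [IsAffine a.V.left] : Prop :=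
  K594.FinGen.HAR (tI a J) (rβ F a) (rc F a) (rw' C a) m

abbrev HE' (F : FSys I X) (C : Cov F) (J : Fam X) (m k : ℕ) (a : Ch X) [IsAffine a.V.left] : Prop :=
  K594.FinGen.HE (tI a J) (rβ F a) (rc F a) (rβW C a) (rw' C a) (re C a) (ru C a) (rv C a) m k

variable (a : Ch X) [IsAffine a.V.left] (hA : HAR' F C J m a) (hE : HE' F C J m k a)

include hmk hA hE in
theorem exists_maps : ∃ α : ∀ n, (QQ D).A a →+* RC F a n, (∀ x : (QQ D).A a, Sec D a m x.1.1 x.1.2 (fun n => α n x)) := by
  exact K594.FinGen.exists_α (rel D a) hmk hA hE (EE (hW C) (hR D) (hT D) (hK C (pow J k)) (eu D) (ev D) (eζ C _) D.τg a)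
    (fun x => K594.EqFlat.mem_E x)

variable {a} {α : ∀ n, (QQ D).A a →+* RC F a n} (hα : ∀ x : (QQ D).A a, Sec D a m x.1.1 x.1.2 (fun n => α n x))

include hα hmk hA hE in
theorem maps_surjective [IsNoetherianRing (O a)] (j : ℕ) : Function.Surjective (α j) := by
  refine K594.FinGen.surjective_α (rel D a) hmk hA hE (finite_β (hR D) (finR D) a) (finite_β (hK C (pow J k)) (finK C _) a)
    ?_ ?_ ?_ ?_ (E := EE (hW C) (hR D) (hT D) (hK C (pow J k)) (eu D) (ev D) (eζ C _) D.τg a)
    (fun x => K594.EqFlat.mem_E x) hα j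
  · exact β_ρ_hom _ _ _ a
  · exact β_ρ_hom _ _ _ a
  · exact β_ρ_hom _ _ _ a
  · exact β_ρ_hom _ _ _ a

include hα hmk hA in
theorem maps_η (n : ℕ) : (α n).comp ((QQ D).η a).hom = rβ F a n := by
  ext o
  have h1 : Sec D a m ((β (hW C) a).hom o) ((β (hT D) a).hom o) (fun n => rβ F a n o) := by
    refine ⟨fun n => ?_, fun n => ?_, fun n => ⟨rβ F a n o, ?_, by simp⟩⟩
    · exact congrArg (fun f : O a →+* RC F a n => f o) (β_ρ_hom (hY F n) (hY F (n + 1)) (F.w n) a)
    · exact (congrArg (fun f : O a →+* RW C a n => f o) (β_ρ_hom (hP C n) (hY F n) rfl a)).trans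
        (congrArg (fun f : O a →+* RW C a n => f o) (β_ρ_hom (hP C n) (hW C) (C.w n) a)).symm
    · exact (congrArg (fun f : O a →+* B (hCK F (pow J k) n) a => f o) (β_ρ_hom (hCK F (pow J k) n) (hY F n) pullback.condition a)).trans
        (congrArg (fun f : O a →+* B (hCK F (pow J k) n) a => f o) (β_ρ_hom (hCK F (pow J k) n) (hT D) (D.θg n) a)).symm
  exact congrFun (K594.FinGen.isSec_unique (rel D a) hmk hA (hα (((QQ D).η a).hom o)) h1) n

include hα hmk hA in
theorem maps_c (n : ℕ) : (rc F a n).comp (α (n + 1)) = α n := by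
  ext x
  exact (hα x).1 n

variable {b : Ch X} [IsAffine b.V.left] {α' : ∀ n, (QQ D).A b →+* RC F b n} (hA' : HAR' F C J m b)
  (hα' : ∀ x : (QQ D).A b, Sec D b m x.1.1 x.1.2 (fun n => α' n x)) (φ : b ⟶ a)

include hα hα' hmk hA' in
theorem maps_nat (n : ℕ) : (α' n).comp ((QQ D).r φ).hom = (res (hY F n) φ).hom.comp (α n) := by
  ext x
  exact congrFun (K594.FinGen.isSec_unique (rel D b) hmk hA' (hα' (((QQ D).r φ).hom x)) (sec_res D φ (hα x))) n

end maps

end K594.FinStep
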