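import Groth.Agent.AlgSp.K594.FinStep
import Groth.Agent.AlgSp.K596.ImmDesc

/-!
# Algebraization of a formal finite space from the data over `V(J ^ k)`: the geometric part
-/

set_option autoImplicit false
universe u
open CategoryTheory CategoryTheory.Limits AlgebraicGeometry Opposite TensorProduct
open AlgSp K598.Site K598.RepKit K598.ClFam K598.Charts
open K594.FamOps K594.AlgSch K594.AlgChart K594.AlgStep K594.VKit K594.ChRing K594.FinBC K594.FinR K594.FinChart
open K602 K602.Ch K594.FinRel K594.FinRel2 K594.FinQAlg K597.ProperSub K594.FinStep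

namespace K594.FinStep2

theorem isClosedImmersion_toSpecΓ {V : Scheme.{u}} [IsAffine V] {R : CommRingCat.{u}} (α : R ⟶ Γ(V, ⊤))
    (h : Function.Surjective α) : IsClosedImmersion (V.toSpecΓ ≫ Spec.map α) := by
  have h1 : IsClosedImmersion (Spec.map α) := IsClosedImmersion.spec_of_surjective _ h
  have h2 : IsIso V.toSpecΓ := inferInstance
  infer_instance

variable {A : Type u} [CommRing A] {I : Ideal A} {X : Sp (Spec (CommRingCat.of A))} {F : FSys I X} {C : Cov F}
  {J : Fam X} {k : ℕ}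

theorem alg_of_TD (D : TD C (pow J k)) [IsNoetherianRing A] (H : SchHyp A I) (K : K594.AlgInd.CoverHyp A) (hX : IsAlgSpace X)
    (s : X ⟶ (yon (Spec (CommRingCat.of A))).obj (Over.mk (𝟙 _))) (hs1 : IsSeparatedMor s) (hs2 : IsFiniteTypeMor s)
    (hp : IsProperMor (F.j 0 ≫ s)) {p p2 : Ch X} [IsAffine p.V.left] [IsAffine p2.V.left]
    (hp1 : RepWith @Etale p.v) (hp2 : RepWith @Surjective p.v) (κs κt : p2 ⟶ p)
    (sq : IsPullback ((yon _).map κs.g) ((yon _).map κt.g) p.v p.v) {m : ℕ} (hmk : m ≤ k)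
    (hA : HAR' F C J m p) (hE : HE' F C J m k p) (hA2 : HAR' F C J m p2) (hE2 : HE' F C J m k p2) : FSys.Alg F s := by
  have hTm : IsAlgSpace ((yon (Spec (CommRingCat.of A))).obj (Over.mk (𝟙 _))) := IsAlgSpace.yon_obj _
  have hN : IsNoetherianRing (O p) := isNoetherianRing_O s hs2 p hp1
  obtain ⟨α, hα⟩ := exists_maps D hmk p hA hE
  obtain ⟨α', hα'⟩ := exists_maps D hmk p2 hA2 hE2
  obtain ⟨Y, f, mm, sqY, lift⟩ := K594.RelSpec.exists_relSpec (QQ D) p hp1 hp2 κs κt sq
  -- `Y ⟶ X` is finite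
  have hη : ((QQ D).η p).hom.Finite := finite_η _ _ _ _ _ _ _ _ p (finite_β (hW C) C.gfin p) (finite_β (hT D) D.gTfin p)
  have hfin : RepWith @IsFinite f := by
    have := K617.FinLoc.descendsAlong_finite.{u}
    refine repWith_of_sq @IsFinite (fun _ _ f (_ : IsFinite f) => (inferInstance : IsAffineHom f)) hp1 hp2 sqY ?_
    refine (repWith_yon_map_iff _ _).2 ?_
    change IsFinite (Spec.map ((QQ D).η p) ≫ p.V.left.isoSpec.inv)
    have : IsFinite (Spec.map ((QQ D).η p)) := (IsFinite.SpecMap_iff _).2 hη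
    infer_instance
  have hY' : IsAlgSpace Y := K594.RepAlg.isAlgSpace_of_representable hX f hfin.1
  have hm1 : RepWith @Etale mm := repWith_of_isPullback sqY.flip hp1
  have hm2 : RepWith @Surjective mm := repWith_of_isPullback sqY.flip hp2
  -- the maps from the formal space
  have key : ∀ n, ∃ (l : F.Y n ⟶ Y) (z : W (hY F n) p ⟶ K594.RelSpec.Z (QQ D) p), l ≫ f = F.j n ∧
      z ≫ K594.RelSpec.ν (QQ D) p = π (hY F n) p ∧
      z.left = (W (hY F n) p).left.toSpecΓ ≫ Spec.map (CommRingCat.ofHom (α n)) ∧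
      IsPullback (ι (hY F n) p) ((yon _).map z) l mm := fun n =>
    lift (hY F n) (CommRingCat.ofHom (α n)) (CommRingCat.ofHom (α' n)) (by
      ext1
      exact maps_η D hmk hA hα n) (by
      ext1
      exact maps_η D hmk hA2 hα' n) (by
      ext1
      exact maps_nat D hmk hα hA2 hα' κs n) (by
      ext1
      exact maps_nat D hmk hα hA2 hα' κt n)
  choose l z hl1 hz1 hz2 hlz using key
  have hcl : ∀ n, RepWith @IsClosedImmersion (l n) := fun n => by
    have := K596.ImmDesc.closed_descends.{u}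
    refine repWith_of_sq @IsClosedImmersion (fun _ _ f (_ : IsClosedImmersion f) => (inferInstance : IsAffineHom f))
      hm1 hm2 (hlz n) ?_
    refine (repWith_yon_map_iff _ _).2 ?_
    rw [hz2]
    have := isAffine_W (hY F n) p
    exact isClosedImmersion_toSpecΓ _ (maps_surjective D hmk hA hE hα n)
  have hcomp : ∀ n, F.y n ≫ l (n + 1) = l n := fun n => by
    have hι1 : RepWith @Etale (ι (hY F n) p) := repWith_of_isPullback (Ch.sq (hY F n) p).flip hp1
    have hι2 : RepWith @Surjective (ι (hY F n) p) := repWith_of_isPullback (Ch.sq (hY F n) p).flip hp2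
    have hepi : Epi (ι (hY F n) p) := K612.Chart.epi_of_etale _ hι1 hι2
    rw [← cancel_epi (ι (hY F n) p), (hlz n).w, ← Category.assoc,
      ← Wm_ι (hY F n) (hY F (n + 1)) (F.y n) (F.w n) p, Category.assoc, (hlz (n + 1)).w, ← Category.assoc,
      ← Functor.map_comp]
    congr 2
    ext1
    rw [Over.comp_left, hz2, hz2]
    have e1 : (Wm (hY F n) (hY F (n + 1)) (F.y n) (F.w n) p).left ≫ (W (hY F (n + 1)) p).left.toSpecΓ =
        (W (hY F n) p).left.toSpecΓ ≫ Spec.map ((Wm (hY F n) (hY F (n + 1)) (F.y n) (F.w n) p).left.appTop) :=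
      Scheme.toSpecΓ_naturality _
    have e3 : (Wm (hY F n) (hY F (n + 1)) (F.y n) (F.w n) p).left ≫ (W (hY F (n + 1)) p).left.toSpecΓ ≫
        Spec.map (CommRingCat.ofHom (α (n + 1))) = (W (hY F n) p).left.toSpecΓ ≫ Spec.map (CommRingCat.ofHom (α n)) := by
      rw [← Category.assoc, e1, Category.assoc, ← Spec.map_comp]
      congr 2
      ext1
      exact (maps_c D hmk hA hα n)
    exact e3
  have hsep := K594.FinR.isSeparatedMor_of_finite hX hfin
  have k1 : IsSeparatedMor (f ≫ s) := K594.AlgInd.isSeparatedMor_comp hsep hs1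
  have k2 : IsFiniteTypeMor (f ≫ s) := K594.AlgInd.isFiniteTypeMor_comp hY' hX hTm (isProperMor_of_finite hX hfin).2.1 hs2
  have ha : ∀ n, ofClosed _ (hcl n) = sup (ofClosed _ (hcl (n + 1))) (En I _ n) := fun n => by
    have h4 := ofClosed_of_isV (hcl (n + 1)) (F.isV n) (by rw [hcomp]; exact hcl n)
    rw [← h4]
    congr 1
    exact (hcomp n).symm
  have hpr : IsProperMor ((ofClosed _ (hcl 0)).ι ≫ f ≫ s) := by
    obtain ⟨e, he, -⟩ := exists_iso_of_eq (ofClosed _ (hcl 0)).repWith_ι (hcl 0) (by rw [ofClosed_ι])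
    have h6 : (ofClosed _ (hcl 0)).ι ≫ f ≫ s = e.hom ≫ F.j 0 ≫ s := by
      rw [← he, Category.assoc, ← Category.assoc (l 0), hl1]
    rw [h6]
    have hAA := (ofClosed _ (hcl 0)).isAlgSpace_sheaf hY'
    exact isProperMor_comp hAA (F.alg hX 0) hTm (isProperMor_of_closed (F.alg hX 0) (repWith_of_isIso e.hom)) hp
  obtain ⟨zz, hzz, hzp⟩ := K594.AlgInd.main I H K hY' _ k1 k2 (fun n => ofClosed _ (hcl n)) ha hpr
  choose κ h1 h2 using fun n => isV_of_sup (hzz n)
  have hmono := mono_of_repWith_isClosedImmersion zz.repWith_ι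
  refine ⟨zz.sheaf, zz.ι ≫ f, κ, MorphismProperty.comp_mem _ _ _ (finι zz) hfin, ?_, fun n => ?_, fun n => ?_, h2⟩
  · rw [Category.assoc]
    exact hzp
  · rw [← Category.assoc, h1, hl1]
  · rw [← cancel_mono zz.ι, Category.assoc, h1, h1, hcomp]

end K594.FinStep2
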