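import Groth.Agent.AlgSp.K594.FinInd

/-!
# S10672 from the scheme cases and the existence of finite covers
-/

set_option autoImplicit false
universe u
open CategoryTheory CategoryTheory.Limits AlgebraicGeometry Opposite
open AlgSp K598.Site K598.RepKit K598.ClFam K598.Charts
open K594.FamOps K594.AlgSch K594.AlgChart K594.AlgStep K594.VKit K594.FinBC K597.ProperSub K594.ThickCl K594.AlgWrap

namespace K594.FinWrap

variable (A : Type u) [CommRing A] [IsNoetherianRing A] (I : Ideal A) [IsAdicComplete I A]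

theorem isV_p {X Xn : Sp (Spec (CommRingCat.of A))} {s : X ⟶ (yon (Spec (CommRingCat.of A))).obj (Over.mk (𝟙 _))}
    {n : ℕ} {p : Xn ⟶ X} {sn : Xn ⟶ (yon _).obj (Sn I n)}
    (h : IsPullback p sn s ((yon _).map (snι I n))) : IsV p (En I X n) := ⟨closed_p I h, ofClosed_p I h⟩

theorem algebraize (H : SchHyp A I) (H' : K594.FinSch.FinHyp A I) (K : K594.AlgInd.CoverHyp A)
    {X : AlgSp.Space (Spec (CommRingCat.of A))} (s : X.obj ⟶ (AlgSp.yon (Spec (CommRingCat.of A))).obj (Over.mk (𝟙 _)))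
    (hs1 : AlgSp.IsSeparatedMor s) (hs2 : AlgSp.IsFiniteTypeMor s)
    (Xn : ℕ → AlgSp.Space (Spec (CommRingCat.of A))) (p : ∀ n, Xn n ⟶ X)
    (sn : ∀ n, (Xn n).obj ⟶ (AlgSp.yon (Spec (CommRingCat.of A))).obj (Over.mk (Spec.map (CommRingCat.ofHom (Ideal.Quotient.mk (I ^ (n + 1)))))))
    (hXn : ∀ n, IsPullback (p n).hom (sn n) s
      ((AlgSp.yon (Spec (CommRingCat.of A))).map (Over.homMk (Spec.map (CommRingCat.ofHom (Ideal.Quotient.mk (I ^ (n + 1))))) (Category.comp_id _) :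
        (Over.mk (Spec.map (CommRingCat.ofHom (Ideal.Quotient.mk (I ^ (n + 1)))))) ⟶ Over.mk (𝟙 _))))
    (t : ∀ n, Xn n ⟶ Xn (n + 1)) (ht : ∀ n, t n ≫ p (n + 1) = p n)
    (Yn : ℕ → AlgSp.Space (Spec (CommRingCat.of A))) (j : ∀ n, Yn n ⟶ Xn n) (y : ∀ n, Yn n ⟶ Yn (n + 1))
    (hY : ∀ n, IsPullback (y n).hom (j n).hom (j (n + 1)).hom (t n).hom)
    (h1 : AlgSp.IsFiniteMor (j 0).hom) (h2 : AlgSp.IsProperMor ((j 0).hom ≫ sn 0)) :
    ∃ (Y : AlgSp.Space (Spec (CommRingCat.of A))) (jY : Y ⟶ X) (q : ∀ n, Yn n ⟶ Y),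
      AlgSp.IsFiniteMor jY.hom ∧ AlgSp.IsProperMor (jY.hom ≫ s) ∧
        (∀ n, IsPullback (q n).hom (j n).hom jY.hom (p n).hom) ∧ ∀ n, y n ≫ q (n + 1) = q n := by
  have hT : IsAlgSpace ((yon (Spec (CommRingCat.of A))).obj (Over.mk (𝟙 _))) := IsAlgSpace.yon_obj _
  have hp : ∀ n, IsV (p n).hom (En I X.obj n) := fun n => isV_p A I (hXn n)
  have htp : ∀ n, (t n).hom ≫ (p (n + 1)).hom = (p n).hom := fun n => congrArg (·.hom) (ht n)
  have ht' : ∀ n, ∃ ht : RepWith @IsClosedImmersion (t n).hom, NilCl (t n).hom ht := fun n =>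
    closed_t I (hXn n) (hXn (n + 1)) (congrArg (·.hom) (ht n))
  have hj : ∀ n, RepWith @IsFinite (j n).hom := by
    intro n
    induction n with
    | zero => exact K617.FinLoc.isFiniteMor_iff.1 h1
    | succ n ih =>
      obtain ⟨k1, k2⟩ := ht' n
      exact repWith_finite_of_thick (Yn (n + 1)).property (Xn (n + 1)).property k1 k2 (hY n) ih
  have htV : ∀ n, IsV (t n).hom (En I (Xn (n + 1)).obj n) := fun n => by
    have := (hp (n + 1)).mono
    have h3 : IsV ((t n).hom ≫ (p (n + 1)).hom) (En I X.obj n) := by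
      rw [htp]
      exact hp n
    exact h3.of_comp
  let F : FSys I X.obj :=
    { Y := fun n => (Yn n).obj
      j := fun n => (j n).hom ≫ (p n).hom
      fin := fun n => MorphismProperty.comp_mem _ _ _ (hj n)
        (repWith_mono (fun _ _ f (_ : IsClosedImmersion f) => (inferInstance : IsFinite f)) (hp n).rep)
      y := fun n => (y n).hom
      w := fun n => by rw [← Category.assoc, (hY n).w, Category.assoc, htp]
      isV := fun n => (htV n).pull (hY n).flip }
  have hpr : IsProperMor (F.j 0 ≫ s) := by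
    have h3 : F.j 0 ≫ s = ((j 0).hom ≫ sn 0) ≫ (yon _).map (snι I 0) := by
      change ((j 0).hom ≫ (p 0).hom) ≫ s = _
      rw [Category.assoc, (hXn 0).w, Category.assoc]
    rw [h3]
    have hS : IsAlgSpace ((yon (Spec (CommRingCat.of A))).obj (Sn I 0)) := IsAlgSpace.yon_obj _
    exact isProperMor_comp (Yn 0).property hS hT h2 (isProperMor_of_closed hT (closed_snι I 0))
  obtain ⟨Z, f, q, hf, hfp, h4, h5, h6⟩ := K594.FinInd.main I H H' K X.property s hs1 hs2 F hpr
  refine ⟨⟨Z, K594.RepAlg.isAlgSpace_of_representable X.property f hf.1⟩, ⟨f⟩, fun n => ⟨q n⟩,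
    K617.FinLoc.isFiniteMor_iff.2 hf, hfp, fun n => ?_, fun n => ObjectProperty.hom_ext _ (h5 n)⟩
  obtain ⟨a, sq⟩ := (hp n).sq (f := f) (k' := q n) (h6 n)
  have := (hp n).mono
  have ha : a = (j n).hom := by
    rw [← cancel_mono (p n).hom, sq.w]
    exact h4 n
  rw [ha] at sq
  exact sq.flip

end K594.FinWrap
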