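import Groth.Agent.AlgSp.K594.FamRep
import Mathlib.AlgebraicGeometry.Morphisms.Flat

/-!
# Free actions of groups on schemes give etale equivalence relations
-/

set_option autoImplicit false
set_option backward.isDefEq.respectTransparency.types false
universe u
open CategoryTheory CategoryTheory.Limits AlgebraicGeometry Opposite AlgSp

namespace K594.FreeAct

open K594.Elem K594.Cover K594.Basic K594.FamRep K594.Quot

theorem epi_Spec_map_residueField {X Y : Scheme.{u}} (f : X ⟶ Y) (x : X) :
    Epi (Spec.map (f.residueFieldMap x)) := by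
  have h1 : Flat (Spec.map (f.residueFieldMap x)) := inferInstance
  have h2 : Surjective (Spec.map (f.residueFieldMap x)) := by
    refine ⟨fun y => ?_⟩
    have : Nonempty (Spec (X.residueField x)) := inferInstance
    obtain ⟨z⟩ := this
    exact ⟨z, Subsingleton.elim _ _⟩
  exact Flat.epi_of_flat_of_surjective _

variable {S : Scheme.{u}} {U : Over S} {G : Type u} [Group G] {ρ : G →* Aut U}

theorem isEmpty_of_eq
    (hfree : ∀ (g : G) (x : U.left), g ≠ 1 →
      U.left.fromSpecResidueField x ≫ (ρ g).hom.left ≠ U.left.fromSpecResidueField x)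
    {T : Over S} (x : T ⟶ U) {g h : G} (hgh : g ≠ h) (e : x ≫ (ρ g).hom = x ≫ (ρ h).hom) :
    IsEmpty T.left := by
  refine ⟨fun τ => ?_⟩
  have h1 : h⁻¹ * g ≠ 1 := fun h' => hgh (by
    rw [inv_mul_eq_one] at h'; exact h'.symm)
  have h2 : x ≫ (ρ (h⁻¹ * g)).hom = x := by
    rw [map_mul]
    change x ≫ (ρ g).hom ≫ (ρ h⁻¹).hom = x
    rw [← Category.assoc, e, Category.assoc]
    have h3 : (ρ h).hom ≫ (ρ h⁻¹).hom = (ρ (h⁻¹ * h)).hom := by rw [map_mul]; rfl
    rw [h3, inv_mul_cancel, map_one]
    exact Category.comp_id _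
  have h3 : x.left ≫ (ρ (h⁻¹ * g)).hom.left = x.left := by
    rw [← Over.comp_left, h2]
  apply hfree _ (x.left τ) h1
  have := epi_Spec_map_residueField x.left τ
  rw [← cancel_epi (Spec.map (x.left.residueFieldMap τ))]
  rw [Scheme.Hom.SpecMap_residueFieldMap_fromSpecResidueField_assoc,
    Scheme.Hom.SpecMap_residueFieldMap_fromSpecResidueField, h3]

/-- common pieces for two maps to disjoint unions -/
theorem exists_common_pieces {ι ι' : Type u} {V : ι → Over S} {V' : ι' → Over S} {T : Over S}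
    (r : T ⟶ sig V) (r' : T ⟶ sig V') : ∃ (κ : Type u) (W : κ → Over S) (w : ∀ k, W k ⟶ T),
      Fam w ∧ ∀ k, (∃ (i : ι) (x : W k ⟶ V i), w k ≫ r = x ≫ sigι V i) ∧
        ∃ (j : ι') (x : W k ⟶ V' j), w k ≫ r' = x ≫ sigι V' j := by
  obtain ⟨T', p, c, sq, hp⟩ := exists_pieces V r
  obtain ⟨T'', p', c', sq', hp'⟩ := exists_pieces V' r'
  choose W k l sqW hW using fun i => Fam.exists_baseChange hp' (p i)
  refine ⟨ι × ι', fun z => W z.1 z.2, fun z => k z.1 z.2 ≫ p z.1, ⟨?_, ?_, ?_⟩, fun z => ⟨?_, ?_⟩⟩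
  · intro z
    have h1 := (hW z.1).flat z.2
    have h2 := hp.flat z.1
    rw [Over.comp_left]; infer_instance
  · intro z
    have h1 := (hW z.1).lfp z.2
    have h2 := hp.lfp z.1
    rw [Over.comp_left]; infer_instance
  · intro t
    obtain ⟨i, v, rfl⟩ := hp.surj t
    obtain ⟨j, w, rfl⟩ := (hW i).surj v
    exact ⟨(i, j), w, by rw [Over.comp_left, Scheme.Hom.comp_apply]⟩
  · refine ⟨z.1, k z.1 z.2 ≫ c z.1, ?_⟩
    rw [Category.assoc, Category.assoc, (sq z.1).w]
  · refine ⟨z.2, l z.1 z.2 ≫ c' z.2, ?_⟩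
    rw [Category.assoc, Category.assoc, (sq' z.2).w, ← Category.assoc, ← Category.assoc,
      (sqW z.1 z.2).w]

variable (ρ) in
/-- the source of the relation -/
noncomputable abbrev R₀ : Over S := sig (fun _ : G => U)

variable (ρ) in
noncomputable abbrev s₀ : sig (fun _ : G => U) ⟶ U := sigDesc (fun _ => 𝟙 U)

variable (ρ) in
noncomputable abbrev t₀ : sig (fun _ : G => U) ⟶ U := sigDesc (fun g => (ρ g).hom)

theorem hom_ext_of_isEmpty {T X : Over S} [IsEmpty T.left] (a b : T ⟶ X) : a = b := by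
  have := (subsingleton_of_isEmpty ((yon S).obj X) T).elim ⟨a⟩ ⟨b⟩
  exact congrArg ULift.down this

theorem injective_sig
    (hfree : ∀ (g : G) (x : U.left), g ≠ 1 →
      U.left.fromSpecResidueField x ≫ (ρ g).hom.left ≠ U.left.fromSpecResidueField x)
    {T : Over S} (r r' : T ⟶ sig (fun _ : G => U)) (h1 : r ≫ t₀ ρ = r' ≫ t₀ ρ)
    (h2 : r ≫ s₀ (G := G) = r' ≫ s₀ (G := G)) : r = r' := by
  obtain ⟨κ, W, w, hw, h⟩ := exists_common_pieces r r'
  apply hom_ext_fam hw
  intro k
  obtain ⟨⟨g, x, hx⟩, ⟨g', x', hx'⟩⟩ := h k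
  have e1 : x = x' := by
    have : w k ≫ r ≫ s₀ (G := G) = w k ≫ r' ≫ s₀ (G := G) := by rw [h2]
    rw [← Category.assoc, hx, ← Category.assoc, hx', Category.assoc, Category.assoc, sigι_desc,
      sigι_desc] at this
    simpa using this
  subst e1
  have e2 : x ≫ (ρ g).hom = x ≫ (ρ g').hom := by
    have : w k ≫ r ≫ t₀ ρ = w k ≫ r' ≫ t₀ ρ := by rw [h1]
    rwa [← Category.assoc, hx, ← Category.assoc, hx', Category.assoc, Category.assoc, sigι_desc,
      sigι_desc] at this
  rw [hx, hx']
  by_cases hg : g = g'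
  · rw [hg]
  · have := isEmpty_of_eq hfree x hg e2
    exact hom_ext_of_isEmpty _ _

theorem isEtaleEqvRel_sig
    (hfree : ∀ (g : G) (x : U.left), g ≠ 1 →
      U.left.fromSpecResidueField x ≫ (ρ g).hom.left ≠ U.left.fromSpecResidueField x) :
    IsEtaleEqvRel (s₀ (G := G) (U := U)) (t₀ ρ) where
  injective T r r' h1 h2 := injective_sig hfree r r' h1 h2
  equivalence T := by
    refine ⟨fun a => ⟨a ≫ sigι (fun _ : G => U) (1 : G), ?_, ?_⟩, ?_, ?_⟩
    · rw [Category.assoc, sigι_desc, map_one]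
      exact Category.comp_id _
    · rw [Category.assoc, sigι_desc]
      exact Category.comp_id _
    · rintro a b ⟨r, rfl, rfl⟩
      let ι : sig (fun _ : G => U) ⟶ sig (fun _ : G => U) :=
        sigDesc (fun g => (ρ g).hom ≫ sigι (fun _ : G => U) g⁻¹)
      refine ⟨r ≫ ι, ?_, ?_⟩
      · rw [Category.assoc]
        congr 1
        apply sig_hom_ext
        intro g
        rw [← Category.assoc, sigι_desc, Category.assoc, sigι_desc, sigι_desc]
        have h3 : (ρ g).hom ≫ (ρ g⁻¹).hom = (ρ (g⁻¹ * g)).hom := by rw [map_mul]; rfl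
        rw [h3, inv_mul_cancel, map_one]
        rfl
      · rw [Category.assoc]
        congr 1
        apply sig_hom_ext
        intro g
        rw [← Category.assoc, sigι_desc, Category.assoc, sigι_desc, sigι_desc, Category.comp_id]
    · rintro a b c ⟨r, h1, h2⟩ ⟨r', h3, h4⟩
      obtain ⟨T', p, x, sq, hp⟩ := exists_pieces _ r
      let μ : G → (sig (fun _ : G => U) ⟶ sig (fun _ : G => U)) := fun g =>
        sigDesc (fun h => sigι (fun _ : G => U) (g * h))
      have hμs : ∀ g, μ g ≫ s₀ (G := G) = s₀ (G := G) := by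
        intro g
        apply sig_hom_ext
        intro h
        rw [← Category.assoc, sigι_desc, sigι_desc, sigι_desc]
      have hμt : ∀ g, μ g ≫ t₀ ρ = t₀ ρ ≫ (ρ g).hom := by
        intro g
        apply sig_hom_ext
        intro h
        rw [← Category.assoc, sigι_desc, sigι_desc, ← Category.assoc, sigι_desc, map_mul]
        rfl
      have key : ∀ g, (p g ≫ r' ≫ μ g) ≫ t₀ ρ = p g ≫ a ∧
          (p g ≫ r' ≫ μ g) ≫ s₀ (G := G) = p g ≫ c := by
        intro g
        constructor
        · rw [Category.assoc, Category.assoc, hμt, ← Category.assoc r', h3, ← h1, ← h2]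
          have e1 : p g ≫ r = x g ≫ sigι (fun _ : G => U) g := (sq g).w.symm
          have e2 : p g ≫ r ≫ s₀ (G := G) = x g := by
            rw [← Category.assoc, e1, Category.assoc, sigι_desc, Category.comp_id]
          have e3 : p g ≫ r ≫ t₀ ρ = x g ≫ (ρ g).hom := by
            rw [← Category.assoc, e1, Category.assoc, sigι_desc]
          rw [e3, Category.assoc, ← Category.assoc r, ← Category.assoc (p g), e2]
        · rw [Category.assoc, Category.assoc, hμs, h4]
      obtain ⟨q, hq⟩ := exists_glue_hom hp (fun g => p g ≫ r' ≫ μ g) (by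
        intro i j Z u v huv
        apply injective_sig hfree
        · rw [Category.assoc u, Category.assoc v, (key i).1, (key j).1, reassoc_of% huv]
        · rw [Category.assoc u, Category.assoc v, (key i).2, (key j).2, reassoc_of% huv])
      refine ⟨q, ?_, ?_⟩
      · apply hom_ext_fam hp
        intro g
        rw [← Category.assoc, hq, (key g).1]
      · apply hom_ext_fam hp
        intro g
        rw [← Category.assoc, hq, (key g).2]
  etale_left := IsZariskiLocalAtSource.sigmaDesc (P := @Etale)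
    (fun _ => inferInstanceAs (Etale (𝟙 U.left)))
  etale_right := IsZariskiLocalAtSource.sigmaDesc (P := @Etale) (fun g => by
    have : IsIso (ρ g).hom.left := inferInstance
    infer_instance)

/-- transport along an isomorphism of `R` -/
theorem isEtaleEqvRel_of_iso {R R' : Over S} (e : R ≅ R') {s t : R' ⟶ U}
    (h : IsEtaleEqvRel s t) : IsEtaleEqvRel (e.hom ≫ s) (e.hom ≫ t) where
  injective T r r' h1 h2 := by
    rw [← cancel_mono e.hom]
    apply h.injective
    · simpa only [Category.assoc] using h1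
    · simpa only [Category.assoc] using h2
  equivalence T := by
    have key : ∀ a b : T ⟶ U, (∃ r : T ⟶ R, r ≫ e.hom ≫ t = a ∧ r ≫ e.hom ≫ s = b) ↔
        ∃ r : T ⟶ R', r ≫ t = a ∧ r ≫ s = b := by
      intro a b
      constructor
      · rintro ⟨r, h1, h2⟩
        exact ⟨r ≫ e.hom, by rw [Category.assoc, h1], by rw [Category.assoc, h2]⟩
      · rintro ⟨r, h1, h2⟩
        exact ⟨r ≫ e.inv, by simpa using h1, by simpa using h2⟩
    simp only [key]
    exact h.equivalence T
  etale_left := by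
    have := h.etale_left
    rw [Over.comp_left]
    infer_instance
  etale_right := by
    have := h.etale_right
    rw [Over.comp_left]
    infer_instance

/-- the disjoint union is a coproduct in `Over S` -/
noncomputable def isColimitSig {ι : Type u} (V : ι → Over S) :
    IsColimit (Cofan.mk (sig V) (sigι V)) :=
  Cofan.IsColimit.mk _ (fun s => sigDesc (fun i => s.inj i)) (fun s i => sigι_desc _ i)
    (fun s m hm => by
      apply sig_hom_ext
      intro i
      exact (hm i).trans (sigι_desc _ i).symm)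

theorem exists_iso_sig {ι : Type u} (V : ι → Over S) (c : Cofan V) (hc : IsColimit c) :
    ∃ e : c.pt ≅ sig V, ∀ i, c.inj i ≫ e.hom = sigι V i :=
  ⟨hc.coconePointUniqueUpToIso (isColimitSig V),
    fun i => hc.comp_coconePointUniqueUpToIso_hom (isColimitSig V) ⟨i⟩⟩

theorem exists_iso_relation (c : Cofan (fun _ : G => U)) (hc : IsColimit c) (s t : c.pt ⟶ U)
    (hs : ∀ g, c.inj g ≫ s = 𝟙 U) (ht : ∀ g, c.inj g ≫ t = (ρ g).hom) :
    ∃ e : c.pt ≅ sig (fun _ : G => U), s = e.hom ≫ s₀ (G := G) ∧ t = e.hom ≫ t₀ ρ := by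
  obtain ⟨e, he⟩ := exists_iso_sig _ c hc
  refine ⟨e, ?_, ?_⟩
  · apply Cofan.IsColimit.hom_ext hc
    intro g
    rw [hs, ← Category.assoc, he, sigι_desc]
  · apply Cofan.IsColimit.hom_ext hc
    intro g
    rw [ht, ← Category.assoc, he, sigι_desc]

theorem isEtaleEqvRel
    (hfree : ∀ (g : G) (x : U.left), g ≠ 1 →
      U.left.fromSpecResidueField x ≫ (ρ g).hom.left ≠ U.left.fromSpecResidueField x)
    (c : Cofan (fun _ : G => U)) (hc : IsColimit c) (s t : c.pt ⟶ U)
    (hs : ∀ g, c.inj g ≫ s = 𝟙 U) (ht : ∀ g, c.inj g ≫ t = (ρ g).hom) :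
    IsEtaleEqvRel s t := by
  obtain ⟨e, rfl, rfl⟩ := exists_iso_relation c hc s t hs ht
  exact isEtaleEqvRel_of_iso e (isEtaleEqvRel_sig hfree)

end K594.FreeAct
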