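import Groth.Agent.AlgSp.K594.FreeAct
import Groth.Agent.AlgSp.K594.DiagProp

/-!
# Quotients by free actions of finite groups: separation
-/

set_option autoImplicit false
set_option backward.isDefEq.respectTransparency.types false
universe u
open CategoryTheory CategoryTheory.Limits AlgebraicGeometry Opposite AlgSp

namespace K594.FreeQuot

open K594.Elem K594.Cover K594.Basic K594.FamRep K594.Quot K594.FreeAct

theorem quasiCompact_sigmaDesc {ι : Type u} [Finite ι] {X : ι → Scheme.{u}} {Y : Scheme.{u}}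
    (f : ∀ i, X i ⟶ Y) (h : ∀ i, QuasiCompact (f i)) : QuasiCompact (Sigma.desc f) := by
  refine ⟨fun K hK hK' => ?_⟩
  have : (Sigma.desc f) ⁻¹' K = ⋃ i, (Sigma.ι X i) '' ((f i) ⁻¹' K) := by
    ext x
    simp only [Set.mem_preimage, Set.mem_iUnion, Set.mem_image]
    constructor
    · intro hx
      obtain ⟨i, y, rfl⟩ := (sigmaOpenCover X).exists_eq x
      refine ⟨i, y, ?_, rfl⟩
      have h1 : (Sigma.desc f) (Sigma.ι X i y) = f i y := by
        rw [← Scheme.Hom.comp_apply, Sigma.ι_desc]
      change (Sigma.desc f) (Sigma.ι X i y) ∈ K at hx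
      rwa [h1] at hx
    · rintro ⟨i, y, hy, rfl⟩
      rwa [← Scheme.Hom.comp_apply, Sigma.ι_desc]
  rw [this]
  exact isCompact_iUnion fun i => ((h i).isCompact_preimage K hK hK').image (Sigma.ι X i).continuous

theorem isClosedImmersion_sigmaDesc {ι : Type u} [Finite ι] {X : ι → Scheme.{u}} {Y : Scheme.{u}}
    (f : ∀ i, X i ⟶ Y) (h : ∀ i, IsClosedImmersion (f i)) [Mono (Sigma.desc f)] :
    IsClosedImmersion (Sigma.desc f) := by
  have h1 : SurjectiveOnStalks (Sigma.desc f) :=
    IsZariskiLocalAtSource.sigmaDesc (P := @SurjectiveOnStalks) (fun i => by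
      have := h i; infer_instance)
  have h2 : Function.Injective (Sigma.desc f) := by
    have : UniversallyInjective (Sigma.desc f) := inferInstance
    exact (Sigma.desc f).injective
  have h3 : IsClosedMap (Sigma.desc f) := by
    intro Z hZ
    have : (Sigma.desc f) '' Z = ⋃ i, (f i) '' ((Sigma.ι X i) ⁻¹' Z) := by
      ext y
      simp only [Set.mem_iUnion, Set.mem_image, Set.mem_preimage]
      constructor
      · rintro ⟨x, hx, rfl⟩
        obtain ⟨i, z, rfl⟩ := (sigmaOpenCover X).exists_eq x
        refine ⟨i, z, hx, ?_⟩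
        change f i z = (Sigma.desc f) (Sigma.ι X i z)
        rw [← Scheme.Hom.comp_apply, Sigma.ι_desc]
      · rintro ⟨i, z, hz, rfl⟩
        exact ⟨Sigma.ι X i z, hz, by rw [← Scheme.Hom.comp_apply, Sigma.ι_desc]⟩
    rw [this]
    exact isClosed_iUnion_of_finite fun i =>
      (f i).isClosedEmbedding.isClosedMap _ (hZ.preimage (Sigma.ι X i).continuous)
  exact { toSurjectiveOnStalks := h1
          isClosedEmbedding := .of_continuous_injective_isClosedMap
            (Sigma.desc f).continuous h2 h3 }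

variable {S : Scheme.{u}} {U : Over S} {G : Type u} [Group G] {ρ : G →* Aut U}

theorem prop_snd (P : MorphismProperty Scheme.{u}) [P.IsStableUnderBaseChange] (h : P U.hom) :
    P (prod.snd : U ⨯ U ⟶ U).left := by
  have : P.RespectsIso := MorphismProperty.IsStableUnderBaseChange.respectsIso
  rw [← Over.prodLeftIsoPullback_hom_snd, P.cancel_left_of_respectsIso]
  exact P.pullback_snd _ _ h

theorem lift_left_eq : (prod.lift (t₀ ρ) (s₀ (G := G) (U := U))).left =
    Sigma.desc (fun g : G => (prod.lift (ρ g).hom (𝟙 U)).left) := by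
  apply Sigma.hom_ext
  intro g
  rw [Sigma.ι_desc]
  have h1 : sigι (fun _ : G => U) g ≫ prod.lift (t₀ ρ) (s₀ (G := G) (U := U)) =
      prod.lift (ρ g).hom (𝟙 U) := by
    apply Limits.prod.hom_ext
    · rw [Category.assoc, prod.lift_fst, prod.lift_fst, sigι_desc]
    · rw [Category.assoc, prod.lift_snd, prod.lift_snd, sigι_desc]
  exact congrArg (fun k => k.left) h1

theorem quasiCompact_lift [Finite G] (h : QuasiSeparated U.hom) :
    QuasiCompact (prod.lift (t₀ ρ) (s₀ (G := G) (U := U))).left := by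
  rw [lift_left_eq]
  apply quasiCompact_sigmaDesc
  intro g
  have h1 : QuasiSeparated (prod.snd : U ⨯ U ⟶ U).left := prop_snd @QuasiSeparated h
  have h2 : QuasiCompact ((prod.lift (ρ g).hom (𝟙 U)).left ≫ (prod.snd : U ⨯ U ⟶ U).left) := by
    rw [← Over.comp_left, prod.lift_snd]
    exact inferInstanceAs (QuasiCompact (𝟙 U.left))
  exact QuasiCompact.of_comp _ (prod.snd : U ⨯ U ⟶ U).left

theorem isClosedImmersion_lift [Finite G] (h : IsSeparated U.hom)
    (hm : Mono (prod.lift (t₀ ρ) (s₀ (G := G) (U := U))).left) :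
    IsClosedImmersion (prod.lift (t₀ ρ) (s₀ (G := G) (U := U))).left := by
  rw [lift_left_eq] at hm ⊢
  apply isClosedImmersion_sigmaDesc
  intro g
  have h1 : IsSeparated (prod.snd : U ⨯ U ⟶ U).left := prop_snd @IsSeparated h
  have h2 : IsClosedImmersion ((prod.lift (ρ g).hom (𝟙 U)).left ≫
      (prod.snd : U ⨯ U ⟶ U).left) := by
    rw [← Over.comp_left, prod.lift_snd]
    exact inferInstanceAs (IsClosedImmersion (𝟙 U.left))
  exact IsClosedImmersion.of_comp _ (prod.snd : U ⨯ U ⟶ U).left

theorem mono_lift_left {R : Over S} {s t : R ⟶ U} (h : IsEqvRel s t) :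
    Mono (prod.lift t s).left := by
  have : Mono (prod.lift t s) := by
    constructor
    intro Z a b hab
    apply h.injective
    · have := congrArg (fun k => k ≫ (prod.fst : U ⨯ U ⟶ U)) hab
      rwa [Category.assoc, Category.assoc, prod.lift_fst] at this
    · have := congrArg (fun k => k ≫ (prod.snd : U ⨯ U ⟶ U)) hab
      rwa [Category.assoc, Category.assoc, prod.lift_snd] at this
  infer_instance

theorem result [Finite G]
    (hfree : ∀ (g : G) (x : U.left), g ≠ 1 →
      U.left.fromSpecResidueField x ≫ (ρ g).hom.left ≠ U.left.fromSpecResidueField x)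
    (c : Cofan (fun _ : G => U)) (hc : IsColimit c) (s t : c.pt ⟶ U)
    (hs : ∀ g, c.inj g ≫ s = 𝟙 U) (ht : ∀ g, c.inj g ≫ t = (ρ g).hom) :
    (QuasiSeparated U.hom → AlgSp.IsQuasiSeparatedSp (QuotSh.quot Scheme.fppfPrecoverage s t)) ∧
      (IsSeparated U.hom → AlgSp.IsSeparatedSp (QuotSh.quot Scheme.fppfPrecoverage s t)) := by
  have hR := isEtaleEqvRel hfree c hc s t hs ht
  obtain ⟨e, rfl, rfl⟩ := exists_iso_relation c hc s t hs ht
  have e1 : prod.lift (e.hom ≫ t₀ ρ) (e.hom ≫ s₀ (G := G) (U := U)) =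
      e.hom ≫ prod.lift (t₀ ρ) (s₀ (G := G) (U := U)) := by
    apply Limits.prod.hom_ext
    · rw [Category.assoc, prod.lift_fst, prod.lift_fst]
    · rw [Category.assoc, prod.lift_snd, prod.lift_snd]
  have e2 : ∀ (P : MorphismProperty Scheme.{u}) [P.RespectsIso],
      P (prod.lift (t₀ ρ) (s₀ (G := G) (U := U))).left →
      P (prod.lift (e.hom ≫ t₀ ρ) (e.hom ≫ s₀ (G := G) (U := U))).left := by
    intro P _ h
    rw [e1, Over.comp_left, P.cancel_left_of_respectsIso]
    exact h
  have hπ := isLocallySurjective_π (e.hom ≫ s₀ (G := G) (U := U)) (e.hom ≫ t₀ ρ)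
  have hp := isPullback_π _ _ hR.toIsEqvRel
  have het := hR.etale_right
  constructor
  · intro h
    have := Local.quasiCompact.{u}
    exact DiagProp.repWith_diag_of_kernelPair @QuasiCompact _ hp inferInstance
      (e2 @QuasiCompact (quasiCompact_lift h))
  · intro h
    have := Local.isClosedImmersion.{u}
    exact DiagProp.repWith_diag_of_kernelPair @IsClosedImmersion _ hp inferInstance
      (e2 @IsClosedImmersion (isClosedImmersion_lift h
        (mono_lift_left (isEtaleEqvRel_sig hfree).toIsEqvRel)))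

end K594.FreeQuot
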