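import Groth.Agent.AlgSp.K594.FormalAlg
import Mathlib.RingTheory.Flat.Localization

/-!
# A finite algebra which is an isomorphism modulo all powers of an ideal is an isomorphism near the ideal
-/

set_option autoImplicit false
universe u

open TensorProduct

namespace K594.IsoAlg

variable {B C : Type u} [CommRing B] [CommRing C] [Algebra B C]

theorem mem_of_one_tmul_eq_zero {M : Type u} [AddCommGroup M] [Module B M] (I : Ideal B) (c : M)
    (h : (1 : B ⧸ I) ⊗ₜ[B] c = 0) : c ∈ I • (⊤ : Submodule B M) := by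
  have h1 := congrArg (TensorProduct.quotTensorEquivQuotSMul M I) h
  rw [map_zero] at h1
  have h2 : TensorProduct.quotTensorEquivQuotSMul M I ((1 : B ⧸ I) ⊗ₜ[B] c) =
      Submodule.Quotient.mk ((1 : B) • c) := TensorProduct.quotTensorEquivQuotSMul_mk_tmul I 1 c
  rw [h2, one_smul] at h1
  exact (Submodule.Quotient.mk_eq_zero _).1 h1

theorem exists_away [IsNoetherianRing B] [Module.Finite B C] (I : Ideal B)
    (h : ∀ n : ℕ, Function.Bijective (algebraMap (B ⧸ I ^ (n + 1)) ((B ⧸ I ^ (n + 1)) ⊗[B] C))) :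
    ∃ f : B, f - 1 ∈ I ∧ Function.Bijective (algebraMap (Localization.Away f) (Localization.Away f ⊗[B] C)) := by
  -- the intersection of the powers of `I`
  set N : Submodule B B := ⨅ i : ℕ, I ^ i • (⊤ : Submodule B B) with hN
  have hNI : N ≤ I • N := by
    intro x hx
    obtain ⟨r, hr⟩ := (Ideal.mem_iInf_smul_pow_eq_bot_iff I x).1 hx
    rw [← hr]
    exact Submodule.smul_mem_smul r.2 hx
  obtain ⟨s, hs1, hs⟩ := Submodule.exists_sub_one_mem_and_smul_eq_zero_of_fg_of_le_smul I N
    (IsNoetherian.noetherian N) hNI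
  have hker : ∀ x : B, algebraMap B C x = 0 → x ∈ N := by
    intro x hx
    rw [hN, Submodule.mem_iInf]
    intro i
    rw [Ideal.smul_top_eq_map, Algebra.algebraMap_self, Ideal.map_id]
    change x ∈ I ^ i
    rcases i with _ | i
    · rw [pow_zero, Ideal.one_eq_top]
      trivial
    · rw [← Ideal.Quotient.eq_zero_iff_mem]
      apply (h i).1
      rw [map_zero, Algebra.TensorProduct.algebraMap_apply, Algebra.algebraMap_self, RingHom.id_apply]
      have : (Ideal.Quotient.mk (I ^ (i + 1)) x) ⊗ₜ[B] (1 : C) = (1 : B ⧸ I ^ (i + 1)) ⊗ₜ[B] (algebraMap B C x) := by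
        rw [Algebra.algebraMap_eq_smul_one, ← TensorProduct.smul_tmul]
        congr 1
        rw [Algebra.smul_def, mul_one]
        rfl
      rw [this, hx, TensorProduct.tmul_zero]
  -- the cokernel
  set P : Submodule B C := LinearMap.range (Algebra.linearMap B C) with hP
  have hQ : (⊤ : Submodule B (C ⧸ P)) ≤ I • ⊤ := by
    rintro y -
    obtain ⟨c, rfl⟩ := Submodule.Quotient.mk_surjective P y
    obtain ⟨b, hb⟩ := (h 0).2 ((1 : B ⧸ I ^ (0 + 1)) ⊗ₜ[B] c)
    obtain ⟨b, rfl⟩ := Ideal.Quotient.mk_surjective b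
    have h1 : (1 : B ⧸ I ^ (0 + 1)) ⊗ₜ[B] (c - algebraMap B C b) = 0 := by
      rw [TensorProduct.tmul_sub, ← hb, sub_eq_zero, Algebra.TensorProduct.algebraMap_apply, Algebra.algebraMap_self,
        RingHom.id_apply, Algebra.algebraMap_eq_smul_one, ← TensorProduct.smul_tmul]
      congr 1
      rw [Algebra.smul_def, mul_one]
      rfl
    have h2 := mem_of_one_tmul_eq_zero _ _ h1
    have h3 : Submodule.Quotient.mk c = (Submodule.Quotient.mk (c - algebraMap B C b) : C ⧸ P) := by
      rw [Submodule.Quotient.eq]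
      exact ⟨b, by simp⟩
    rw [h3]
    have h4 : Submodule.map P.mkQ (I ^ (0 + 1) • (⊤ : Submodule B C)) ≤ I • (⊤ : Submodule B (C ⧸ P)) := by
      rw [Submodule.map_smul'', zero_add, pow_one]
      exact Submodule.smul_mono le_rfl le_top
    exact h4 ⟨_, h2, rfl⟩
  obtain ⟨s', hs1', hs'⟩ := Submodule.exists_sub_one_mem_and_smul_eq_zero_of_fg_of_le_smul I (⊤ : Submodule B (C ⧸ P))
    (Module.Finite.fg_top) hQ
  refine ⟨s * s', ?_, ?_, ?_⟩
  · have : s * s' - 1 = s * (s' - 1) + (s - 1) := by ring
    rw [this]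
    exact add_mem (Ideal.mul_mem_left _ _ hs1') hs1
  · rw [injective_iff_map_eq_zero]
    intro x hx
    rw [Algebra.TensorProduct.algebraMap_apply, Algebra.algebraMap_self, RingHom.id_apply] at hx
    have _ : Module.Flat B (Localization.Away (s * s')) := IsLocalization.flat _ (Submonoid.powers (s * s'))
    have h1 := K594.FormalAlg.mem_map_of_tmul_eq_zero (Localization.Away (s * s')) (Algebra.linearMap B C) x (by
      rw [LinearMap.lTensor_tmul, Algebra.linearMap_apply, map_one]
      exact hx)
    have h2 : Ideal.map (algebraMap B (Localization.Away (s * s'))) (LinearMap.ker (Algebra.linearMap B C) : Ideal B) =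
        ⊥ := by
      rw [eq_bot_iff, Ideal.map_le_iff_le_comap]
      intro y hy
      rw [Ideal.mem_comap, Ideal.mem_bot]
      have h3 : s • y = 0 := hs y (hker y hy)
      have h4 : algebraMap B (Localization.Away (s * s')) (s * s') * algebraMap B (Localization.Away (s * s')) y = 0 := by
        rw [← map_mul]
        have : s * s' * y = s' * (s • y) := by rw [smul_eq_mul]; ring
        rw [this, h3, mul_zero, map_zero]
      exact (IsUnit.mul_right_eq_zero (IsLocalization.Away.algebraMap_isUnit (s * s'))).1 h4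
    rw [h2] at h1
    exact h1
  · intro y
    induction y using TensorProduct.induction_on with
    | zero => exact ⟨0, map_zero _⟩
    | add x y hx hy =>
      obtain ⟨a, ha⟩ := hx
      obtain ⟨b, hb⟩ := hy
      exact ⟨a + b, by rw [map_add, ha, hb]⟩
    | tmul l c =>
      have h1 : s' • (Submodule.Quotient.mk c : C ⧸ P) = 0 := hs' _ trivial
      rw [← Submodule.Quotient.mk_smul, Submodule.Quotient.mk_eq_zero] at h1
      obtain ⟨b, hb⟩ := h1
      obtain ⟨v, hv⟩ := IsLocalization.Away.algebraMap_isUnit (S := Localization.Away (s * s')) (s * s')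
      refine ⟨l * ↑v⁻¹ * algebraMap B _ (s * b), ?_⟩
      rw [Algebra.TensorProduct.algebraMap_apply, Algebra.algebraMap_self, RingHom.id_apply]
      have e1 : (l * ↑v⁻¹ * algebraMap B (Localization.Away (s * s')) (s * b)) ⊗ₜ[B] (1 : C) =
          (l * ↑v⁻¹) ⊗ₜ[B] ((s * s') • c) := by
        rw [mul_comm (l * ↑v⁻¹), ← Algebra.smul_def, TensorProduct.smul_tmul]
        congr 1
        rw [mul_smul, mul_smul, ← hb, Algebra.linearMap_apply, Algebra.algebraMap_eq_smul_one]
      rw [e1, ← TensorProduct.smul_tmul]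
      congr 1
      rw [Algebra.smul_def, ← hv]
      calc (v : Localization.Away (s * s')) * (l * ↑v⁻¹) = l * (v * ↑v⁻¹) := by ring
        _ = l := by rw [Units.mul_inv, mul_one]

end K594.IsoAlg
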