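import Groth.Agent.AlgSp.K594.AlgWrap
import Groth.Agent.AlgSp.K594.IsoAlg
import Groth.Agent.AlgSp.K632.DeformIso
import Groth.Agent.S10750

/-!
# Isomorphisms over a complete base

`X` proper over a Noetherian ring `A` complete for `I`, `π : Z ⟶ X` proper.

* `eq_univ_of_isOpen`: an open subset of `|X|` which contains `|X_0|` is everything.
* `isFiniteMor_of_formal`: if `π` is an isomorphism over `X_0` then it is finite.
* `isIso_of_formal`: if `π` is an isomorphism over all `X_n` then it is an isomorphism.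
-/

set_option autoImplicit false
universe u
open CategoryTheory CategoryTheory.Limits AlgebraicGeometry Opposite TensorProduct
open AlgSp K598.Site K598.RepKit K598.ClFam K598.Charts
open K594.FamOps K594.AlgSch K594.AlgChart K594.AlgStep K597.ProperSub K594.ThickCl K594.AlgWrap

namespace K594.IsoCrit

variable {A : Type u} [CommRing A] (I : Ideal A)

theorem eq_univ_of_isOpen [IsAdicComplete I A] {X X0 : Sp (Spec (CommRingCat.of A))}
    {s : X ⟶ (yon (Spec (CommRingCat.of A))).obj (Over.mk (𝟙 _))} (hs : IsUnivClosedMor s)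
    {p : X0 ⟶ X} {s0 : X0 ⟶ (yon _).obj (Sn I 0)} (h : IsPullback p s0 s ((yon _).map (snι I 0)))
    {W : Set (Points X)} (hW : IsOpen W) (h0 : Set.range (Points.map p) ⊆ W) : W = Set.univ := by
  by_contra hne
  obtain ⟨y, hy⟩ : ∃ y, y ∉ W := by
    by_contra hc
    push Not at hc
    exact hne (Set.eq_univ_of_forall hc)
  have h1 : IsClosedMap (Points.map s) := hs (IsAlgSpace.yon_obj _) (𝟙 _) (𝟙 _) s (IsPullback.of_horiz_isIso ⟨by simp⟩)
  let T : Over (Spec (CommRingCat.of A)) := Over.mk (𝟙 _)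
  let C : Set ↥T.left := Points.schemeHomeo T ⁻¹' (Points.map s '' Wᶜ)
  have hC : IsClosed C := (h1 _ hW.isClosed_compl).preimage (Points.schemeHomeo T).continuous
  obtain ⟨a, ha⟩ := (Points.schemeHomeo T).surjective (Points.map s y)
  have haC : a ∈ C := ⟨y, hy, ha.symm⟩
  -- a closed point in `C`
  obtain ⟨m, hm, ham⟩ := Ideal.exists_le_maximal (show PrimeSpectrum A from a).asIdeal
    (show PrimeSpectrum A from a).isPrime.ne_top
  let m' : PrimeSpectrum A := ⟨m, hm.isPrime⟩
  have hsp : (show PrimeSpectrum A from a) ⤳ m' := (PrimeSpectrum.le_iff_specializes _ _).1 ham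
  have hmC : (show ↥T.left from m') ∈ C := hsp.mem_closed hC haC
  obtain ⟨y', hy', hy'm⟩ := hmC
  -- `m` contains `I`
  have hI : I ≤ m := (IsAdicComplete.le_jacobson_bot I).trans (sInf_le ⟨bot_le, hm⟩)
  have hI' : I ^ (0 + 1) ≤ m := by
    rw [zero_add, pow_one]
    exact hI
  have h2 : m' ∈ Set.range (PrimeSpectrum.comap (Ideal.Quotient.mk (I ^ (0 + 1)))) := by
    rw [range_comap_of_surjective _ _ Ideal.Quotient.mk_surjective, Ideal.mk_ker]
    exact hI'
  obtain ⟨m0, hm0⟩ := h2
  obtain ⟨x, hx, -⟩ := K596.Pts.exists_of_isPullback h y' (Points.schemeHomeo (Sn I 0) (show ↥(Sn I 0).left from m0)) (by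
    refine hy'm.trans ?_
    refine Eq.trans ?_ (K609.Points.map_yon_map_ofScheme (snι I 0) (show ↥(Sn I 0).left from m0)).symm
    exact congrArg (Points.ofScheme T) (show (show ↥T.left from m') = (snι I 0).left (show ↥(Sn I 0).left from m0) from
      hm0.symm))
  exact hy' (h0 ⟨x, hx⟩)

variable [IsNoetherianRing A] [IsAdicComplete I A]

section

variable {X Z X0 : Sp (Spec (CommRingCat.of A))}
    {s : X ⟶ (yon (Spec (CommRingCat.of A))).obj (Over.mk (𝟙 _))} {π : Z ⟶ X}
    {p : X0 ⟶ X} {s0 : X0 ⟶ (yon _).obj (Sn I 0)} {q : X0 ⟶ Z}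

theorem isFiniteMor_of_formal (hX : IsAlgSpace X) (hZ : IsAlgSpace Z) (hX0 : IsAlgSpace X0) (hs : IsProperMor s)
    (hπ : IsProperMor π)
    (h : IsPullback p s0 s ((yon _).map (snι I 0))) (hq : IsPullback q (𝟙 _) π p) : IsFiniteMor π := by
  have key : ∀ x : Points X0, ∃ (V : Space (Spec (CommRingCat.of A))) (j : V.obj ⟶ X), RepWith @IsOpenImmersion j ∧
      Points.map p x ∈ Set.range (Points.map j) ∧ IsFiniteMor (pullback.snd π j) := by
    intro x
    obtain ⟨K, hK, str, g, hg⟩ := K609.Points.exists_field_ofPt x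
    let Ω := AlgebraicClosure K
    let str' : Spec (CommRingCat.of Ω) ⟶ Spec (CommRingCat.of A) :=
      Spec.map (CommRingCat.ofHom (algebraMap K Ω)) ≫ str
    let c : Over.mk str' ⟶ Over.mk str := Over.homMk (Spec.map (CommRingCat.ofHom (algebraMap K Ω))) rfl
    let g' : (yon (Spec (CommRingCat.of A))).obj (Over.mk str') ⟶ X0 := (yon _).map c ≫ g
    let y : FieldPt X := ⟨Ω, str', (J (Spec (CommRingCat.of A))).uliftYonedaEquiv (g' ≫ p)⟩
    have hy : y.toHom = g' ≫ p := (J (Spec (CommRingCat.of A))).uliftYonedaEquiv.symm_apply_apply _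
    have sq1 : IsPullback g' (𝟙 _) (𝟙 _) g' := IsPullback.of_vert_isIso ⟨by simp⟩
    have sq2 : IsPullback (g' ≫ q) (𝟙 _) π y.toHom := by
      rw [hy]
      exact sq1.paste_horiz hq
    have hfin : Finite (Points ((yon (Spec (CommRingCat.of A))).obj (Over.mk str'))) := by
      have h1 : Finite ↥(Over.mk str').left := inferInstanceAs (Finite (PrimeSpectrum Ω))
      exact Finite.of_equiv _ (Points.schemeHomeo (Over.mk str')).toEquiv
    obtain ⟨V, j, hj, hyj, hV⟩ := Groth.Agent.S10750.result (X := ⟨Z, hZ⟩) (Y := ⟨X, hX⟩) ⟨π⟩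
      (K594.AlgInd.isLocNoethSp s hs.2.1) hπ y (inferInstanceAs (IsAlgClosed (AlgebraicClosure K))) _ _ _ sq2 hfin
    refine ⟨V, j.hom, hj, ?_, ?_⟩
    · have h1 : Points.mk y = Points.map p x := by
        rw [← Points.ofPt_toHom y (IsLocalRing.closedPoint Ω), hy, ← Points.map_ofPt]
        congr 1
        rw [K609.Points.ofPt_yon_map_comp]
        exact hg _
      rw [← h1]
      exact hyj
    · have sq := IsPullback.of_hasPullback π j.hom
      exact hV ⟨_, K613.Chart.isAlgSpace_pullback hZ V.property hX _ _⟩ ⟨pullback.fst π j.hom⟩ ⟨pullback.snd π j.hom⟩ sq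
  choose V j hj1 hj2 hj3 using key
  have hcov : (⋃ x, Set.range (Points.map (j x))) = Set.univ := by
    refine eq_univ_of_isOpen I hs.2.2 h (isOpen_iUnion fun x => ?_) ?_
    · exact (K610.OpenImm.isOpenEmbedding_points hX (hj1 x)).isOpen_range
    · rintro _ ⟨x, rfl⟩
      exact Set.mem_iUnion.2 ⟨x, hj2 x⟩
  refine K617.FinLoc.finite_family (j := j) (fun x => K610.OpenImm.repWith_etale_of_open (hj1 x)) (fun x => ?_)
    (fun x => IsPullback.of_hasPullback π (j x)) hj3
  exact Set.mem_iUnion.1 (hcov.ge (Set.mem_univ x))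

end

omit [IsNoetherianRing A] [IsAdicComplete I A] in
/-- Two pullbacks of the same cospan, one with second projection an isomorphism. -/
theorem isIso_of_two {C : Type*} [Category C] {P P' Z X T : C} {a : P ⟶ Z} {b : P ⟶ T} {a' : P' ⟶ Z} {b' : P' ⟶ T}
    {π : Z ⟶ X} {g : T ⟶ X} (h : IsPullback a b π g) (h' : IsPullback a' b' π g) [IsIso b'] : IsIso b := by
  rw [← IsPullback.isoIsPullback_hom_snd _ _ h h']
  infer_instance

omit [IsNoetherianRing A] [IsAdicComplete I A] in
theorem bijective_of_isIso {R : CommRingCat.{u}} {B : CommRingCat.{u}} {φ : R ⟶ B} {L : Type u} [CommRing L]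
    [Algebra B L] (C : Type u) [CommRing C] [Algebra B C]
    (h : IsIso ((yon (Spec R)).map (spm (φ ≫ CommRingCat.ofHom (algebraMap B L))
        (CommRingCat.ofHom (S := L ⊗[B] C) Algebra.TensorProduct.includeLeftRingHom)))) :
    Function.Bijective (algebraMap L (L ⊗[B] C)) := by
  have h1 : IsIso (spm (φ ≫ CommRingCat.ofHom (algebraMap B L))
        (CommRingCat.ofHom (S := L ⊗[B] C) Algebra.TensorProduct.includeLeftRingHom)) := isIso_of_reflects_iso _ (yon (Spec R))
  have h2 : IsIso ((Over.forget _).map (spm (φ ≫ CommRingCat.ofHom (algebraMap B L))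
        (CommRingCat.ofHom (S := L ⊗[B] C) Algebra.TensorProduct.includeLeftRingHom))) := inferInstance
  have h3 : IsIso (Spec.map (CommRingCat.ofHom (S := L ⊗[B] C) Algebra.TensorProduct.includeLeftRingHom)) := h2
  exact (isIso_SpecMap_iff).1 h3

/-- An isomorphism on all infinitesimal neighbourhoods is an isomorphism. -/
theorem isIso_of_formal {X Z : Sp (Spec (CommRingCat.of A))} (hX : IsAlgSpace X) (hZ : IsAlgSpace Z)
    {Xn : ℕ → Sp (Spec (CommRingCat.of A))} (hXn' : ∀ n, IsAlgSpace (Xn n))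
    {s : X ⟶ (yon (Spec (CommRingCat.of A))).obj (Over.mk (𝟙 _))} (hs : IsProperMor s) {π : Z ⟶ X} (hπ : IsProperMor π)
    {p : ∀ n, Xn n ⟶ X} {sn : ∀ n, Xn n ⟶ (yon _).obj (Sn I n)}
    (h : ∀ n, IsPullback (p n) (sn n) s ((yon _).map (snι I n))) {q : ∀ n, Xn n ⟶ Z}
    (hq : ∀ n, IsPullback (q n) (𝟙 _) π (p n)) : IsIso π := by
  have hfin := K617.FinLoc.isFiniteMor_iff.1 (isFiniteMor_of_formal I hX hZ (hXn' 0) hs hπ (h 0) (hq 0))
  obtain ⟨B, φ, p0, hp1, hp2⟩ := exists_spec_chart (isQuasiCompactSp_of_mor s hs.2.1.2)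
  obtain ⟨C, ψ, f, hψ, sq⟩ := exists_finite_sq hfin p0
  have hB : IsNoetherianRing B := isNoetherianRing_chart s hs.2.1 hp1
  let _ : Algebra B C := ψ.hom.toAlgebra
  have _ : Module.Finite B C := hψ
  obtain ⟨b, hb1, hb2⟩ := K594.IsoAlg.exists_away (B := B) (C := C) (I.map φ.hom) (fun n => by
    let L := B ⧸ (I.map φ.hom) ^ (n + 1)
    obtain ⟨a, sqa⟩ := isPullback_tensor φ ψ L rfl
    have sq1 := (yon_isPullback sqa).paste_horiz sq
    have hd : ∃ d, d ≫ p n = (yon _).map (spm φ (CommRingCat.ofHom (algebraMap B L))) ≫ p0 := by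
      rw [factors_yon_iff (closed_p I (h n)), ofClosed_p I (h n)]
      apply idl_inj
      rw [idl_En, idl_bot, CommRingCat.hom_comp, ← Ideal.map_map]
      exact (Ideal.map_pow _ _ _).symm.trans (Ideal.map_quotient_self _)
    obtain ⟨d, hd⟩ := hd
    rw [← hd] at sq1
    have sq2 : IsPullback (d ≫ q n) (𝟙 _) π (d ≫ p n) :=
      (IsPullback.of_vert_isIso ⟨by simp⟩ : IsPullback d (𝟙 _) (𝟙 _) d).paste_horiz (hq n)
    exact bijective_of_isIso (φ := φ) C (isIso_of_two sq1 sq2))
  obtain ⟨a, sqa⟩ := isPullback_tensor φ ψ (Localization.Away b) rfl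
  have sq1 := (yon_isPullback sqa).paste_horiz sq
  have hopen : IsOpenImmersion (Spec.map (CommRingCat.ofHom (algebraMap B (Localization.Away b)))) :=
    IsOpenImmersion.of_isLocalization b
  have he : RepWith @Etale ((yon _).map (spm φ (CommRingCat.ofHom (algebraMap B (Localization.Away b)))) ≫ p0) :=
    MorphismProperty.comp_mem _ _ _ ((repWith_yon_map_iff _ _).2
      (inferInstanceAs (Etale (Spec.map (CommRingCat.ofHom (algebraMap B (Localization.Away b))))))) hp1
  have hiso : IsIso (spm (φ ≫ CommRingCat.ofHom (algebraMap B (Localization.Away b)))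
        (CommRingCat.ofHom (S := (Localization.Away b) ⊗[B] C) Algebra.TensorProduct.includeLeftRingHom)).left :=
    (isIso_SpecMap_iff).2 hb2
  have hr : Set.range (Points.map ((yon _).map (spm φ (CommRingCat.ofHom (algebraMap B (Localization.Away b)))) ≫ p0)) =
      Set.univ := by
    refine eq_univ_of_isOpen I hs.2.2 (h 0) ?_ ?_
    · have h1 := (K609.Points.isOpenMap_ofPt he).isOpen_range
      convert h1 using 1
      ext x
      constructor
      · rintro ⟨y, rfl⟩
        obtain ⟨t, rfl⟩ := (Points.schemeHomeo _).surjective y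
        exact ⟨t, (Points.ofPt_eq_map_ofScheme _ _)⟩
      · rintro ⟨t, rfl⟩
        exact ⟨Points.schemeHomeo _ t, (Points.ofPt_eq_map_ofScheme _ _).symm⟩
    · rintro _ ⟨x, rfl⟩
      obtain ⟨v, hv⟩ := K609.Points.surjective_ofPt_of_repWith_surjective hp2 (Points.map (p 0) x)
      have h1 : v ∈ Points.ofPt p0 ⁻¹' Set.range (Points.map (ofClosed (p 0) (closed_p I (h 0))).ι) := by
        obtain ⟨e, he, -⟩ := exists_iso_of_eq (closed_p I (h 0)) (ofClosed (p 0) (closed_p I (h 0))).repWith_ι
          (by rw [ofClosed_ι])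
        change Points.ofPt p0 v ∈ Set.range (Points.map (ofClosed (p 0) (closed_p I (h 0))).ι)
        rw [hv]
        refine ⟨Points.map e.hom x, ?_⟩
        rw [← Points.map_comp, he]
      rw [K598.Red.range_map_ι, ofClosed_p I (h 0)] at h1
      have h2 := (mem_support_iff _ (show PrimeSpectrum B from v)).1 h1
      rw [idl_En, zero_add, pow_one] at h2
      have h3 : b ∉ (show PrimeSpectrum B from v).asIdeal := by
        intro h4
        apply (show PrimeSpectrum B from v).isPrime.ne_top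
        rw [Ideal.eq_top_iff_one]
        have : (1 : B) = b - (b - 1) := by ring
        rw [this]
        exact sub_mem h4 (h2 hb1)
      have h5 : (show PrimeSpectrum B from v) ∈ Set.range (PrimeSpectrum.comap (algebraMap B (Localization.Away b))) := by
        rw [PrimeSpectrum.localization_away_comap_range (Localization.Away b) b]
        exact h3
      obtain ⟨t, ht⟩ := h5
      refine ⟨Points.ofScheme _ (show ↥(sp (φ ≫ CommRingCat.ofHom (algebraMap B (Localization.Away b)))).left from t), ?_⟩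
      rw [← Points.ofPt_eq_map_ofScheme, K609.Points.ofPt_yon_map_comp, ← hv]
      congr 1
  have hdesc := K595.DescInst.isomorphisms.{u}
  apply K632.DeformIso.isIso_of_repWith_isIso
  refine K617.FinLoc.repWith_of_family (MorphismProperty.isomorphisms Scheme.{u}) ?_ (ι := Unit)
    (j := fun _ => (yon _).map (spm φ (CommRingCat.ofHom (algebraMap B (Localization.Away b)))) ≫ p0) (fun _ => he)
    (fun x => ⟨(), hr.ge (Set.mem_univ x)⟩) (fun _ => sq1) (fun _ => ?_)
  · intro _ _ f hf
    have : IsIso f := hf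
    exact (inferInstance : IsAffineHom f)
  · exact (repWith_yon_map_iff _ _).2 hiso

end K594.IsoCrit
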