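import Groth.Agent.Desc.StableDD
import Groth.Agent.Desc.LqfQAff
import Groth.Agent.S1131
import Groth.Agent.S1132
import Groth.Agent.S1134

/-!
# Effectivity of descent data which are separated and locally quasi-finite

* `sat D V₀` : the saturation of an open of the scheme underlying a descent datum (`p` universally open).
* `effective_of_lqf` : `p : X ⟶ S` flat, surjective, locally of finite presentation, quasi-compact with `X`
  affine: descent data separated, locally quasi-finite and locally of finite type over `X` are effective.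
-/

set_option autoImplicit false
set_option backward.isDefEq.respectTransparency false
set_option backward.isDefEq.respectTransparency.types false
universe u
open CategoryTheory CategoryTheory.Limits AlgebraicGeometry Opposite
open _root_.Desc

namespace K594.LqfDD

variable {X S : Scheme.{u}} {p : X ⟶ S} (D : SchDD p)

/-- `V ×_S X` -/
noncomputable abbrev P : Scheme.{u} := pullback (D.obj.hom ≫ p) p

/-- the first projection -/
noncomputable abbrev a : P D ⟶ D.obj.left := pullback.fst (D.obj.hom ≫ p) p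

/-- the second projection -/
noncomputable abbrev b : P D ⟶ X := pullback.snd (D.obj.hom ≫ p) p

theorem ab : (a D ≫ D.obj.hom) ≫ p = b D ≫ p := by
  rw [Category.assoc]; exact pullback.condition

/-- the transport, as a morphism -/
noncomputable def ψ : P D ⟶ D.obj.left := (D.φ (a D ≫ D.obj.hom) (b D) (ab D) ⟨a D, rfl⟩).1

theorem ψ_hom : ψ D ≫ D.obj.hom = b D := (D.φ (a D ≫ D.obj.hom) (b D) (ab D) ⟨a D, rfl⟩).2

theorem φ_val_congr {T : Scheme.{u}} {x₀ x₀' x₁ x₁' : T ⟶ X} (h : x₀ ≫ p = x₁ ≫ p)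
    (h' : x₀' ≫ p = x₁' ≫ p) (e0 : x₀ = x₀') (e1 : x₁ = x₁') (v : Lifts D.obj x₀)
    (v' : Lifts D.obj x₀') (ev : v.1 = v'.1) : (D.φ x₀ x₁ h v).1 = (D.φ x₀' x₁' h' v').1 := by
  subst e0 e1
  have : v = v' := Subtype.ext ev
  rw [this]

/-- the transport of a point through `ψ` -/
theorem lift_ψ {T : Scheme.{u}} (x₀ x₁ : T ⟶ X) (h : x₀ ≫ p = x₁ ≫ p) (v : Lifts D.obj x₀)
    (l : T ⟶ P D) (h1 : l ≫ a D = v.1) (h2 : l ≫ b D = x₁) :
    l ≫ ψ D = (D.φ x₀ x₁ h v).1 := by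
  have h' : (l ≫ a D ≫ D.obj.hom) ≫ p = (l ≫ b D) ≫ p := by
    rw [Category.assoc, ab, Category.assoc]
  have hv : (l ≫ a D) ≫ D.obj.hom = l ≫ a D ≫ D.obj.hom := Category.assoc _ _ _
  have := D.φ_natural l (a D ≫ D.obj.hom) (b D) (ab D) h' ⟨a D, rfl⟩ ⟨l ≫ a D, hv⟩ rfl
  rw [ψ, ← this]
  apply φ_val_congr
  · rw [← hv, h1, v.2]
  · exact h2
  · exact h1

/-- the swap of `V ×_S X` -/
noncomputable def σ : P D ⟶ P D := pullback.lift (ψ D) (a D ≫ D.obj.hom) (by
  rw [← Category.assoc, ψ_hom, ab])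

theorem σ_a : σ D ≫ a D = ψ D := pullback.lift_fst _ _ _

theorem σ_b : σ D ≫ b D = a D ≫ D.obj.hom := pullback.lift_snd _ _ _

theorem σ_ψ : σ D ≫ ψ D = a D := by
  have h0 : (b D) ≫ p = (a D ≫ D.obj.hom) ≫ p := (ab D).symm
  rw [lift_ψ D (b D) (a D ≫ D.obj.hom) h0 ⟨ψ D, ψ_hom D⟩ (σ D) (σ_a D) (σ_b D)]
  have h1 : (⟨ψ D, ψ_hom D⟩ : Lifts D.obj (b D)) =
      D.φ (a D ≫ D.obj.hom) (b D) (ab D) ⟨a D, rfl⟩ := rfl
  rw [h1, D.φ_comp, D.φ_self]

theorem σ_σ : σ D ≫ σ D = 𝟙 _ := by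
  apply pullback.hom_ext
  · rw [Category.assoc, Category.id_comp]
    exact (congrArg (σ D ≫ ·) (σ_a D)).trans (σ_ψ D)
  · rw [Category.assoc, Category.id_comp]
    refine (congrArg (σ D ≫ ·) (σ_b D)).trans ?_
    rw [← Category.assoc, σ_a, ψ_hom]

instance : IsIso (σ D) := ⟨σ D, σ_σ D, σ_σ D⟩

theorem ψ_eq : ψ D = σ D ≫ a D := (σ_a D).symm

variable [Flat p] [LocallyOfFinitePresentation p]

theorem isOpenMap_ψ : IsOpenMap (ψ D) := by
  rw [ψ_eq]
  exact (σ D ≫ a D).isOpenMap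

/-- The saturation of an open. -/
noncomputable def sat (V₀ : D.obj.left.Opens) : D.obj.left.Opens :=
  ⟨ψ D '' ((a D ⁻¹ᵁ V₀ : (P D).Opens) : Set (P D)), isOpenMap_ψ D _ (a D ⁻¹ᵁ V₀).isOpen⟩

theorem le_sat (V₀ : D.obj.left.Opens) : V₀ ≤ sat D V₀ := by
  intro v hv
  let l : D.obj.left ⟶ P D := pullback.lift (𝟙 _) D.obj.hom (by rw [Category.id_comp])
  have h1 : l ≫ a D = 𝟙 _ := pullback.lift_fst _ _ _
  have h2 : l ≫ b D = D.obj.hom := pullback.lift_snd _ _ _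
  have h3 : l ≫ ψ D = 𝟙 _ := by
    rw [lift_ψ D D.obj.hom D.obj.hom rfl ⟨𝟙 _, Category.id_comp _⟩ l h1 h2, D.φ_self]
  refine ⟨l v, ?_, ?_⟩
  · change a D (l v) ∈ V₀
    rw [← Scheme.Hom.comp_apply, h1]
    exact hv
  · rw [← Scheme.Hom.comp_apply, h3]
    rfl

theorem isCompact_sat [QuasiCompact p] (V₀ : D.obj.left.Opens)
    (h : IsCompact (V₀ : Set D.obj.left)) : IsCompact (sat D V₀ : Set D.obj.left) :=
  ((QuasiCompact.isCompact_preimage (f := a D) _ V₀.isOpen h).image (ψ D).continuous)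

open Groth.Agent.Desc.StableDD in
theorem isStable_sat (V₀ : D.obj.left.Opens) : IsStable D (sat D V₀) := by
  rintro T x₀ x₁ h v t ⟨q, hq, hqv⟩
  obtain ⟨z, hz1, hz2⟩ := Scheme.Pullback.exists_preimage_pullback (f := v.1) (g := ψ D) t q hqv.symm
  obtain ⟨f, hf⟩ : ∃ f, f = pullback.fst v.1 (ψ D) := ⟨_, rfl⟩
  obtain ⟨g, hg⟩ : ∃ g, g = pullback.snd v.1 (ψ D) := ⟨_, rfl⟩
  have hfg : f ≫ v.1 = g ≫ ψ D := by rw [hf, hg, pullback.condition]
  rw [← hf] at hz1
  rw [← hg] at hz2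
  -- the point `c = g ≫ a`
  have e0 : g ≫ b D = f ≫ x₀ := by
    rw [← ψ_hom, ← Category.assoc, ← hfg, Category.assoc, v.2]
  have hc : ((g ≫ a D) ≫ D.obj.hom) ≫ p = (g ≫ b D) ≫ p := by
    rw [Category.assoc, Category.assoc, ← Category.assoc (a D), ab, Category.assoc]
  have hc' : ((g ≫ a D) ≫ D.obj.hom) ≫ p = (f ≫ x₁) ≫ p := by
    rw [hc, e0, Category.assoc, h, Category.assoc]
  have h01 : (f ≫ x₀) ≫ p = (f ≫ x₁) ≫ p := by rw [Category.assoc, h, Category.assoc]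
  have hv' : (f ≫ v.1) ≫ D.obj.hom = f ≫ x₀ := by rw [Category.assoc, v.2]
  -- naturality
  have n1 := D.φ_natural f x₀ x₁ h h01 v ⟨f ≫ v.1, hv'⟩ rfl
  -- `f ≫ v.1` is the transport of `c`
  have hc'' : ((g ≫ a D) ≫ D.obj.hom) ≫ p = (f ≫ x₀) ≫ p := by rw [hc, e0]
  have n2 : (⟨f ≫ v.1, hv'⟩ : Lifts D.obj (f ≫ x₀)) =
      D.φ ((g ≫ a D) ≫ D.obj.hom) (f ≫ x₀) hc'' ⟨g ≫ a D, rfl⟩ := by
    apply Subtype.ext
    change f ≫ v.1 = _
    rw [hfg]
    exact lift_ψ D ((g ≫ a D) ≫ D.obj.hom) (f ≫ x₀) hc'' ⟨g ≫ a D, rfl⟩ g rfl e0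
  rw [n2, D.φ_comp] at n1
  let l : pullback v.1 (ψ D) ⟶ P D := pullback.lift (g ≫ a D) (f ≫ x₁) (by
    rw [← Category.assoc]; exact hc')
  have hl1 : l ≫ a D = g ≫ a D := pullback.lift_fst _ _ _
  have hl2 : l ≫ b D = f ≫ x₁ := pullback.lift_snd _ _ _
  have n3 := lift_ψ D ((g ≫ a D) ≫ D.obj.hom) (f ≫ x₁) hc' ⟨g ≫ a D, rfl⟩ l hl1 hl2
  refine ⟨l z, ?_, ?_⟩
  · change a D (l z) ∈ V₀
    rw [← Scheme.Hom.comp_apply, hl1, Scheme.Hom.comp_apply, hz2]
    exact hq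
  · rw [← Scheme.Hom.comp_apply, n3, n1, Scheme.Hom.comp_apply, hz1]

open Groth.Agent.Desc.StableDD in
/-- Separated locally quasi-finite descent data are effective (quasi-compact cover by an affine
scheme). -/
theorem effective_of_lqf [Surjective p] [QuasiCompact p] [IsAffine X] [IsSeparated D.obj.hom]
    [LocallyQuasiFinite D.obj.hom] [LocallyOfFiniteType D.obj.hom] :
    ∃ U : Over S, Nonempty ((toDD p).obj U ≅ D) := by
  have := Groth.Agent.S1131.result p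
  have := Groth.Agent.S1132.result p
  have hV : ∀ v : D.obj.left, ∃ V₀ : D.obj.left.Opens, IsAffineOpen V₀ ∧ v ∈ V₀ := by
    intro v
    obtain ⟨_, ⟨V₀, hV₀, rfl⟩, hv, -⟩ := D.obj.left.isBasis_affineOpens.exists_subset_of_mem_open
      (Set.mem_univ v) isOpen_univ
    exact ⟨V₀, hV₀, hv⟩
  choose V₀ hV₀ hv using hV
  refine effective_of_cover D (fun T => ?_) (fun v => sat D (V₀ v)) (fun v => isStable_sat D (V₀ v))
    (fun v => ⟨v, le_sat D _ (hv v)⟩) (fun v => ?_)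
  · exact (pullback.snd p T.hom).isOpenMap.isQuotientMap (pullback.snd p T.hom).continuous
      (pullback.snd p T.hom).surjective
  · let W := sat D (V₀ v)
    let E : SchDD p := restrict D W (isStable_sat D (V₀ v))
    have hE : E.obj.hom = W.ι ≫ D.obj.hom := rfl
    have hW : CompactSpace W := isCompact_iff_compactSpace.mp (isCompact_sat D _ (hV₀ v).isCompact)
    have i0 : QuasiCompact E.obj.hom := by
      rw [quasiCompact_iff_compactSpace]
      exact hW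
    have i1 : IsSeparated E.obj.hom := by rw [hE]; infer_instance
    have i2 : LocallyQuasiFinite E.obj.hom := by rw [hE]; infer_instance
    have i3 : LocallyOfFiniteType E.obj.hom := by rw [hE]; infer_instance
    exact Groth.Agent.S1134.result p E
      (Groth.Agent.Desc.LqfQAff.isQuasiAffine_of_locallyQuasiFinite E.obj.hom)

end K594.LqfDD
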