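import Groth.Agent.AlgSp.K594.Quot
import Groth.Agent.AlgSp.K594.FibSh
import Groth.Agent.AlgSp.K594.EqvRel
import Groth.Agent.AlgSp.K594.Local

/-!
# Quotients of restricted relations are open subsheaves
-/

set_option autoImplicit false
set_option backward.isDefEq.respectTransparency.types false
universe u
open CategoryTheory CategoryTheory.Limits AlgebraicGeometry Opposite AlgSp

namespace K594.QuotOpen

open K594.Elem K594.Cover K594.Basic K594.FppfRep K594.Quot

variable {S : Scheme.{u}} {R U : Over S} {s t : R ⟶ U}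

theorem π_app_map {T T' : Over S} (g : T' ⟶ T) (a : T ⟶ U) :
    (QuotSh.quot Scheme.fppfPrecoverage s t).obj.map g.op ((π s t).hom.app (op T) ⟨a⟩) =
      (π s t).hom.app (op T') ⟨g ≫ a⟩ := by
  rw [← app_map]
  rfl

variable {R' U' : Over S} {g : U' ⟶ U} {s' t' : R' ⟶ U'} {r : R' ⟶ R}
    (hsq : IsPullback (prod.lift t' s') r (prod.map g g) (prod.lift t s))
    {φ : QuotSh.quot Scheme.fppfPrecoverage s' t' ⟶ QuotSh.quot Scheme.fppfPrecoverage s t}
    (hφ : π s' t' ≫ φ = (yon S).map g ≫ π s t)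

include hφ in
theorem φ_π {T : Over S} (a : T ⟶ U') : φ.hom.app (op T) ((π s' t').hom.app (op T) ⟨a⟩) =
    (π s t).hom.app (op T) ⟨a ≫ g⟩ := by
  rw [← comp_app, hφ]
  rfl

include hsq in
theorem exists_restrict (T : Over S) (a b : T ⟶ U') (q : T ⟶ R) (h1 : q ≫ t = a ≫ g)
    (h2 : q ≫ s = b ≫ g) : ∃ q' : T ⟶ R', q' ≫ t' = a ∧ q' ≫ s' = b := by
  obtain ⟨d, h3, h4, -⟩ := EqvRel.exists_restrict_lift hsq a b q h1 h2
  exact ⟨d, h3, h4⟩

theorem π_eq_of_rel {T : Over S} {a b : T ⟶ U} (q : T ⟶ R) (h1 : q ≫ t = a) (h2 : q ≫ s = b) :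
    (π s t).hom.app (op T) ⟨a⟩ = (π s t).hom.app (op T) ⟨b⟩ := by
  subst h1 h2
  have := congrArg (fun k : (yon S).obj R ⟶ _ => k.hom.app (op T) ⟨q⟩) (π_condition s t)
  exact this.symm

include hsq hφ in
/-- the induced map is injective on sections -/
theorem φ_inj (hR : IsEqvRel s t) {T : Over S}
    (x x' : (QuotSh.quot Scheme.fppfPrecoverage s' t').obj.obj (op T))
    (h : φ.hom.app (op T) x = φ.hom.app (op T) x') : x = x' := by
  obtain ⟨T₁, g₁, a, hg₁, ha⟩ := exists_lift s' t' x
  obtain ⟨T₂, g₂, b, hg₂, hb⟩ := exists_lift s' t'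
    ((QuotSh.quot Scheme.fppfPrecoverage s' t').obj.map g₁.op x')
  apply (hg₁.comp hg₂).ext
  have h1 : (π s' t').hom.app (op T₂) ⟨g₂ ≫ a⟩ =
      (QuotSh.quot Scheme.fppfPrecoverage s' t').obj.map (g₂ ≫ g₁).op x := by
    rw [← π_app_map, ha, ← map_comp_apply]
  have h2 : (π s' t').hom.app (op T₂) ⟨b⟩ =
      (QuotSh.quot Scheme.fppfPrecoverage s' t').obj.map (g₂ ≫ g₁).op x' := by
    rw [hb, ← map_comp_apply]
  rw [← h1, ← h2]
  have h3 : (π s t).hom.app (op T₂) ⟨(g₂ ≫ a) ≫ g⟩ = (π s t).hom.app (op T₂) ⟨b ≫ g⟩ := by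
    rw [← φ_π hφ, ← φ_π hφ, h1, h2, app_map, app_map, h]
  obtain ⟨q, hq1, hq2⟩ := (app_π_eq_iff s t hR _ _).1 h3
  obtain ⟨q', hq1', hq2'⟩ := exists_restrict hsq T₂ _ _ q hq1 hq2
  exact π_eq_of_rel q' hq1' hq2'

include hsq hφ in
theorem exists_isRep (hR : IsEqvRel s t) [Flat s.left] [LocallyOfFinitePresentation s.left]
    [Flat g.left] [LocallyOfFinitePresentation g.left] :
    ∃ (W : Over S) (w : W ⟶ U) (ξ : (QuotSh.quot Scheme.fppfPrecoverage s' t').obj.obj (op W)),
      IsRep φ ((π s t).hom.app (op U) ⟨𝟙 U⟩) w ξ ∧ IsOpenImmersion w.left := by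
  -- `P = U' ×_U R`
  have sqP := IsPullback.of_hasPullback g t
  have sqP' : IsPullback (pullback.fst g t).left (pullback.snd g t).left g.left t.left :=
    sqP.map (Over.forget S)
  have i1 : Flat (pullback.snd g t).left :=
    MorphismProperty.of_isPullback (P := @Flat) sqP' inferInstance
  have i2 : LocallyOfFinitePresentation (pullback.snd g t).left :=
    MorphismProperty.of_isPullback (P := @LocallyOfFinitePresentation) sqP' inferInstance
  let m : pullback g t ⟶ U := pullback.snd g t ≫ s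
  have hm1 : Flat m.left := by
    change Flat (pullback.snd g t ≫ s).left
    rw [Over.comp_left]; infer_instance
  have hm2 : LocallyOfFinitePresentation m.left := by
    change LocallyOfFinitePresentation (pullback.snd g t ≫ s).left
    rw [Over.comp_left]; infer_instance
  let W₀ : U.left.Opens := ⟨Set.range m.left, m.left.isOpenMap.isOpen_range⟩
  let W : Over S := Over.mk (W₀.ι ≫ U.hom)
  let w : W ⟶ U := Over.homMk W₀.ι rfl
  have hw : IsOpenImmersion w.left := inferInstanceAs (IsOpenImmersion W₀.ι)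
  let n : pullback g t ⟶ W := Over.homMk (IsOpenImmersion.lift W₀.ι m.left (by rw [Scheme.Opens.range_ι]; exact subset_rfl)) (by
    change _ ≫ W₀.ι ≫ U.hom = _
    rw [← Category.assoc, IsOpenImmersion.lift_fac, Over.w])
  have hn : n ≫ w = m := by
    ext
    exact IsOpenImmersion.lift_fac _ _ _
  have hnc : Cov n := by
    have h1 : n.left ≫ w.left = m.left := by rw [← Over.comp_left, hn]
    refine ⟨?_, ?_, ⟨fun x => ?_⟩⟩
    · exact MorphismProperty.of_postcomp (W := @Flat) n.left w.left hw (by rwa [h1])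
    · exact MorphismProperty.of_postcomp (W := @LocallyOfFinitePresentation) n.left w.left hw
        (by rwa [h1])
    · obtain ⟨z, hz⟩ := x.2
      refine ⟨z, ?_⟩
      apply w.left.injective
      rw [← Scheme.Hom.comp_apply, h1]
      exact hz
  -- the section over `W`
  obtain ⟨ξ, hξ⟩ := hnc.glue (QuotSh.quot Scheme.fppfPrecoverage s' t')
    ((π s' t').hom.app _ ⟨pullback.fst g t⟩) (by
      intro Z a b hab
      rw [π_app_map, π_app_map]
      have e1 : a ≫ m = b ≫ m := by rw [← hn, reassoc_of% hab]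
      -- transitivity
      have hra : ∀ c : Z ⟶ pullback g t, (c ≫ pullback.snd g t) ≫ t = (c ≫ pullback.fst g t) ≫ g := by
        intro c
        rw [Category.assoc, Category.assoc, pullback.condition]
      obtain ⟨q, hq1, hq2⟩ := (hR.equivalence Z).trans (x := (a ≫ pullback.fst g t) ≫ g)
        (y := a ≫ m) (z := (b ≫ pullback.fst g t) ≫ g)
        ⟨a ≫ pullback.snd g t, hra a, by rw [Category.assoc]⟩
        ((hR.equivalence Z).symm ⟨b ≫ pullback.snd g t, hra b, by rw [e1, Category.assoc]⟩)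
      obtain ⟨q', hq1', hq2'⟩ := exists_restrict hsq Z _ _ q hq1 hq2
      exact π_eq_of_rel q' hq1' hq2')
  refine ⟨W, w, ξ, ⟨?_, fun {Z} a b hab _ => ?_, fun {Z} z x hx => ?_⟩, hw⟩
  · apply hnc.ext
    rw [← app_map, hξ, φ_π hφ, ← map_comp_apply, hn, π_app_map, Category.comp_id]
    exact π_eq_of_rel (pullback.snd g t) (by rw [pullback.condition]) rfl
  · have : Mono w.left := inferInstance
    ext
    rw [← cancel_mono w.left]
    exact congrArg (fun k => k.left) hab
  · obtain ⟨Z', c, a, hc, ha⟩ := exists_lift s' t' x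
    have h1 : (π s t).hom.app (op Z') ⟨a ≫ g⟩ = (π s t).hom.app (op Z') ⟨c ≫ z⟩ := by
      rw [← φ_π hφ, ha, app_map, hx, ← map_comp_apply, π_app_map, Category.comp_id]
    obtain ⟨q, hq1, hq2⟩ := (app_π_eq_iff s t hR _ _).1 h1
    -- `Z' ⟶ P`
    let l : Z' ⟶ pullback g t := pullback.lift a q hq1.symm
    have hl : l ≫ m = c ≫ z := by
      change pullback.lift a q hq1.symm ≫ pullback.snd g t ≫ s = _
      rw [← Category.assoc, pullback.lift_snd, hq2]
    have hrange : Set.range z.left ⊆ Set.range W₀.ι := by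
      rintro _ ⟨p, rfl⟩
      obtain ⟨p', rfl⟩ := hc.surj.surj p
      have : z.left (c.left p') = m.left (l.left p') := by
        rw [← Scheme.Hom.comp_apply, ← Scheme.Hom.comp_apply, ← Over.comp_left, ← Over.comp_left,
          hl]
      rw [this, Scheme.Opens.range_ι]
      exact ⟨_, rfl⟩
    let k : Z ⟶ W := Over.homMk (IsOpenImmersion.lift W₀.ι z.left hrange) (by
      change _ ≫ W₀.ι ≫ U.hom = _
      rw [← Category.assoc, IsOpenImmersion.lift_fac, Over.w])
    have hk : k ≫ w = z := by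
      ext
      exact IsOpenImmersion.lift_fac _ _ _
    refine ⟨k, hk, ?_⟩
    apply φ_inj hsq hφ hR
    -- both sides map to `π z`
    rw [hx, app_map]
    apply hc.ext
    have e2 : l ≫ n = c ≫ k := by
      have : Mono w.left := inferInstance
      ext
      rw [← cancel_mono w.left, ← Over.comp_left, ← Over.comp_left, Category.assoc, Category.assoc,
        hn, hk, hl]
    have e3 : l ≫ pullback.fst g t = a := pullback.lift_fst _ _ _
    rw [← app_map, ← app_map, ← map_comp_apply, ← e2, map_comp_apply, hξ, π_app_map,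
      ← map_comp_apply, π_app_map, φ_π hφ, Category.comp_id, e3, h1]

include hsq hφ in
theorem repWith_openImmersion (hR : IsEqvRel s t) [Flat s.left]
    [LocallyOfFinitePresentation s.left]
    [Flat g.left] [LocallyOfFinitePresentation g.left] : RepWith @IsOpenImmersion φ := by
  have := Local.isOpenImmersion.{u}
  obtain ⟨W, w, ξ, h, hw⟩ := exists_isRep hsq hφ hR
  refine repWith_of_forall_cov @IsOpenImmersion ?_ ?_
  · intro X Y f hf
    have : IsOpenImmersion f := hf
    exact ⟨inferInstance, inferInstance, inferInstance⟩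
  · intro T y
    obtain ⟨T', c, a, hc, ha⟩ := exists_lift s t y
    have sq := IsPullback.of_hasPullback w a
    have h1 := h.baseChange sq
    rw [π_app_map, Category.comp_id, ha] at h1
    exact ⟨T', c, hc, _, _, _, h1,
      MorphismProperty.of_isPullback (P := @IsOpenImmersion) (sq.map (Over.forget S)) hw⟩

end K594.QuotOpen
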