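import Groth.Agent.AlgSp.K594.Diag

/-!
# A sheaf with a representable map to an algebraic space is an algebraic space
-/

set_option autoImplicit false
set_option backward.isDefEq.respectTransparency.types false
universe u
open CategoryTheory CategoryTheory.Limits AlgebraicGeometry Opposite AlgSp

namespace K594.RepAlg

open K594.Elem K594.Cover K594.Basic K594.Diag

variable {S : Scheme.{u}}

theorem representable_diag_of_representable {F X : Sp S} (hX : Representable (Limits.diag X))
    (f : F ⟶ X) (hf : Representable f) : Representable (Limits.diag F) := by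
  rw [representable_diag_iff]
  intro T a b
  obtain ⟨V, v, hv⟩ := (representable_diag_iff X).1 hX (f.hom.app _ a) (f.hom.app _ b)
  obtain ⟨W, w, ξ, hξ⟩ := (representable_iff f).1 hf (X.obj.map v.op (f.hom.app _ a))
  obtain ⟨k, hk1, hk2⟩ := hξ.lift (𝟙 V) (F.obj.map v.op a) (by rw [app_map, map_id_apply])
  obtain ⟨l, hl1, hl2⟩ := hξ.lift (𝟙 V) (F.obj.map v.op b) (by
    rw [app_map, map_id_apply, hv.eq])
  refine ⟨equalizer k l, equalizer.ι k l ≫ v, ?_, fun {Z} p q h => ?_, fun {Z} t ht => ?_⟩
  · rw [map_comp_apply, map_comp_apply, ← hk2, ← hl2, ← map_comp_apply, ← map_comp_apply,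
      equalizer.condition]
  · have h1 : p ≫ equalizer.ι k l = q ≫ equalizer.ι k l := by
      apply hv.mono
      rw [Category.assoc, Category.assoc, h]
    exact equalizer.hom_ext h1
  · obtain ⟨z, hz⟩ := hv.lift t (by rw [← app_map, ← app_map, ht])
    have h1 : z ≫ k = z ≫ l := by
      apply hξ.inj
      · rw [Category.assoc, Category.assoc, hk1, hl1]
      · rw [map_comp_apply, map_comp_apply, hk2, hl2, ← map_comp_apply, ← map_comp_apply, hz, ht]
    exact ⟨equalizer.lift z h1, by rw [← Category.assoc, equalizer.lift_ι, hz]⟩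

theorem isAlgSpace_of_representable {F X : Sp S} (hX : IsAlgSpace X) (f : F ⟶ X)
    (hf : Representable f) : IsAlgSpace F := by
  refine ⟨representable_diag_of_representable hX.diag f hf, ?_⟩
  obtain ⟨U, p, hp1, hp2⟩ := hX.atlas
  obtain ⟨W, w, q, hq⟩ := hf p
  exact ⟨W, q, MorphismProperty.of_isPullback (P := RepWith @Etale) hq.flip hp1,
    MorphismProperty.of_isPullback (P := RepWith @Surjective) hq.flip hp2⟩

end K594.RepAlg
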