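import Groth.Agent.AlgSp.K594.LqfDD
import Groth.Agent.Desc.ZarGlue

/-!
# fppf descent of representability, separated locally quasi-finite case

`exists_rep_of_fppf_local`: a presheaf `F` on `Over S` which is a Zariski sheaf and satisfies descent along
flat, locally finitely presented, surjective morphisms, and which is, locally for the fppf topology on `S`,
represented by an object separated, locally quasi-finite and locally of finite type over the base, is
representable.
-/

set_option autoImplicit false
set_option backward.isDefEq.respectTransparency false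
set_option backward.isDefEq.respectTransparency.types false
universe u
open CategoryTheory CategoryTheory.Limits AlgebraicGeometry Opposite
open _root_.Desc Groth.Agent.Desc.SecFunctor Groth.Agent.Desc.SecPresheaf
  Groth.Agent.Desc.SecDescent Groth.Agent.Picfga.OverRep Groth.Agent.Desc.ZarGlue

namespace K594.RepDesc

/-- Descent of representability along an fppf morphism with affine source. -/
theorem exists_rep_of_fppf {T S : Scheme.{u}} (q : T ⟶ S) [Surjective q] [Flat q]
    [LocallyOfFinitePresentation q] [QuasiCompact q] [IsAffine T]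
    {F : (Over S)ᵒᵖ ⥤ Type u} (hF : IsPSheaf q F) (E : Over T) [IsSeparated E.hom]
    [LocallyQuasiFinite E.hom] [LocallyOfFiniteType E.hom]
    (e : (restr q F).RepresentableBy E) : ∃ U : Over S, Nonempty (F.RepresentableBy U) := by
  have i1 : IsSeparated (ofPresheaf e).obj.hom := inferInstanceAs (IsSeparated E.hom)
  have i2 : LocallyQuasiFinite (ofPresheaf e).obj.hom :=
    inferInstanceAs (LocallyQuasiFinite E.hom)
  have i3 : LocallyOfFiniteType (ofPresheaf e).obj.hom :=
    inferInstanceAs (LocallyOfFiniteType E.hom)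
  obtain ⟨U, ⟨i⟩⟩ := LqfDD.effective_of_lqf (ofPresheaf e)
  have := Groth.Agent.S1131.result q
  have := Groth.Agent.S1132.result q
  exact ⟨U, ⟨representableByOfEffective e hF i⟩⟩

/-- fppf local representability. -/
theorem exists_rep_of_fppf_local {S : Scheme.{u}} (F : (Over S)ᵒᵖ ⥤ Type u)
    (hZ : IsZarSheaf F)
    (hF : ∀ {T' T : Over S} (g : T' ⟶ T), Flat g.left → LocallyOfFinitePresentation g.left →
      Surjective g.left → IsDesc F g)
    (H : ∀ s : S, ∃ (T : Over S) (_ : Flat T.hom) (_ : LocallyOfFinitePresentation T.hom)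
      (t : T.left) (_ : T.hom t = s) (E : Over T.left), IsSeparated E.hom ∧
        LocallyQuasiFinite E.hom ∧ LocallyOfFiniteType E.hom ∧
        Nonempty ((restr T.hom F).RepresentableBy E)) :
    ∃ E : Over S, Nonempty (F.RepresentableBy E) := by
  have key : ∀ s : S, ∃ (W : S.Opens) (_ : s ∈ W) (U : Over W.toScheme),
      Nonempty ((restr W.ι F).RepresentableBy U) := by
    intro s
    obtain ⟨T, hT, hT', t, hts, E, hE1, hE2, hE3, ⟨e⟩⟩ := H s
    obtain ⟨W₀, hW₀, hsW⟩ : ∃ W₀ : S.Opens, IsAffineOpen W₀ ∧ s ∈ W₀ := by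
      obtain ⟨_, ⟨W₀, hW₀, rfl⟩, hsW, -⟩ := S.isBasis_affineOpens.exists_subset_of_mem_open
        (Set.mem_univ s) isOpen_univ
      exact ⟨W₀, hW₀, hsW⟩
    obtain ⟨T₁, hT₁, htT, hTW⟩ : ∃ T₁ : T.left.Opens, IsAffineOpen T₁ ∧ t ∈ T₁ ∧
        T₁ ≤ T.hom ⁻¹ᵁ W₀ := by
      obtain ⟨_, ⟨T₁, hT₁, rfl⟩, htT, hTW⟩ :=
        T.left.isBasis_affineOpens.exists_subset_of_mem_open (a := t)
        (show t ∈ T.hom ⁻¹ᵁ W₀ by change T.hom t ∈ W₀; rw [hts]; exact hsW) (T.hom ⁻¹ᵁ W₀).2
      exact ⟨T₁, hT₁, htT, hTW⟩
    have : IsAffine T₁.toScheme := hT₁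
    have : IsAffine W₀.toScheme := hW₀
    -- the map `T₁ ⟶ W₀`
    let q₀ : T₁.toScheme ⟶ W₀.toScheme := T.hom.resLE W₀ T₁ hTW
    have hq₀ : q₀ ≫ W₀.ι = T₁.ι ≫ T.hom := by simp [q₀]
    let r : T₁.toScheme ⟶ S := T₁.ι ≫ T.hom
    have hr : Flat r := inferInstance
    have hr' : LocallyOfFinitePresentation r := inferInstance
    have hro : IsOpenMap r := r.isOpenMap
    let W : S.Opens := ⟨Set.range r, hro.isOpen_range⟩
    have hsW' : s ∈ W := by
      refine ⟨⟨t, htT⟩, ?_⟩
      rw [← hts]
      rfl
    let q : T₁.toScheme ⟶ W.toScheme := IsOpenImmersion.lift W.ι r (by simp [W])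
    have hq : q ≫ W.ι = r := IsOpenImmersion.lift_fac _ _ _
    have hWι : IsOpenImmersion W.ι := inferInstance
    have hqe : Flat q := MorphismProperty.of_postcomp (W := @Flat) q W.ι hWι (by rwa [hq])
    have hqe' : LocallyOfFinitePresentation q :=
      MorphismProperty.of_postcomp (W := @LocallyOfFinitePresentation) q W.ι hWι (by rwa [hq])
    have hqs : Surjective q := by
      refine ⟨fun w => ?_⟩
      obtain ⟨t', ht'⟩ := w.2
      refine ⟨t', ?_⟩
      apply W.ι.injective
      rw [← Scheme.Hom.comp_apply, hq]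
      exact ht'
    have hqc : QuasiCompact q := by
      have hWW : W ≤ W₀ := by
        rintro _ ⟨t', rfl⟩
        exact hTW t'.2
      have h1 : q ≫ S.homOfLE hWW = q₀ := by
        rw [← cancel_mono W₀.ι, Category.assoc, Scheme.homOfLE_ι, hq, hq₀]
      have : QuasiCompact (q ≫ S.homOfLE hWW) := by rw [h1]; infer_instance
      exact QuasiCompact.of_comp q (S.homOfLE hWW)
    -- the representing object over `T₁`
    let E₁ : Over T₁.toScheme := (Over.pullback T₁.ι).obj E
    have i1 : IsSeparated E₁.hom := inferInstanceAs (IsSeparated (pullback.snd E.hom T₁.ι))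
    have i2 : LocallyQuasiFinite E₁.hom :=
      inferInstanceAs (LocallyQuasiFinite (pullback.snd E.hom T₁.ι))
    have i3 : LocallyOfFiniteType E₁.hom :=
      inferInstanceAs (LocallyOfFiniteType (pullback.snd E.hom T₁.ι))
    let e₁ : (restr q (restr W.ι F)).RepresentableBy E₁ :=
      (pullRep T₁.ι e).ofIso (restrCompIso rfl F ≪≫ (restrCompIso hq F).symm)
    have hsh : IsPSheaf q (restr W.ι F) := by
      intro T₂
      apply IsDesc.restr
      have h1 : Flat ((Over.map W.ι).map (projT q T₂)).left := by
        change Flat (pullback.snd q T₂.hom)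
        infer_instance
      have h2 : Surjective ((Over.map W.ι).map (projT q T₂)).left := by
        change Surjective (pullback.snd q T₂.hom)
        infer_instance
      have h3 : LocallyOfFinitePresentation ((Over.map W.ι).map (projT q T₂)).left := by
        change LocallyOfFinitePresentation (pullback.snd q T₂.hom)
        infer_instance
      exact hF _ h1 h3 h2
    obtain ⟨U, hU⟩ := exists_rep_of_fppf q hsh E₁ e₁
    exact ⟨W, hsW', U, hU⟩
  choose W hW U e using key
  obtain ⟨E, hE, -⟩ := exists_rep_of_openCover W (fun s => ⟨s, hW s⟩) U (fun s => (e s).some) hZ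
  exact ⟨E, hE⟩

end K594.RepDesc
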