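import Groth.Agent.AlgSp.K594.ConfQ
import Groth.Agent.AlgSp.K617.Strat
import Mathlib.SetTheory.Cardinal.Finite

/-!
# The étale separated scheme over the locus with at least `n` geometric points in the fibres of a chart

For an étale separated chart `p : h_U ⟶ X` with `U` affine and `n ≥ 1` the quotient `Y` of the scheme of `n`-tuples of
distinct points by the symmetric group is a separated scheme, étale over `X` with image `GEX p n`, and `Y ⟶ X` is a
monomorphism over the complement of `GEX p (n + 1)`.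
-/

set_option autoImplicit false
universe v w u

open CategoryTheory CategoryTheory.Limits AlgebraicGeometry Opposite

namespace K594.Strata

open AlgSp K613.Basic K613.Cover K613.Chart K613.Diag K651.Wide K651.Conf K651.ConfQuot K594.ConfQ
open K617.EtFin K617.Strat

variable {S : Scheme.{u}} {X : Sp S} {U : Over S} {p : (yon S).obj U ⟶ X}

/-- Two distinct field valued points agree nowhere. -/
theorem nEq_of_ne {Ω : Type u} [Field Ω] {str : Spec (CommRingCat.of Ω) ⟶ S} {a b : Over.mk str ⟶ U} (h : a ≠ b) :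
    NEq a b := by
  intro R r hR hr
  obtain ⟨x⟩ := hR
  apply h
  let i : Over.mk (frf R.left x ≫ R.hom) ⟶ R := Over.homMk (frf R.left x) rfl
  have h1 : (i ≫ r) ≫ a = (i ≫ r) ≫ b := by rw [Category.assoc, hr, Category.assoc]
  apply Over.OverMorphism.ext
  have h3 := congrArg CommaMorphism.left h1
  have : Epi (i ≫ r).left := epi_Spec_field (Ω := Ω) (Ω' := ↥(R.left.residueField x)) (i ≫ r).left
  exact (cancel_epi (i ≫ r).left).1 h3

theorem ne_of_nEq {T : Over S} {a b : T ⟶ U} (h : NEq a b) [Nonempty T.left] : a ≠ b := by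
  intro e
  exact h T (𝟙 T) inferInstance (by rw [e])

variable {ι : Type u} {E : Over S} {π : ι → (E ⟶ U)}

/-- The image of the scheme of configurations. -/
theorem range_conf (n : ℕ) (e : Fin n ≃ ι) (hE : IsConf p E π) (i₀ : ι) :
    Set.range (Points.ofPt ((yon S).map (π i₀) ≫ p)) = GEX p n := by
  ext x
  constructor
  · rintro ⟨y, rfl⟩
    let i : Over.mk (frf E.left y ≫ E.hom) ⟶ E := Over.homMk (frf E.left y) rfl
    have hne : Nonempty (Over.mk (frf E.left y ≫ E.hom)).left := ⟨pt (E.left.residueField y)⟩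
    refine ⟨E.left.residueField y, inferInstance, frf E.left y ≫ E.hom, (yon S).map i ≫ (yon S).map (π i₀) ≫ p,
      fun k => i ≫ π (e k), fun t => ?_, fun k l hkl => ?_, fun k => ?_⟩
    · rw [K610.Base.ofPt_map_comp]
      congr 1
      exact frf_apply _ _ _
    · by_contra hne'
      exact ne_of_nEq ((hE.ne (e k) (e l) (fun h => hne' (e.injective h))).precomp i) hkl
    · rw [Functor.map_comp, Category.assoc, hE.w (e k) i₀]
  · rintro ⟨Ω, _, str, ξ, σ, ht, hσ, hf⟩
    obtain ⟨g, hg⟩ := hE.lift (Over.mk str) (fun k => σ (e.symm k)) (fun k l => by rw [hf, hf])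
      (fun k l hkl => nEq_of_ne fun h => hkl (e.symm.injective (hσ h)))
    refine ⟨g.left (pt Ω), ?_⟩
    rw [← K610.Base.ofPt_map_comp, ← Category.assoc, ← Functor.map_comp, hg, hf]
    exact ht _

section mono

variable {Y : Over S} {q : E ⟶ Y} {p' : (yon S).obj Y ⟶ X}

/-- Locally near a point outside of `GEX p (n + 1)` two configurations differ by a permutation. -/
theorem exists_perm (hp : RepWith @Etale p) (hU : IsSeparated U.hom) (n : ℕ) (e : Fin n ≃ ι) (hE : IsConf p E π)
    (i₀ : ι) {T : Over S} (a c : T ⟶ E)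
    (hac : (yon S).map (a ≫ π i₀) ≫ p = (yon S).map (c ≫ π i₀) ≫ p) (t : T.left)
    (ht : Points.ofPt ((yon S).map (a ≫ π i₀) ≫ p) t ∉ GEX p (n + 1)) :
    ∃ (V : Over S) (v : V ⟶ T), IsOpenImmersion v.left ∧ t ∈ Set.range v.left ∧ ∃ σ : Equiv.Perm ι,
      v ≫ a = v ≫ c ≫ act hE σ := by
  have hfin : Finite ι := Finite.of_equiv _ e
  have hw : ∀ i j, (yon S).map (a ≫ π i) ≫ p = (yon S).map (c ≫ π j) ≫ p := by
    intro i j
    rw [Functor.map_comp, Category.assoc, hE.w i i₀, ← Category.assoc, ← Functor.map_comp, hac, Functor.map_comp,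
      Category.assoc, hE.w i₀ j, ← Category.assoc, ← Functor.map_comp]
  have hD : ∀ i j, ∃ (E' : Over S) (e' : E' ⟶ T), IsOpenImmersion e'.left ∧ IsClosedImmersion e'.left ∧
      e' ≫ a ≫ π i = e' ≫ c ≫ π j ∧
      ∀ (R : Over S) (r : R ⟶ T), r ≫ a ≫ π i = r ≫ c ≫ π j → ∃ r' : R ⟶ E', r' ≫ e' = r :=
    fun i j => exists_clopen hp hU _ _ (hw i j)
  choose D d hdo hdc hdw hdl using hD
  let κ : Over.mk (frf T.left t ≫ T.hom) ⟶ T := Over.homMk (frf T.left t) rfl
  have hne : Nonempty (Over.mk (frf T.left t ≫ T.hom)).left := ⟨pt (T.left.residueField t)⟩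
  have hmem : ∀ i j, κ ≫ a ≫ π i = κ ≫ c ≫ π j → t ∈ Set.range (d i j).left := by
    intro i j h
    obtain ⟨r', hr'⟩ := hdl i j _ κ h
    refine ⟨r'.left (pt (T.left.residueField t)), ?_⟩
    rw [← Scheme.Hom.comp_apply, ← Over.comp_left, hr']
    exact frf_apply _ _ _
  have hmem' : ∀ i j, t ∈ Set.range (d i j).left → κ ≫ a ≫ π i = κ ≫ c ≫ π j := by
    intro i j h
    have hr : Set.range κ.left ⊆ Set.range (d i j).left := by
      rintro _ ⟨z, rfl⟩
      have : κ.left z = t := frf_apply _ _ _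
      rw [this]
      exact h
    have := hdo i j
    let l : Over.mk (frf T.left t ≫ T.hom) ⟶ D i j := Over.homMk (IsOpenImmersion.lift (d i j).left κ.left hr) (by
      rw [← Over.w (d i j), IsOpenImmersion.lift_fac_assoc, Over.w])
    have hl : l ≫ d i j = κ := by
      ext1
      exact IsOpenImmersion.lift_fac _ _ _
    rw [← hl, Category.assoc, Category.assoc, hdw]
  -- every component of `a` is one of the components of `c` at `t`
  have hex : ∀ i, ∃ j, t ∈ Set.range (d i j).left := by
    intro i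
    by_contra hcon
    push Not at hcon
    apply ht
    refine ⟨T.left.residueField t, inferInstance, frf T.left t ≫ T.hom,
      (yon S).map κ ≫ (yon S).map (a ≫ π i₀) ≫ p, Fin.cons (κ ≫ a ≫ π i) (fun k => κ ≫ c ≫ π (e k)),
      fun z => ?_, ?_, ?_⟩
    · rw [K610.Base.ofPt_map_comp]
      congr 1
      exact frf_apply _ _ _
    · rw [Fin.cons_injective_iff]
      constructor
      · rintro ⟨k, hk⟩
        exact hcon (e k) (hmem _ _ hk.symm)
      · intro k l hkl
        by_contra hne'
        have h1 := ne_of_nEq (((hE.ne (e k) (e l) (fun h => hne' (e.injective h))).precomp c).precomp κ)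
        exact h1 hkl
    · intro k
      refine Fin.cases ?_ (fun k => ?_) k
      · rw [Fin.cons_zero, Functor.map_comp, Category.assoc, hw i i₀, ← hw i₀ i₀]
      · rw [Fin.cons_succ, Functor.map_comp, Category.assoc, ← hw i₀ (e k)]
  choose f hf using hex
  have hfinj : Function.Injective f := by
    intro i i' h
    by_contra hne'
    refine ne_of_nEq (((hE.ne i i' hne').precomp a).precomp κ) ?_
    rw [hmem' _ _ (hf i), hmem' _ _ (hf i'), h]
  let σ : Equiv.Perm ι := Equiv.ofBijective f (Finite.injective_iff_bijective.1 hfinj)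
  have hO : IsOpen (⋂ i, Set.range (d i (f i)).left) := isOpen_iInter_of_finite fun i => by
    have := hdo i (f i)
    exact (d i (f i)).left.isOpenEmbedding.isOpen_range
  let N : T.left.Opens := ⟨_, hO⟩
  let V : Over S := Over.mk (N.ι ≫ T.hom)
  let v : V ⟶ T := Over.homMk N.ι rfl
  refine ⟨V, v, inferInstanceAs (IsOpenImmersion N.ι), ?_, σ, ?_⟩
  · change t ∈ Set.range N.ι
    rw [Scheme.Opens.range_ι]
    exact Set.mem_iInter.2 hf
  · apply hE.ext
    intro i
    rw [Category.assoc, Category.assoc, Category.assoc, act_π]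
    have := hdo i (f i)
    have hr : Set.range v.left ⊆ Set.range (d i (f i)).left := by
      rintro _ ⟨z, rfl⟩
      have : v.left z ∈ N := by
        have h2 : v.left z ∈ Set.range N.ι := ⟨z, rfl⟩
        rwa [Scheme.Opens.range_ι] at h2
      exact Set.mem_iInter.1 this i
    let l : V ⟶ D i (f i) := Over.homMk (IsOpenImmersion.lift (d i (f i)).left v.left hr) (by
      rw [← Over.w (d i (f i)), IsOpenImmersion.lift_fac_assoc, Over.w])
    have hl : l ≫ d i (f i) = v := by
      ext1
      exact IsOpenImmersion.lift_fac _ _ _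
    rw [← hl, Category.assoc, Category.assoc, hdw]
    rfl

theorem hom_ext_local {T Z : Over S} {a b : T ⟶ Z} (h : ∀ t : T.left, ∃ (V : Over S) (v : V ⟶ T),
    IsOpenImmersion v.left ∧ t ∈ Set.range v.left ∧ v ≫ a = v ≫ b) : a = b := by
  choose V v h1 h2 h3 using h
  ext1
  let 𝒰 : Scheme.OpenCover.{u} T.left :=
    Scheme.Cover.mkOfCovers (P := @IsOpenImmersion) T.left (fun t => (V t).left) (fun t => (v t).left)
      (fun t => ⟨t, h2 t⟩) h1
  apply 𝒰.hom_ext
  intro t
  exact congrArg (·.left) (h3 t)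

/-- Over the complement of `GEX p (n + 1)` the morphism from the quotient is injective on points with values in
schemes. -/
theorem eq_of_notMem (hp : RepWith @Etale p) (hU : IsSeparated U.hom) (n : ℕ) (e : Fin n ≃ ι) (hE : IsConf p E π)
    (i₀ : ι) (hq : EtC q) (hqp : (yon S).map q ≫ p' = (yon S).map (π i₀) ≫ p) (hact : ∀ σ, act hE σ ≫ q = q)
    {T : Over S} (a c : T ⟶ Y) (hac : (yon S).map a ≫ p' = (yon S).map c ≫ p')
    (hd : ∀ t : T.left, Points.ofPt ((yon S).map a ≫ p') t ∉ GEX p (n + 1)) : a = c := by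
  have sq1 := IsPullback.of_hasPullback q a
  have h1 : EtC (pullback.snd q a) := hq.of_isPullback sq1
  have sq2 := IsPullback.of_hasPullback q (pullback.snd q a ≫ c)
  have h2 : EtC (pullback.snd q (pullback.snd q a ≫ c)) := hq.of_isPullback sq2
  let T' := pullback q (pullback.snd q a ≫ c)
  let ρ : T' ⟶ T := pullback.snd q (pullback.snd q a ≫ c) ≫ pullback.snd q a
  have hρ : EtC ρ := h1.comp h2
  let a' : T' ⟶ E := pullback.snd q (pullback.snd q a ≫ c) ≫ pullback.fst q a
  let c' : T' ⟶ E := pullback.fst q (pullback.snd q a ≫ c)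
  have ha' : a' ≫ q = ρ ≫ a := by
    simp only [a', ρ, Category.assoc, pullback.condition]
  have hc' : c' ≫ q = ρ ≫ c := by
    simp only [c', ρ, Category.assoc, pullback.condition]
  have hra : (yon S).map (a' ≫ π i₀) ≫ p = (yon S).map ρ ≫ (yon S).map a ≫ p' := by
    rw [Functor.map_comp, Category.assoc, ← hqp, ← Category.assoc, ← Functor.map_comp, ha', Functor.map_comp,
      Category.assoc]
  have hrc : (yon S).map (c' ≫ π i₀) ≫ p = (yon S).map ρ ≫ (yon S).map c ≫ p' := by
    rw [Functor.map_comp, Category.assoc, ← hqp, ← Category.assoc, ← Functor.map_comp, hc', Functor.map_comp,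
      Category.assoc]
  have key : a' ≫ q = c' ≫ q := by
    apply hom_ext_local
    intro t
    obtain ⟨V, v, hv1, hv2, σ, hσ⟩ := exists_perm hp hU n e hE i₀ a' c' (by rw [hra, hrc, hac]) t (by
      rw [hra, K610.Base.ofPt_map_comp]
      exact hd _)
    refine ⟨V, v, hv1, hv2, ?_⟩
    rw [← Category.assoc, hσ, Category.assoc, Category.assoc, hact]
  apply (yon S).map_injective
  have := hρ.fpC.epi
  rw [← cancel_epi ((yon S).map ρ), ← Functor.map_comp, ← Functor.map_comp, ← ha', ← hc', key]

end mono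

/-- **The étale separated scheme over `GEX p n`.** -/
theorem exists_level (hX : Representable (Limits.diag X)) (hp : RepWith @Etale p) [IsAffine U.left] (n : ℕ)
    (hn : 1 ≤ n) : ∃ (Y : Over S) (f : (yon S).obj Y ⟶ X), RepWith @Etale f ∧ Y.left.IsSeparated ∧
      Set.range (Points.ofPt f) = GEX p n ∧
      (∀ (T : Over S) (a c : T ⟶ Y), (yon S).map a ≫ f = (yon S).map c ≫ f →
        (∀ t : T.left, Points.ofPt ((yon S).map a ≫ f) t ∉ GEX p (n + 1)) → a = c) ∧
      (RepWith @QuasiCompact p → CompactSpace Y.left) := by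
  have hU : IsSeparated U.hom := inferInstance
  let ι : Type u := ULift.{u} (Fin n)
  have hne : Nonempty ι := ⟨⟨⟨0, hn⟩⟩⟩
  let e : Fin n ≃ ι := Equiv.ulift.symm
  obtain ⟨E, π, hE, hU', hqc⟩ : ∃ (E : Over S) (π : ι → (E ⟶ U)), IsConf p E π ∧
      (∀ i, Etale (π i).left ∧ IsSeparated (π i).left) ∧
      (RepWith @QuasiCompact p → ∀ i, QuasiCompact (π i).left) := by
    by_cases h : RepWith @QuasiCompact p
    · obtain ⟨E, π, h1, h2, h3⟩ := exists_conf_qc hp hU h ι
      exact ⟨E, π, h1, h2, fun _ => h3⟩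
    · obtain ⟨E, π, h1, h2⟩ := exists_conf hX hp hU ι
      exact ⟨E, π, h1, h2, fun h' => absurd h' h⟩
  let i₀ : ι := ⟨⟨0, hn⟩⟩
  obtain ⟨Y, q, f, h1, h2, h3, h4, h5, h6⟩ := K594.ConfQ.exists_quot hX hE hU' hp
  refine ⟨Y, f, h1, h4, ?_, fun T a c hac hd => ?_, fun h => ?_⟩
  · rw [← range_conf n e hE i₀, ← h5 i₀]
    ext x
    constructor
    · rintro ⟨y, rfl⟩
      obtain ⟨z, rfl⟩ := h2.surj.surj y
      exact ⟨z, K610.Base.ofPt_map_comp _ _ _⟩
    · rintro ⟨z, rfl⟩
      exact ⟨q.left z, (K610.Base.ofPt_map_comp _ _ _).symm⟩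
  · exact eq_of_notMem hp hU n e hE i₀ h2 (h5 i₀) h6 a c hac hd
  · have h7 := hqc h i₀
    have h8 : CompactSpace E.left := QuasiCompact.compactSpace_of_compactSpace (π i₀).left
    have h9 := h2.surj
    exact ⟨by
      rw [← h9.surj.range_eq]
      exact isCompact_range q.left.continuous⟩

end K594.Strata
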