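import Groth.Agent.AlgSp.K594.Strata
import Groth.Agent.AlgSp.K598.Red
import Groth.Agent.AlgSp.K609.QC
import Groth.Agent.AlgSp.K619.ZarDec

/-!
# Stratification of a quasi-compact algebraic space by schemes

`exists_filtration` : for an affine étale chart `p` of an algebraic space `X` the open subspaces `U_n` of points with at
least `n` geometric points in the fibre of `p`, the reduced complements `T_n` of `U_{n + 1}` in `U_n` and the separated
étale surjective `V_n ⟶ U_n` which are isomorphisms over `T_n`.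
-/

set_option autoImplicit false
universe v w u

open CategoryTheory CategoryTheory.Limits AlgebraicGeometry Opposite

namespace K594.StrataSp

open AlgSp K613.Basic K613.Cover K613.Chart K613.Diag K594.Strata
open K617.EtFin K617.Strat

variable {S : Scheme.{u}}

theorem isPullback_mono {F G H : Sp S} (g : F ⟶ G) (j : G ⟶ H) [Mono j] : IsPullback g (𝟙 F) j (g ≫ j) := by
  refine ⟨⟨by rw [Category.id_comp]⟩, ⟨PullbackCone.IsLimit.mk _ (fun s => s.snd) (fun s => ?_) (fun s => ?_)
    (fun s m h1 h2 => ?_)⟩⟩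
  · rw [← cancel_mono j, Category.assoc]
    exact s.condition.symm
  · exact Category.comp_id _
  · rw [← h2, Category.comp_id]

theorem repWith_of_comp_mono (P : MorphismProperty Scheme.{u}) [P.IsStableUnderBaseChange] {F G H : Sp S} (g : F ⟶ G)
    (j : G ⟶ H) [Mono j] (h : RepWith P (g ≫ j)) : RepWith P g :=
  MorphismProperty.of_isPullback (P := RepWith P) (isPullback_mono g j).flip h

theorem isIso_of_openImmersion {F G : Sp S} (j : F ⟶ G) (hj : RepWith @IsOpenImmersion j)
    (h : Set.range (Points.map j) = Set.univ) : IsIso j := by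
  have := K610.Factor.mono_of_isOpenImmersion hj
  obtain ⟨g, hg⟩ := (K610.Factor.factors_open_iff hj (𝟙 G)).2 (by rw [h]; exact Set.subset_univ _)
  refine ⟨g, ?_, hg⟩
  rw [← cancel_mono j, Category.assoc, hg, Category.comp_id, Category.id_comp]

theorem isIso_of_hom {X Y : Space S} (f : X ⟶ Y) (h : IsIso f.hom) : IsIso f := by
  refine ⟨⟨⟨inv f.hom⟩, ?_, ?_⟩⟩
  · ext1
    exact IsIso.hom_inv_id f.hom
  · ext1
    exact IsIso.inv_hom_id f.hom

theorem exists_filtration (X : Space S) {U : Over S} [IsAffine U.left] (p : (yon S).obj U ⟶ X.obj)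
    (hp : RepWith @Etale p) (hs : RepWith @Surjective p) :
    ∃ (Uo : ℕ → AlgSp.Space S) (j : ∀ p, Uo p ⟶ X) (k : ∀ p, Uo (p + 1) ⟶ Uo p)
      (T : ℕ → AlgSp.Space S) (i : ∀ p, T p ⟶ Uo p),
      (∀ p, AlgSp.RepWith @IsOpenImmersion (j p).hom) ∧ (∀ p, k p ≫ j p = j (p + 1)) ∧ IsIso (j 1) ∧
      (∀ p, AlgSp.IsRedInduced (Set.range (AlgSp.Points.map (k p).hom))ᶜ (i p).hom) ∧
      (∀ n, Set.range (Points.map (j n).hom) = GEX p n) ∧
      (∀ n, GEX p n \ GEX p (n + 1) ⊆ Set.range (Points.map (i n ≫ j n).hom)) ∧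
      (∀ n, 1 ≤ n → ∃ (V : Over S) (f : (AlgSp.yon S).obj V ⟶ (Uo n).obj), V.left.IsSeparated ∧
        (RepWith @QuasiCompact p → CompactSpace ↥V.left) ∧
        AlgSp.RepWith @Etale f ∧ AlgSp.RepWith @Surjective f ∧
        ∀ (P : AlgSp.Sp S) (fst : P ⟶ (T n).obj) (snd : P ⟶ (AlgSp.yon S).obj V),
          IsPullback fst snd (i n).hom f → IsIso fst) := by
  have hU : IsSeparated U.hom := inferInstance
  have hps : RepWith @IsSeparated p := K594.ConfQ.repWith_isSeparated hp.1 hU
  choose Uo j hj hrj using fun n => K610.Sub.exists_open_subspace X (GEX p n) (isOpen_GEX p hp hps n)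
  have hm : ∀ n, Mono (j n).hom := fun n => K610.Factor.mono_of_isOpenImmersion (hj n)
  have hinj : ∀ n, Function.Injective (Points.map (j n).hom) := fun n => K619.ZarDec.map_injective_of_mono _
  have hk : ∀ n, ∃ k : Uo (n + 1) ⟶ Uo n, k ≫ j n = j (n + 1) := by
    intro n
    obtain ⟨g, hg⟩ := (K610.Factor.factors_open_iff (hj n) (j (n + 1)).hom).2 (by
      rw [hrj, hrj]
      exact GEX_antitone p (Nat.le_succ n))
    refine ⟨⟨g⟩, ?_⟩
    ext1
    exact hg
  choose k hk using hk
  have hrk : ∀ n, Set.range (Points.map (k n).hom) = Points.map (j n).hom ⁻¹' GEX p (n + 1) := by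
    intro n
    have h1 : (j (n + 1)).hom = (k n).hom ≫ (j n).hom := by rw [← hk n]; rfl
    ext x
    constructor
    · rintro ⟨y, rfl⟩
      rw [Set.mem_preimage, ← Points.map_comp, ← h1, ← hrj]
      exact ⟨y, rfl⟩
    · intro hx
      rw [Set.mem_preimage, ← hrj] at hx
      obtain ⟨y, hy⟩ := hx
      refine ⟨y, hinj n ?_⟩
      rw [← Points.map_comp, ← h1, hy]
  have hT : ∀ n, ∃ (T : Space S) (i : T ⟶ Uo n),
      IsRedInduced (Set.range (AlgSp.Points.map (k n).hom))ᶜ i.hom := by
    intro n
    obtain ⟨Z, i, h1, h2⟩ := K598.Red.exists_isRedInduced (Uo n).2 (Set.range (AlgSp.Points.map (k n).hom))ᶜ (by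
      rw [isClosed_compl_iff, hrk]
      exact (isOpen_GEX p hp hps (n + 1)).preimage (Points.continuous_map _))
    exact ⟨⟨Z, h1⟩, ⟨i⟩, h2⟩
  choose T i hi using hT
  have hri : ∀ n, Set.range (Points.map (i n ≫ j n).hom) = GEX p n \ GEX p (n + 1) := by
    intro n
    have h1 : (i n ≫ j n).hom = (i n).hom ≫ (j n).hom := rfl
    ext x
    constructor
    · rintro ⟨y, rfl⟩
      rw [h1, Points.map_comp]
      refine ⟨?_, fun h => ?_⟩
      · rw [← hrj n]
        exact ⟨_, rfl⟩
      · have h2 : Points.map (i n).hom y ∈ (Set.range (AlgSp.Points.map (k n).hom))ᶜ := by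
          rw [← (hi n).2.1]
          exact ⟨y, rfl⟩
        apply h2
        rw [hrk]
        exact h
    · rintro ⟨h2, h3⟩
      rw [← hrj n] at h2
      obtain ⟨y, rfl⟩ := h2
      have h4 : y ∈ (Set.range (AlgSp.Points.map (k n).hom))ᶜ := by
        rw [hrk]
        exact h3
      rw [← (hi n).2.1] at h4
      obtain ⟨z, rfl⟩ := h4
      exact ⟨z, by rw [h1, Points.map_comp]⟩
  refine ⟨Uo, j, k, T, i, hj, hk, ?_, hi, hrj, fun n => (hri n).ge, fun n hn => ?_⟩
  · apply isIso_of_hom
    apply isIso_of_openImmersion _ (hj 1)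
    rw [hrj, GEX_one p hp.1]
    exact (K610.Base.surjective_ofPt hs).range_eq
  · obtain ⟨V, f, h1, h2, h3, h4, h5⟩ := exists_level X.2.diag hp n hn
    obtain ⟨g, hg⟩ := K610.Factor.exists_lift_open (hj n) f (by rw [h3, hrj])
    have hge : RepWith @Etale g := repWith_of_comp_mono _ g (j n).hom (by rw [hg]; exact h1)
    have hgs : RepWith @Surjective g := by
      apply K610.Base.repWith_surjective_of_points hge.1
      intro x
      have hx : Points.map (j n).hom x ∈ Set.range (Points.ofPt f) := by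
        rw [h3, ← hrj n]
        exact ⟨x, rfl⟩
      obtain ⟨v, hv⟩ := hx
      refine ⟨Points.ofScheme V v, hinj n ?_⟩
      rw [← Points.map_comp, hg, ← hv, ← Points.ofPt_eq_map_ofScheme]
    refine ⟨V, g, h2, h5, hge, hgs, fun P fst snd sq => ?_⟩
    have he : RepWith @Etale fst := MorphismProperty.of_isPullback (P := RepWith @Etale) sq.flip hge
    have hs' : RepWith @Surjective fst := MorphismProperty.of_isPullback (P := RepWith @Surjective) sq.flip hgs
    have hfs : FSurj fst := (ESurj.of_repWith he hs').fSurj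
    have hmono : Mono fst := by
      apply mono_of_injective
      intro R a c hac
      apply sq.hom_ext hac
      obtain ⟨a', ha'⟩ := (yon S).map_surjective (a ≫ snd)
      obtain ⟨c', hc'⟩ := (yon S).map_surjective (c ≫ snd)
      rw [← ha', ← hc']
      congr 1
      have hfa : (yon S).map a' ≫ f = a ≫ fst ≫ (i n).hom ≫ (j n).hom := by
        rw [ha', ← hg, Category.assoc, ← reassoc_of% sq.w]
      have hfc : (yon S).map c' ≫ f = c ≫ fst ≫ (i n).hom ≫ (j n).hom := by
        rw [hc', ← hg, Category.assoc, ← reassoc_of% sq.w]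
      refine h4 R a' c' ?_ fun t => ?_
      · rw [hfa, hfc, reassoc_of% hac]
      · rw [hfa]
        have h6 : Points.ofPt (a ≫ fst ≫ (i n).hom ≫ (j n).hom) t ∈
            Set.range (Points.map (i n ≫ j n).hom) :=
          ⟨Points.ofPt (a ≫ fst) t, by
            rw [Points.map_ofPt, Category.assoc]
            rfl⟩
        rw [hri] at h6
        exact h6.2
    exact FSurj.isIso_of_mono hfs

/-- A point with a quasi-compact representative has finite multiplicity. -/
theorem exists_notMem_GEX {X : Sp S} {U : Over S} [IsAffine U.left] (p : (yon S).obj U ⟶ X)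
    (hp : RepWith @Etale p) (q : FieldPt X) (hq : RepWith @QuasiCompact q.toHom) :
    ∃ n, Points.mk q ∉ GEX p n := by
  obtain ⟨V, snd, fst, sq⟩ := hp.1 q.toHom
  have h1 : Etale snd.left := hp.2 _ fst snd sq
  obtain ⟨fst, rfl⟩ := (yon S).map_surjective fst
  have h2 : QuasiCompact fst.left := hq.2 p _ fst sq.flip
  have h3 : CompactSpace V.left := QuasiCompact.compactSpace_of_compactSpace fst.left
  obtain ⟨n, hn⟩ := GE_eq_empty_of_compactSpace (k := q.K) snd.left
  refine ⟨n, fun h => ?_⟩
  have h4 : (pt q.K : ↥q.pt.left) ∈ Points.ofPt q.toHom ⁻¹' GEX p n := by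
    rw [Set.mem_preimage, Points.ofPt_toHom]
    exact h
  rw [preimage_GEX sq, hn] at h4
  exact h4

end K594.StrataSp
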