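import Groth.Agent.AlgSp.K594.AlgWrap
import Groth.Agent.AlgSp.K594.RepAlg

/-!
# Closed immersions with a given ideal

`IsV k c`: `k` is a closed immersion with family of ideals `c`.  `FSys`: formal finite spaces over `X`.
-/

set_option autoImplicit false
universe u
open CategoryTheory CategoryTheory.Limits AlgebraicGeometry Opposite
open AlgSp K598.Site K598.RepKit K598.ClFam K598.Charts
open K594.FamOps K594.AlgSch K594.AlgChart K594.AlgStep K597.ProperSub K594.ThickCl

namespace K594.VKit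

section V

variable {S : Scheme.{u}} {G G' H H' Z : Sp S}

/-- `k` is the closed immersion with ideal `c`. -/
def IsV (k : G ⟶ H) (c : Fam H) : Prop := ∃ h : RepWith @IsClosedImmersion k, ofClosed k h = c

theorem isV_ι (c : Fam H) : IsV c.ι c := ⟨c.repWith_ι, ofClosed_ι c⟩

variable {k : G ⟶ H} {c : Fam H}

theorem IsV.rep (h : IsV k c) : RepWith @IsClosedImmersion k := h.1

theorem IsV.mono (h : IsV k c) : Mono k := mono_of_repWith_isClosedImmersion h.1

theorem IsV.alg (h : IsV k c) (hH : IsAlgSpace H) : IsAlgSpace G := isAlgSpace_of_repWith_isClosedImmersion h.1 hH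

theorem fam_bot_iff {c : Fam H} : c = base H ⊥ ↔ ∀ (T : Over S) (g : (yon S).obj T ⟶ H), c.I g = ⊥ := by
  constructor
  · rintro rfl T g
    exact Scheme.IdealSheafData.comap_bot _
  · intro h
    ext T g : 3
    rw [h]
    exact (Scheme.IdealSheafData.comap_bot _).symm

theorem IsV.factors (h : IsV k c) (f : Z ⟶ H) : (∃ l, l ≫ k = f) ↔ pull f c = base Z ⊥ := by
  obtain ⟨h, rfl⟩ := h
  rw [factors_iff h, fam_bot_iff]
  rfl

theorem IsV.self (h : IsV k c) : pull k c = base G ⊥ := (h.factors k).1 ⟨𝟙 _, Category.id_comp _⟩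

theorem IsV.pull {a : G' ⟶ G} {b : G' ⟶ H'} {f : H' ⟶ H} (h : IsV k c) (sq : IsPullback a b k f) :
    IsV b (pull f c) := by
  obtain ⟨h, rfl⟩ := h
  exact ⟨repWith_of_isPullback sq h, ofClosed_pullback h sq _⟩

theorem IsV.ext {k' : G' ⟶ H} (h : IsV k c) (h' : IsV k' c) : ∃ e : G ≅ G', e.hom ≫ k' = k ∧ e.inv ≫ k = k' := by
  obtain ⟨h, e⟩ := h
  obtain ⟨h', e'⟩ := h'
  exact exists_iso_of_eq h h' (e.trans e'.symm)

theorem IsV.sq (h : IsV k c) {f : H' ⟶ H} {k' : G' ⟶ H'} (h' : IsV k' (K594.FamOps.pull f c)) :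
    ∃ a : G' ⟶ G, IsPullback a k' k f := by
  have hm := h.mono
  have hm' := h'.mono
  have sq := IsPullback.of_hasPullback k f
  obtain ⟨e, he, -⟩ := h'.ext (h.pull sq)
  exact ⟨e.hom ≫ pullback.fst k f, IsPullback.of_iso_pullback ⟨by rw [Category.assoc, pullback.condition, ← Category.assoc, he]⟩ e rfl he⟩

/-- Transitivity. -/
theorem IsV.comp {l : H ⟶ Z} {d c' : Fam Z} (h' : IsV l d) (h : IsV k (K594.FamOps.pull l c')) (hd : d ≤ c') : IsV (k ≫ l) c' := by
  have hm := h'.mono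
  have hc : RepWith @IsClosedImmersion (k ≫ l) := MorphismProperty.comp_mem _ _ _ h.1 h'.1
  refine ⟨hc, ?_⟩
  obtain ⟨h1, rfl⟩ := h'
  apply eq_of_pull_eq h1
  · have sq : IsPullback (𝟙 _) k (k ≫ l) l := by
      refine ⟨⟨by simp⟩, ⟨PullbackCone.IsLimit.mk _ (fun s => s.fst) (fun s => by simp) (fun s => ?_)
        (fun s m h1 _ => ?_)⟩⟩
      · rw [← cancel_mono l, Category.assoc]
        exact s.condition
      · rw [← h1, Category.comp_id]
    rw [← ofClosed_pullback hc sq h.1]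
    exact h.2
  · exact (exists_hom_iff_le hc h1).1 ⟨k, rfl⟩
  · exact hd

/-- Cancellation. -/
theorem IsV.of_comp {l : H ⟶ Z} {c' : Fam Z} [Mono l] (h : IsV (k ≫ l) c') : IsV k (K594.FamOps.pull l c') := by
  have sq : IsPullback (𝟙 _) k (k ≫ l) l := by
    refine ⟨⟨by simp⟩, ⟨PullbackCone.IsLimit.mk _ (fun s => s.fst) (fun s => by simp) (fun s => ?_)
      (fun s m h1 _ => ?_)⟩⟩
    · rw [← cancel_mono l, Category.assoc]
      exact s.condition
    · rw [← h1, Category.comp_id]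
  exact h.pull sq

theorem IsV.iso_comp (h : IsV k c) (e : G' ≅ G) : IsV (e.hom ≫ k) c := by
  obtain ⟨h, rfl⟩ := h
  have hc : RepWith @IsClosedImmersion (e.hom ≫ k) := MorphismProperty.comp_mem _ _ _ (repWith_of_isIso _) h
  exact ⟨hc, le_antisymm ((exists_hom_iff_le h hc).1 ⟨e.inv, by simp⟩) ((exists_hom_iff_le hc h).1 ⟨e.hom, rfl⟩)⟩

theorem isV_yon {U V : Over S} {i : U ⟶ V} {c : Fam ((yon S).obj V)} :
    IsV ((yon S).map i) c ↔ IsClosedImmersion i.left ∧ i.left.ker = c.I (𝟙 _) := by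
  have key : ∀ h : RepWith @IsClosedImmersion ((yon S).map i), (ofClosed ((yon S).map i) h).I (𝟙 _) = i.left.ker := fun h =>
    ofClosed_eq h (IsPullback.of_horiz_isIso ⟨by simp⟩ : IsPullback (𝟙 _) ((yon S).map i) ((yon S).map i) (𝟙 _))
  constructor
  · rintro ⟨h, rfl⟩
    exact ⟨(repWith_yon_map_iff _ i).1 h, (key h).symm⟩
  · rintro ⟨h1, h2⟩
    refine ⟨(repWith_yon_map_iff _ i).2 h1, ?_⟩
    ext T g : 3
    obtain ⟨g, rfl⟩ := (yon S).map_surjective g
    rw [← Category.comp_id ((yon S).map g), Fam.comap, Fam.comap, key, h2]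

end V

section sys

variable {A : Type u} [CommRing A] (I : Ideal A)

theorem pull_En {X Y : Sp (Spec (CommRingCat.of A))} (f : X ⟶ Y) (n : ℕ) : pull f (En I Y n) = En I X n := rfl

theorem En_antitone (X : Sp (Spec (CommRingCat.of A))) (n : ℕ) : En I X (n + 1) ≤ En I X n := fun T _ =>
  Scheme.IdealSheafData.comap_mono T.hom (specKer_succ_le I n)

theorem En_bot {X Y : Sp (Spec (CommRingCat.of A))} {k : X ⟶ Y} {n : ℕ} (h : IsV k (En I Y n)) :
    En I X n = base X ⊥ := h.self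

/-- A formal finite space over `X`. -/
structure FSys (X : Sp (Spec (CommRingCat.of A))) where
  Y : ℕ → Sp (Spec (CommRingCat.of A))
  j : ∀ n, Y n ⟶ X
  fin : ∀ n, RepWith @IsFinite (j n)
  y : ∀ n, Y n ⟶ Y (n + 1)
  w : ∀ n, y n ≫ j (n + 1) = j n
  isV : ∀ n, IsV (y n) (En I (Y (n + 1)) n)

namespace FSys

variable {I} {X X' : Sp (Spec (CommRingCat.of A))} (F : FSys I X)

theorem alg (hX : IsAlgSpace X) (n : ℕ) : IsAlgSpace (F.Y n) := K594.RepAlg.isAlgSpace_of_representable hX (F.j n) (F.fin n).1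

end FSys

end sys

end K594.VKit
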